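import Groth.Agent.Lib.EssEtLoc.StrictCriterion

/-!
# The unramified part of an intermediate ring of a strict henselization
-/

universe u

open IsLocalRing TensorProduct

noncomputable section

namespace GrothLib.EssEtLoc

variable {A S : Type u} [CommRing A] [HenselianLocalRing A] [CommRing S] [IsLocalRing S] [Algebra A S]
  [IsLocalHom (algebraMap A S)] [hS : _root_.Hensel.IsStrictHenselization A S]

/-- A finite essentially étale local subalgebra. -/
def IsFiniteEtalePiece (W : Subalgebra A S) : Prop :=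
  Module.Finite A W ∧ EGA4loc.IsEssentiallyEtale A W

theorem isFiniteEtalePiece_bot : IsFiniteEtalePiece (⊥ : Subalgebra A S) := by
  haveI : Module.Finite A (⊥ : Subalgebra A S) :=
    Module.Finite.of_surjective (Algebra.ofId A (⊥ : Subalgebra A S)).toLinearMap fun x => by
      obtain ⟨a, ha⟩ := Algebra.mem_bot.mp x.2
      exact ⟨a, Subtype.ext ha⟩
  obtain ⟨_, hWS, hAW⟩ := finite_subalgebra_henselian (⊥ : Subalgebra A S)
  haveI := hWS
  haveI := hAW
  refine ⟨inferInstance, isEssentiallyEtale_of_map_maximalIdeal _ (le_antisymm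
    (Ideal.map_le_iff_le_comap.mpr fun a ha hu => ha (IsLocalHom.map_nonunit a hu)) fun x hx => ?_)⟩
  obtain ⟨a, ha⟩ := Algebra.mem_bot.mp x.2
  rw [show x = algebraMap A _ a from Subtype.ext ha.symm] at hx ⊢
  exact Ideal.mem_map_of_mem _ fun hu => hx (hu.map _)

theorem isFiniteEtalePiece_sup {W₁ W₂ : Subalgebra A S} (h₁ : IsFiniteEtalePiece W₁)
    (h₂ : IsFiniteEtalePiece W₂) : IsFiniteEtalePiece (W₁ ⊔ W₂) := by
  obtain ⟨h₁f, h₁e⟩ := h₁
  obtain ⟨h₂f, h₂e⟩ := h₂
  haveI := h₁f
  haveI := h₂f
  let f : W₁ ⊗[A] W₂ →ₐ[A] S := Algebra.TensorProduct.productMap W₁.val W₂.val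
  have hf : f.range = W₁ ⊔ W₂ := by
    rw [Algebra.TensorProduct.productMap_range, Subalgebra.range_val, Subalgebra.range_val]
  haveI := formallyEtale h₁e
  haveI := formallyEtale h₂e
  haveI : Algebra.FormallyUnramified A (W₁ ⊗[A] W₂) :=
    Algebra.FormallyUnramified.comp A W₁ (W₁ ⊗[A] W₂)
  haveI : Module.Finite A f.range :=
    Module.Finite.of_surjective f.rangeRestrict.toLinearMap f.rangeRestrict_surjective
  haveI : Algebra.FormallyUnramified A f.range :=
    Algebra.FormallyUnramified.of_surjective f.rangeRestrict f.rangeRestrict_surjective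
  rw [← hf]
  obtain ⟨_, hWS, hAW⟩ := finite_subalgebra_henselian f.range
  haveI := hWS
  haveI := hAW
  refine ⟨inferInstance, isEssentiallyEtale_of_map_maximalIdeal _ ?_⟩
  exact (Algebra.FormallyUnramified.map_maximalIdeal (R := A) (S := f.range))

/-- The union of the finite étale pieces inside a subalgebra. -/
def unramifiedPart (D : Subalgebra A S) : Subalgebra A S where
  carrier := {x | ∃ W : Subalgebra A S, IsFiniteEtalePiece W ∧ W ≤ D ∧ x ∈ W}
  mul_mem' := by
    rintro x y ⟨W, hW, hWD, hx⟩ ⟨W', hW', hWD', hy⟩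
    exact ⟨W ⊔ W', isFiniteEtalePiece_sup hW hW', sup_le hWD hWD',
      mul_mem ((le_sup_left : W ≤ W ⊔ W') hx) ((le_sup_right : W' ≤ W ⊔ W') hy)⟩
  add_mem' := by
    rintro x y ⟨W, hW, hWD, hx⟩ ⟨W', hW', hWD', hy⟩
    exact ⟨W ⊔ W', isFiniteEtalePiece_sup hW hW', sup_le hWD hWD',
      add_mem ((le_sup_left : W ≤ W ⊔ W') hx) ((le_sup_right : W' ≤ W ⊔ W') hy)⟩
  algebraMap_mem' a := ⟨⊥, isFiniteEtalePiece_bot, bot_le, Subalgebra.algebraMap_mem _ a⟩

theorem unramifiedPart_le (D : Subalgebra A S) : unramifiedPart D ≤ D :=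
  fun _ ⟨_, _, hWD, hx⟩ => hWD hx

theorem exists_piece_of_finset (D : Subalgebra A S) (s : Finset S) (hs : (s : Set S) ⊆ unramifiedPart D) :
    ∃ W : Subalgebra A S, IsFiniteEtalePiece W ∧ W ≤ unramifiedPart D ∧ (s : Set S) ⊆ W := by
  classical
  suffices h : ∃ W : Subalgebra A S, IsFiniteEtalePiece W ∧ W ≤ D ∧ (s : Set S) ⊆ W by
    obtain ⟨W, hW, hWD, hsW⟩ := h
    exact ⟨W, hW, fun x hx => ⟨W, hW, hWD, hx⟩, hsW⟩
  induction s using Finset.induction_on with
  | empty => exact ⟨⊥, isFiniteEtalePiece_bot, bot_le, by simp⟩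
  | insert x s hx ih =>
    obtain ⟨W, hW, hWD, hsW⟩ := ih (fun y hy => hs (by simp [Finset.mem_coe.mp hy]))
    obtain ⟨W', hW', hWD', hxW⟩ := hs (Finset.mem_coe.mpr (Finset.mem_insert_self x s))
    refine ⟨W ⊔ W', isFiniteEtalePiece_sup hW hW', sup_le hWD hWD', ?_⟩
    rw [Finset.coe_insert, Set.insert_subset_iff]
    exact ⟨(le_sup_right : W' ≤ W ⊔ W') hxW, hsW.trans (le_sup_left : W ≤ W ⊔ W')⟩

theorem isIntegral_mem_unramifiedPart (D : Subalgebra A S) (x : S) (hx : x ∈ unramifiedPart D) :
    IsIntegral A x := by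
  obtain ⟨W, hW, -, hxW⟩ := hx
  haveI := hW.1
  exact (Algebra.IsIntegral.isIntegral (R := A) (⟨x, hxW⟩ : W)).map W.val

/-- The unramified part has the same residues. -/
theorem exists_sub_mem_unramifiedPart [IsNoetherianRing A] (hint : ∀ s : S, IsIntegral A s) (D : Subalgebra A S) (d : S)
    (hd : d ∈ D) : ∃ x ∈ unramifiedPart D, d - x ∈ maximalIdeal S := by
  let W : Subalgebra A S := Algebra.adjoin A {d}
  haveI : Module.Finite A W := Module.Finite.iff_fg.mpr (hint d).fg_adjoin_singleton
  obtain ⟨B, _, _, _, φ, hmB, hφ, hB, -, hφW, hWB⟩ := exists_etale_lift_residue W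
  haveI := hφ
  haveI : Module.Flat A S := GrothLib.Hensel.IsStrictHenselization.flat (R := A) (S := S)
  haveI := formallyEtale hB
  haveI := essFiniteType hB
  have hBr := of_algEquiv hB (AlgEquiv.ofInjective φ (injective_of_isLocalHom φ))
  have hle : φ.range ≤ W := by rintro _ ⟨b, rfl⟩; exact hφW b
  haveI : IsNoetherian A W := isNoetherian_of_isNoetherianRing_of_finite _ _
  haveI : Module.Finite A φ.range :=
    Module.Finite.of_injective (Subalgebra.inclusion hle).toLinearMap (Subalgebra.inclusion_injective hle)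
  obtain ⟨b, hb⟩ := hWB d (Algebra.subset_adjoin rfl)
  exact ⟨φ b, ⟨φ.range, ⟨inferInstance, hBr⟩,
    hle.trans (Algebra.adjoin_le (Set.singleton_subset_iff.mpr hd)), ⟨b, rfl⟩⟩, hb⟩

/-- The unramified part is local and dominated. -/
theorem isLocalRing_unramifiedPart (D : Subalgebra A S) :
    ∃ _ : IsLocalRing (unramifiedPart D), IsLocalHom (algebraMap (unramifiedPart D) S) := by
  haveI h : IsLocalHom (algebraMap (unramifiedPart D) S) := ⟨fun x hx => by
    obtain ⟨W, hW, hWD, hxW⟩ := x.2
    haveI := hW.1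
    obtain ⟨_, hWS, -⟩ := finite_subalgebra_henselian W
    obtain ⟨v, hv⟩ := (hWS.map_nonunit (⟨x, hxW⟩ : W) hx).exists_right_inv
    exact IsUnit.of_mul_eq_one ⟨(v : S), W, hW, hWD, v.2⟩ (Subtype.ext (congrArg Subtype.val hv :))⟩
  exact ⟨RingHom.domain_isLocalRing (algebraMap (unramifiedPart D) S), h⟩

variable [IsNoetherianRing A]

theorem map_maximalIdeal_unramifiedPart (D : Subalgebra A S) [IsLocalRing (unramifiedPart D)]
    [IsLocalHom (algebraMap (unramifiedPart D) S)] :
    (maximalIdeal A).map (algebraMap A (unramifiedPart D)) = maximalIdeal (unramifiedPart D) := by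
  refine le_antisymm (Ideal.map_le_iff_le_comap.mpr fun a ha hu => ha ?_) fun x hx => ?_
  · have h := hu.map (algebraMap (unramifiedPart D) S)
    rw [← IsScalarTower.algebraMap_apply] at h
    exact IsLocalHom.map_nonunit a h
  · obtain ⟨W, hW, hWD, hxW⟩ := x.2
    haveI := hW.1
    obtain ⟨_, hWS, -⟩ := finite_subalgebra_henselian W
    let i : W →ₐ[A] unramifiedPart D :=
      W.val.codRestrict (unramifiedPart D) fun w => ⟨W, hW, hWD, w.2⟩
    have h1 : (⟨x, hxW⟩ : W) ∈ maximalIdeal W := fun hu => hx (hu.map i)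
    rw [← map_maximalIdeal hW.2] at h1
    have h2 := Ideal.mem_map_of_mem i.toRingHom h1
    rw [Ideal.map_map, show i.toRingHom.comp (algebraMap A W) = algebraMap A (unramifiedPart D) from
      i.comp_algebraMap] at h2
    exact h2

theorem henselianLocalRing_unramifiedPart (D : Subalgebra A S) :
    ∃ _ : HenselianLocalRing (unramifiedPart D), IsLocalHom (algebraMap (unramifiedPart D) S) ∧
      IsLocalHom (algebraMap A (unramifiedPart D)) := by
  obtain ⟨hl, hS'⟩ := isLocalRing_unramifiedPart D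
  haveI := hl
  haveI := hS'
  haveI : Algebra.IsIntegral A (unramifiedPart D) := ⟨fun x =>
    (isIntegral_algHom_iff (unramifiedPart D).val Subtype.val_injective).mp
      (isIntegral_mem_unramifiedPart D x x.2)⟩
  have hh : HenselianRing (unramifiedPart D) (maximalIdeal (unramifiedPart D)) := by
    have h := GrothLib.Hensel.henselianRing_of_isIntegral (maximalIdeal A) (unramifiedPart D)
    rwa [map_maximalIdeal_unramifiedPart D] at h
  refine ⟨GrothLib.Hensel.henselianLocalRing_of_henselianRing hh, hS', ⟨fun a ha => ?_⟩⟩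
  have h := ha.map (algebraMap (unramifiedPart D) S)
  rw [← IsScalarTower.algebraMap_apply] at h
  exact IsLocalHom.map_nonunit a h

theorem isStrictHenselization_unramifiedPart (D : Subalgebra A S) [IsLocalRing (unramifiedPart D)]
    [IsLocalHom (algebraMap (unramifiedPart D) S)] :
    _root_.Hensel.IsStrictHenselization (unramifiedPart D) S := by
  haveI : IsLocalHom (algebraMap A (unramifiedPart D)) := ⟨fun a ha => by
    have h := ha.map (algebraMap (unramifiedPart D) S)
    rw [← IsScalarTower.algebraMap_apply] at h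
    exact IsLocalHom.map_nonunit a h⟩
  haveI : IsScalarTower (ResidueField A) (ResidueField (unramifiedPart D)) (ResidueField S) :=
    IsScalarTower.of_algebraMap_eq fun x => by
      obtain ⟨a, rfl⟩ := residue_surjective x
      rfl
  haveI := hS.isSepClosure.separable
  refine ⟨hS.henselian, ⟨hS.isSepClosure.sep_closed, Algebra.isSeparable_tower_top_of_isSeparable
    (ResidueField A) _ _⟩, fun T _ _ f _ τ hτ => ?_⟩
  obtain ⟨g, ⟨hg1, hg2⟩, huniq⟩ := hS.universal T (f.comp (algebraMap A (unramifiedPart D))) τ (by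
    refine RingHom.ext fun x => ?_
    obtain ⟨a, rfl⟩ := residue_surjective x
    exact RingHom.congr_fun hτ (residue (unramifiedPart D) (algebraMap A (unramifiedPart D) a)))
  letI : Algebra A T := (f.comp (algebraMap A (unramifiedPart D))).toAlgebra
  haveI : IsLocalHom (algebraMap A T) :=
    (RingHom.isLocalHom_comp f (algebraMap A (unramifiedPart D)) : _)
  have hgf : g.comp (algebraMap (unramifiedPart D) S) = f := by
    refine RingHom.ext fun x => ?_
    obtain ⟨W, hW, hWD, hxW⟩ := x.2
    haveI := hW.1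
    obtain ⟨_, hWS, -⟩ := finite_subalgebra_henselian W
    let i : W →ₐ[A] unramifiedPart D :=
      W.val.codRestrict (unramifiedPart D) fun w => ⟨W, hW, hWD, w.2⟩
    let p : W →ₐ[A] T :=
      { toRingHom := g.comp (algebraMap W S)
        commutes' := fun a => RingHom.congr_fun hg1 a }
    let q : W →ₐ[A] T :=
      { toRingHom := f.comp i.toRingHom
        commutes' := fun a => congrArg f (i.commutes a) }
    have h := algHom_ext_residue hW.2 p q (RingHom.ext fun w => by
      show residue T (g (w : S)) = residue T (f (i w))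
      rw [hg2]
      exact RingHom.congr_fun hτ (residue (unramifiedPart D) (i w)))
    exact AlgHom.congr_fun h ⟨x, hxW⟩
  refine ⟨g, ⟨hgf, hg2⟩, fun g' hg' => huniq g' ⟨?_, hg'.2⟩⟩
  rw [← hg'.1, RingHom.comp_assoc, ← IsScalarTower.algebraMap_eq]

theorem isNoetherianRing_unramifiedPart (D : Subalgebra A S) : IsNoetherianRing (unramifiedPart D) := by
  classical
  haveI : IsNoetherianRing S :=
    (GrothLib.Hensel.IsStrictHenselization.isNoetherianRing_iff (R := A) (S := S)).mp inferInstance
  obtain ⟨hh, hloc, -⟩ := henselianLocalRing_unramifiedPart D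
  haveI := hloc
  haveI := isStrictHenselization_unramifiedPart D
  exact (GrothLib.Hensel.IsStrictHenselization.isNoetherianRing_iff (R := unramifiedPart D) (S := S)).mpr
    inferInstance

end GrothLib.EssEtLoc
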