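import Groth.Agent.Lib.EssEtLoc.StrictResidue
import Groth.Agent.Lib.EssEtLoc.UnramifiedPart

/-!
# Tools for intermediate rings of a strict henselization of a henselian ring
-/

universe u

open IsLocalRing TensorProduct

noncomputable section

namespace GrothLib.EssEtLoc

variable {A S : Type u} [CommRing A] [HenselianLocalRing A] [CommRing S] [IsLocalRing S] [Algebra A S]
  [IsLocalHom (algebraMap A S)] [hS : _root_.Hensel.IsStrictHenselization A S]

theorem isIntegral_strictHenselization (s : S) : IsIntegral A s := by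
  obtain ⟨C, _, _, _, φC, hCfin, -, -, -, -, -, -, hsub, -⟩ := exists_galois_cover A S {s}
  obtain ⟨c, hc⟩ := hsub (Finset.mem_coe.mpr (Finset.mem_singleton_self s))
  haveI := hCfin
  exact hc ▸ (Algebra.IsIntegral.isIntegral c).map φC

theorem isLocalRing_intermediate (P : Subalgebra A S) :
    ∃ _ : IsLocalRing P, IsLocalHom (algebraMap P S) := by
  haveI h : IsLocalHom (algebraMap P S) := ⟨fun x hx => by
    let W : Subalgebra A S := Algebra.adjoin A {(x : S)}
    haveI : Module.Finite A W :=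
      Module.Finite.iff_fg.mpr (isIntegral_strictHenselization (x : S)).fg_adjoin_singleton
    obtain ⟨_, hWS, -⟩ := finite_subalgebra_henselian W
    obtain ⟨v, hv⟩ := (hWS.map_nonunit (⟨(x : S), Algebra.subset_adjoin rfl⟩ : W) hx).exists_right_inv
    exact IsUnit.of_mul_eq_one ⟨(v : S), (Algebra.adjoin_le (Set.singleton_subset_iff.mpr x.2) : W ≤ P) v.2⟩
      (Subtype.ext (congrArg Subtype.val hv :))⟩
  exact ⟨RingHom.domain_isLocalRing (algebraMap P S), h⟩

theorem exists_cover_piece (s : Finset S) :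
    ∃ W : Subalgebra A S, Module.Finite A W ∧ Algebra.Etale A W ∧ IsFiniteEtalePiece W ∧ (s : Set S) ⊆ W := by
  obtain ⟨C, _, _, _, φC, hCfin, hCet, -, hinj, hφC, -, hmC, hsub, -⟩ := exists_galois_cover A S s
  haveI := hCfin
  haveI := hCet
  haveI := hφC
  obtain ⟨-, -, hEC⟩ := range_of_finite_etale' φC hmC
  let e := AlgEquiv.ofInjective φC hinj
  exact ⟨φC.range, Module.Finite.equiv e.toLinearEquiv, Algebra.Etale.of_equiv e,
    ⟨Module.Finite.equiv e.toLinearEquiv, of_algEquiv hEC e⟩, hsub⟩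

theorem exists_piece_le_sup (U₀ W₀ : Subalgebra A S) (hW₀ : IsFiniteEtalePiece W₀)
    (hU : ∀ u ∈ U₀, ∃ W, IsFiniteEtalePiece W ∧ W ≤ U₀ ∧ u ∈ W) (x : S) (hx : x ∈ U₀ ⊔ W₀) :
    ∃ W, IsFiniteEtalePiece W ∧ W ≤ U₀ ⊔ W₀ ∧ x ∈ W := by
  change x ∈ Algebra.adjoin A ((U₀ : Set S) ∪ W₀) at hx
  refine Algebra.adjoin_induction (fun y hy => ?_) (fun a => ?_) (fun y y' _ _ h h' => ?_)
    (fun y y' _ _ h h' => ?_) hx
  · rcases hy with hy | hy
    · obtain ⟨W, hW, hWU, hyW⟩ := hU y hy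
      exact ⟨W, hW, hWU.trans le_sup_left, hyW⟩
    · exact ⟨W₀, hW₀, le_sup_right, hy⟩
  · exact ⟨W₀, hW₀, le_sup_right, W₀.algebraMap_mem a⟩
  · obtain ⟨W, hW, hWU, hyW⟩ := h
    obtain ⟨W', hW', hWU', hyW'⟩ := h'
    exact ⟨W ⊔ W', isFiniteEtalePiece_sup hW hW', sup_le hWU hWU',
      add_mem ((le_sup_left : W ≤ W ⊔ W') hyW) ((le_sup_right : W' ≤ W ⊔ W') hyW')⟩
  · obtain ⟨W, hW, hWU, hyW⟩ := h
    obtain ⟨W', hW', hWU', hyW'⟩ := h'
    exact ⟨W ⊔ W', isFiniteEtalePiece_sup hW hW', sup_le hWU hWU',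
      mul_mem ((le_sup_left : W ≤ W ⊔ W') hyW) ((le_sup_right : W' ≤ W ⊔ W') hyW')⟩

variable {A' : Subalgebra A (FractionRing S)} [IsReduced A] [IsNoetherianRing A]
  (hA' : ∀ x : (FractionRing S), x ∈ A' ↔ (IsIntegral A x ∧
    ∃ a ∈ nonZeroDivisors A, ∃ b : A, algebraMap A (FractionRing S) a * x = algebraMap A (FractionRing S) b))

include hA' in
theorem exists_congr_adjoin (P : Subalgebra A S) (G : Set (FractionRing S))
    (hG : ∀ x ∈ G, IsIntegral S x ∧ ∃ t : A' ⊗[A] P,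
      StrictCongr A' x (Algebra.TensorProduct.map (AlgHom.id A A') P.val t))
    (x : FractionRing S) (hx : x ∈ Algebra.adjoin A G) :
    IsIntegral S x ∧ ∃ t : A' ⊗[A] P,
      StrictCongr A' x (Algebra.TensorProduct.map (AlgHom.id A A') P.val t) := by
  refine Algebra.adjoin_induction (fun y hy => hG y hy) (fun a => ?_) (fun y y' _ _ h h' => ?_)
    (fun y y' _ _ h h' => ?_) hx
  · refine ⟨isIntegral_algebraMap.tower_top, algebraMap A _ a, fun M hM w hw => ?_⟩
    have h0 : w = 0 := Subtype.ext (by rw [hw, AlgHom.commutes, AlgHom.commutes, sub_self]; rfl)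
    rw [h0]
    exact zero_mem _
  · obtain ⟨hy, t, ht⟩ := h
    obtain ⟨hy', t', ht'⟩ := h'
    refine ⟨hy.add hy', t + t', fun M hM w hw => ?_⟩
    rw [map_add, map_add, add_sub_add_comm] at hw
    let w₁ : integralClosure S (FractionRing S) :=
      ⟨y, hy⟩ - ⟨strictMul A' (Algebra.TensorProduct.map (AlgHom.id A A') P.val t), isIntegral_productMap hA' _⟩
    let w₂ : integralClosure S (FractionRing S) :=
      ⟨y', hy'⟩ - ⟨strictMul A' (Algebra.TensorProduct.map (AlgHom.id A A') P.val t'), isIntegral_productMap hA' _⟩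
    rw [show w = w₁ + w₂ from Subtype.ext hw]
    exact add_mem (ht M hM w₁ rfl) (ht' M hM w₂ rfl)
  · obtain ⟨hy, t, ht⟩ := h
    obtain ⟨hy', t', ht'⟩ := h'
    refine ⟨hy.mul hy', t * t', fun M hM w hw => ?_⟩
    rw [map_mul, map_mul] at hw
    let z₁ : integralClosure S (FractionRing S) :=
      ⟨strictMul A' (Algebra.TensorProduct.map (AlgHom.id A A') P.val t), isIntegral_productMap hA' _⟩
    let z₂ : integralClosure S (FractionRing S) :=
      ⟨strictMul A' (Algebra.TensorProduct.map (AlgHom.id A A') P.val t'), isIntegral_productMap hA' _⟩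
    let w₁ : integralClosure S (FractionRing S) := ⟨y, hy⟩ - z₁
    let w₂ : integralClosure S (FractionRing S) := ⟨y', hy'⟩ - z₂
    rw [show w = w₁ * ⟨y', hy'⟩ + z₁ * w₂ from Subtype.ext (hw.trans (by
      simp only [Subalgebra.coe_add, Subalgebra.coe_mul, Subalgebra.coe_sub, w₁, w₂, z₁, z₂]
      ring))]
    exact add_mem (Ideal.mul_mem_right _ _ (ht M hM w₁ rfl)) (Ideal.mul_mem_left _ _ (ht' M hM w₂ rfl))

omit hA' in
/-- A subalgebra with the residues of a finite étale piece contains it. -/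
theorem piece_le_of_residue {W P : Subalgebra A S} (hW : IsFiniteEtalePiece W)
    (h : ∀ c ∈ W, ∃ w ∈ W ⊓ P, c - w ∈ maximalIdeal S) : W ≤ P := by
  haveI := hW.1
  obtain ⟨_, hWS, -⟩ := finite_subalgebra_henselian W
  haveI := hWS
  let N : Submodule A W := Subalgebra.toSubmodule (P.comap W.val)
  have hN : (⊤ : Submodule A W) ≤ N := by
    refine Submodule.le_of_le_smul_of_le_jacobson_bot Module.Finite.fg_top (maximalIdeal_le_jacobson ⊥)
      fun c _ => ?_
    obtain ⟨w, hw, hcw⟩ := h c c.2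
    refine Submodule.mem_sup.mpr ⟨⟨w, hw.1⟩, hw.2, c - ⟨w, hw.1⟩, ?_, by abel⟩
    rw [Ideal.smul_top_eq_map, Submodule.restrictScalars_mem, map_maximalIdeal hW.2]
    exact fun hu => hcw (hu.map (algebraMap W S))
  exact fun x hx => hN (show (⟨x, hx⟩ : W) ∈ (⊤ : Submodule A W) from trivial)

end GrothLib.EssEtLoc
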