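import Groth.Agent.Lib.EssEtLoc.Galois
import Mathlib.RingTheory.Flat.FaithfullyFlat.Algebra

/-!
# Intersections of subfields with quotients of a strict henselization
-/

universe u

open IsLocalRing

noncomputable section

namespace GrothLib.EssEtLoc

/-- Elements of a quotient by an ideal extended from a subalgebra over which the ring is faithfully
flat, lying in the fraction field of the image, lie in the image. -/
theorem mem_range_of_frac {A C S R : Type u} [CommRing A] [CommRing C] [CommRing S] [CommRing R]
    [IsDomain R] [Algebra A C] [Algebra A S] [Algebra A R] (φ : C →ₐ[A] S) (π : S →ₐ[A] R)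
    (hπ : Function.Surjective π)
    (hff : letI := φ.toRingHom.toAlgebra; Module.FaithfullyFlat C S)
    (hker : RingHom.ker π ≤ ((RingHom.ker π).comap φ.toRingHom).map φ.toRingHom)
    {x : R} {a b : C} (hb : π (φ b) ≠ 0) (h : x * π (φ b) = π (φ a)) :
    x ∈ Set.range (π.comp φ) := by
  letI := φ.toRingHom.toAlgebra
  haveI : Module.FaithfullyFlat C S := hff
  obtain ⟨y, rfl⟩ := hπ x
  let I : Ideal C := Ideal.span {b} ⊔ (RingHom.ker π).comap φ.toRingHom
  have h1 : φ a ∈ I.map (algebraMap C S) := by
    have h2 : φ a - y * φ b ∈ RingHom.ker π := by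
      rw [RingHom.mem_ker, map_sub, map_mul, h, sub_self]
    have h3 := (Ideal.map_mono (f := algebraMap C S)
      (le_sup_right : (RingHom.ker π).comap φ.toRingHom ≤ I)) (hker h2)
    have h4 : y * φ b ∈ I.map (algebraMap C S) := Ideal.mul_mem_left _ _
      (Ideal.mem_map_of_mem (algebraMap C S) (Ideal.mem_sup_left (Ideal.mem_span_singleton_self b)))
    have h5 := add_mem h3 h4
    rwa [sub_add_cancel] at h5
  have h2 : a ∈ I := by
    rw [← Ideal.comap_map_eq_self_of_faithfullyFlat (A := C) (B := S) I]
    exact h1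
  obtain ⟨z, hz, p, hp, rfl⟩ := Submodule.mem_sup.mp h2
  obtain ⟨c, rfl⟩ := Ideal.mem_span_singleton'.mp hz
  refine ⟨c, mul_right_cancel₀ hb ?_⟩
  have hp' : π (φ p) = 0 := hp
  rw [h, map_add, map_add, hp', add_zero]
  simp [map_mul]

/-- A finite étale local algebra embedded in a strict henselization gives an essentially étale
subalgebra. -/
theorem range_of_finite_etale {A C S : Type u} [CommRing A] [IsLocalRing A] [CommRing C]
    [IsLocalRing C] [CommRing S] [IsLocalRing S] [Algebra A C] [Algebra A S]
    [IsLocalHom (algebraMap A S)] [_root_.Hensel.IsStrictHenselization A S] [Module.Finite A C]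
    [IsLocalHom (algebraMap A C)] (φ : C →ₐ[A] S) (hinj : Function.Injective φ)
    (hloc : IsLocalHom φ.toRingHom) (hm : (maximalIdeal A).map (algebraMap A C) = maximalIdeal C) :
    ∃ _ : IsLocalRing φ.range, IsLocalHom (algebraMap φ.range S) ∧
      EGA4loc.IsEssentiallyEtale A φ.range := by
  let e : C ≃ₐ[A] φ.range := AlgEquiv.ofInjective φ hinj
  haveI : IsLocalRing φ.range := e.toRingEquiv.isLocalRing
  haveI hl : IsLocalHom (algebraMap φ.range S) := ⟨fun y hy => by
    obtain ⟨z, rfl⟩ := e.surjective y
    exact (hloc.map_nonunit z hy).map e⟩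
  haveI : Module.Finite A φ.range := Module.Finite.equiv e.toLinearEquiv
  refine ⟨inferInstance, hl, isEssentiallyEtale_of_map_maximalIdeal φ.range ?_⟩
  rw [show algebraMap A φ.range = e.toAlgHom.toRingHom.comp (algebraMap A C) from
      e.toAlgHom.comp_algebraMap.symm, ← Ideal.map_map, hm]
  exact IsLocalRing.map_ringEquiv_maximalIdeal e.toRingEquiv

variable (A S : Type u) [CommRing A] [HenselianLocalRing A] [IsNoetherianRing A] [CommRing S]
  [IsLocalRing S] [Algebra A S] [IsLocalHom (algebraMap A S)]
  [_root_.Hensel.IsStrictHenselization A S]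

/-- A Galois cover containing prescribed elements, generators of prescribed ideals, and numerators
and denominators of generators of a subfield. -/
theorem exists_cover_data {R K : Type u} [CommRing R] [IsDomain R] [Algebra A R] [Field K]
    [Algebra A K] [Algebra R K] [IsScalarTower A R K] [IsFractionRing R K] (π : S →ₐ[A] R)
    (hπ : Function.Surjective π) (J : Finset (Ideal S)) (t : Finset K) :
    ∃ (C : Type u) (_ : CommRing C) (_ : IsLocalRing C) (_ : Algebra A C) (φ : C →ₐ[A] S),
      Module.Finite A C ∧ Algebra.Etale A C ∧ Module.Free A C ∧ Function.Injective φ ∧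
      IsLocalHom φ.toRingHom ∧ IsLocalHom (algebraMap A C) ∧
      (maximalIdeal A).map (algebraMap A C) = maximalIdeal C ∧
      (∀ I ∈ J, (I.comap φ.toRingHom).map φ.toRingHom = I) ∧
      (∀ x : R, algebraMap R K x ∈ Subfield.closure (Set.range (algebraMap A K) ∪ (t : Set K)) →
        x ∈ Set.range (π.comp φ)) ∧
      (∀ l ∈ Subfield.closure (Set.range (algebraMap A K) ∪ (t : Set K)),
        ∃ a b, algebraMap R K (π (φ b)) ≠ 0 ∧
          l * algebraMap R K (π (φ b)) = algebraMap R K (π (φ a))) ∧
      ∃ (G : Type u) (_ : Fintype G) (σ : G → C →ₐ[A] C),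
        Fintype.card G = Module.finrank A C ∧
          Function.Injective fun g => (residue C).comp (σ g).toRingHom := by
  classical
  haveI : IsNoetherianRing S :=
    (GrothLib.Hensel.IsStrictHenselization.isNoetherianRing_iff (R := A) (S := S)).mp ‹_›
  choose gens hgens using fun I : Ideal S => (IsNoetherian.noetherian (R := S) I)
  have hnd : ∀ x : K, ∃ p q : S, algebraMap R K (π q) ≠ 0 ∧
      x * algebraMap R K (π q) = algebraMap R K (π p) := fun x => by
    obtain ⟨⟨p, q⟩, h⟩ := IsLocalization.surj (nonZeroDivisors R) x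
    obtain ⟨p', hp⟩ := hπ p
    obtain ⟨q', hq⟩ := hπ (q : R)
    exact ⟨p', q', by rw [hq]; exact (IsLocalization.map_units K q).ne_zero, by rw [hp, hq]; exact h⟩
  choose num den hden hnum using hnd
  let s : Finset S := (insert (RingHom.ker π) J).biUnion gens ∪ t.image num ∪ t.image den
  obtain ⟨C, iC, iLC, iAC, φ, h1, h2, h3, hinj, hloc, h4, h5, hs, hG⟩ := exists_galois_cover A S s
  have hext : ∀ I ∈ insert (RingHom.ker π) J, (I.comap φ.toRingHom).map φ.toRingHom = I := by
    intro I hI
    refine le_antisymm Ideal.map_comap_le ?_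
    conv_lhs => rw [← hgens I]
    rw [Submodule.span_le]
    intro x hx
    obtain ⟨c, hc⟩ := hs (Finset.mem_union_left _ (Finset.mem_union_left _
      (Finset.mem_biUnion.mpr ⟨I, hI, hx⟩)))
    rw [← hc]
    refine Ideal.mem_map_of_mem φ.toRingHom (?_ : φ.toRingHom c ∈ I)
    show φ c ∈ I
    rw [hc, ← hgens I]
    exact Submodule.subset_span hx
  let j : C →ₐ[A] K := (IsScalarTower.toAlgHom A R K).comp (π.comp φ)
  have hsub : Subfield.closure (Set.range (algebraMap A K) ∪ (t : Set K)) ≤
      Subfield.closure (Set.range j) := by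
    rw [Subfield.closure_le]
    rintro x (⟨a, rfl⟩ | hx)
    · exact Subfield.subset_closure ⟨algebraMap A C a, j.commutes a⟩
    · obtain ⟨p, hp⟩ := hs (Finset.mem_union_left _ (Finset.mem_union_right _
        (Finset.mem_image_of_mem num hx)))
      obtain ⟨q, hq⟩ := hs (Finset.mem_union_right _ (Finset.mem_image_of_mem den hx))
      have h : x = j p / j q := by
        show x = algebraMap R K (π (φ p)) / algebraMap R K (π (φ q))
        rw [hp, hq, eq_div_iff (hden x), hnum]
      rw [SetLike.mem_coe, h]
      exact div_mem (Subfield.subset_closure ⟨p, rfl⟩) (Subfield.subset_closure ⟨q, rfl⟩)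
  have hcl : ∀ y ∈ Subring.closure (Set.range j), ∃ c, j c = y := fun y hy =>
    (Subring.closure_le (t := j.toRingHom.range)).mpr (fun z hz => hz) hy
  have hfrac : ∀ l ∈ Subfield.closure (Set.range (algebraMap A K) ∪ (t : Set K)),
      ∃ a b, algebraMap R K (π (φ b)) ≠ 0 ∧
        l * algebraMap R K (π (φ b)) = algebraMap R K (π (φ a)) := by
    intro l hl
    obtain ⟨y, hy, z, hz, rfl⟩ := Subfield.mem_closure_iff.mp (hsub hl)
    obtain ⟨a, rfl⟩ := hcl y hy
    obtain ⟨b, rfl⟩ := hcl z hz
    by_cases hb : j b = 0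
    · exact ⟨0, 1, by simp, by simp [hb]⟩
    · exact ⟨a, b, hb, div_mul_cancel₀ _ hb⟩
  refine ⟨C, iC, iLC, iAC, φ, h1, h2, h3, hinj, hloc, h4, h5,
    fun I hI => hext I (Finset.mem_insert_of_mem hI), fun x hx => ?_, hfrac, hG⟩
  obtain ⟨a, b, hb, hab⟩ := hfrac _ hx
  haveI : Module.Flat A S := GrothLib.Hensel.IsStrictHenselization.flat (R := A) (S := S)
  refine mem_range_of_frac φ π hπ ?_ (hext _ (Finset.mem_insert_self _ _)).ge (a := a) (b := b)
    (fun h => hb (by rw [h, map_zero])) ?_
  · letI := φ.toRingHom.toAlgebra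
    haveI : IsScalarTower A C S := .of_algebraMap_eq' φ.comp_algebraMap.symm
    haveI : IsLocalHom (algebraMap C S) := hloc
    haveI : Module.Flat C S := flat_of_formallyUnramified (A := A)
    exact Module.FaithfullyFlat.of_flat_of_isLocalHom
  · apply IsFractionRing.injective R K
    rw [map_mul]
    exact hab

end GrothLib.EssEtLoc
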