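import Groth.Agent.Lib.EssEtLoc.Cover

/-!
# Essentially étale algebras over henselian local rings come from finite étale ones
-/

universe u

open IsLocalRing TensorProduct

noncomputable section

namespace GrothLib.EssEtLoc

/-- Finite separable residue extensions lift to finite étale local algebras. -/
theorem exists_finite_etale_local (R l : Type u) [CommRing R] [HenselianLocalRing R] [Field l]
    [Algebra (R ⧸ maximalIdeal R) l] [Module.Finite (R ⧸ maximalIdeal R) l]
    [Algebra.Etale (R ⧸ maximalIdeal R) l] [Algebra R l] [IsScalarTower R (R ⧸ maximalIdeal R) l] :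
    ∃ (B : Type u) (_ : CommRing B) (_ : IsLocalRing B) (_ : Algebra R B) (g : B →ₐ[R] l),
      Module.Finite R B ∧ Algebra.Etale R B ∧ Function.Surjective g ∧
      RingHom.ker g = (maximalIdeal R).map (algebraMap R B) := by
  obtain ⟨B, _, _, hBfin, hBet, ⟨e⟩⟩ :=
    GrothLib.Hensel.exists_finite_etale_lift (maximalIdeal R) l
  let g : B →ₐ[R] l := (e.toAlgHom.restrictScalars R).comp Algebra.TensorProduct.includeRight
  have hg : Function.Surjective g := fun x => by
    obtain ⟨b, hb⟩ := TensorProduct.mk_surjective R B (R ⧸ maximalIdeal R)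
      Ideal.Quotient.mk_surjective (e.symm x)
    refine ⟨b, ?_⟩
    show e (1 ⊗ₜ b) = x
    rw [show (1 : R ⧸ maximalIdeal R) ⊗ₜ[R] b = e.symm x from hb, e.apply_symm_apply]
  have hker : RingHom.ker g = (maximalIdeal R).map (algebraMap R B) := by
    ext b
    show e (1 ⊗ₜ b) = 0 ↔ _
    rw [map_eq_zero_iff e e.injective,
      ← (TensorProduct.quotTensorEquivQuotSMul B (maximalIdeal R)).map_eq_zero_iff,
      ← map_one (Ideal.Quotient.mk (maximalIdeal R)),
      TensorProduct.quotTensorEquivQuotSMul_mk_tmul, one_smul, Submodule.Quotient.mk_eq_zero,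
      Ideal.smul_top_eq_map, Submodule.restrictScalars_mem]
  haveI : Nontrivial B := g.toRingHom.domain_nontrivial
  haveI hmax : (RingHom.ker g).IsMaximal := RingHom.ker_isMaximal_of_surjective g hg
  have hle : ∀ M : Ideal B, M.IsMaximal → M = RingHom.ker g := by
    intro M hM
    refine (hmax.eq_of_le hM.ne_top ?_).symm
    rw [hker, Ideal.map_le_iff_le_comap,
      IsLocalRing.eq_maximalIdeal (Ideal.isMaximal_comap_of_isIntegral_of_isMaximal (R := R) M)]
  haveI : IsLocalRing B := IsLocalRing.of_unique_max_ideal ⟨RingHom.ker g, hmax, hle⟩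
  exact ⟨B, inferInstance, inferInstance, inferInstance, g, hBfin, hBet, hg, hker⟩

/-- An essentially étale local algebra over a henselian local ring with the same residue field as a
henselian ring below is a base change of a finite étale local algebra. -/
theorem exists_finite_etale_algEquiv (R A E : Type u) [CommRing R] [HenselianLocalRing R]
    [CommRing A] [HenselianLocalRing A]
    [Algebra R A] [IsLocalHom (algebraMap R A)]
    (hres : Function.Bijective (ResidueField.map (algebraMap R A)))
    [CommRing E] [IsLocalRing E] [Algebra A E] [IsLocalHom (algebraMap A E)]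
    (hE : EGA4loc.IsEssentiallyEtale A E) :
    ∃ (S : Type u) (_ : CommRing S) (_ : IsLocalRing S) (_ : Algebra R S),
      Module.Finite R S ∧ Algebra.Etale R S ∧ Nonempty (E ≃ₐ[A] A ⊗[R] S) := by
  haveI := formallyEtale hE
  haveI := essFiniteType hE
  letI : Algebra (R ⧸ maximalIdeal R) (ResidueField A) :=
    (ResidueField.map (algebraMap R A)).toAlgebra
  letI : Algebra (R ⧸ maximalIdeal R) (ResidueField E) :=
    ((algebraMap (ResidueField A) (ResidueField E)).comp (ResidueField.map (algebraMap R A))).toAlgebra
  haveI : IsScalarTower (R ⧸ maximalIdeal R) (ResidueField A) (ResidueField E) :=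
    IsScalarTower.of_algebraMap_eq fun _ => rfl
  let ek : (R ⧸ maximalIdeal R) ≃ₐ[R ⧸ maximalIdeal R] ResidueField A :=
    AlgEquiv.ofBijective (Algebra.ofId _ _) hres
  haveI : Module.Finite (R ⧸ maximalIdeal R) (ResidueField A) := Module.Finite.equiv ek.toLinearEquiv
  haveI : Algebra.Etale (R ⧸ maximalIdeal R) (ResidueField A) := Algebra.Etale.of_equiv ek
  haveI : Module.Finite (ResidueField A) (ResidueField E) := inferInstance
  haveI : Algebra.IsSeparable (ResidueField A) (ResidueField E) := inferInstance
  haveI : Algebra.FormallyEtale (ResidueField A) (ResidueField E) :=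
    Algebra.FormallyEtale.of_isSeparable _ _
  haveI : Algebra.Etale (ResidueField A) (ResidueField E) :=
    ⟨inferInstance, Algebra.FinitePresentation.of_finiteType.mp inferInstance⟩
  haveI : Algebra.Etale (R ⧸ maximalIdeal R) (ResidueField E) :=
    Algebra.Etale.comp _ (ResidueField A) _
  haveI : Module.Finite (R ⧸ maximalIdeal R) (ResidueField E) :=
    Module.Finite.trans (ResidueField A) _
  letI : Algebra R (ResidueField E) :=
    ((algebraMap A (ResidueField E)).comp (algebraMap R A)).toAlgebra
  haveI : IsScalarTower R A (ResidueField E) := IsScalarTower.of_algebraMap_eq fun _ => rfl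
  haveI : IsScalarTower R (R ⧸ maximalIdeal R) (ResidueField E) :=
    IsScalarTower.of_algebraMap_eq fun _ => rfl
  obtain ⟨B, _, _, _, g, hBfin, hBet, hg, hker⟩ := exists_finite_etale_local R (ResidueField E)
  let G : A ⊗[R] B →ₐ[A] ResidueField E :=
    Algebra.TensorProduct.lift (Algebra.ofId A _) g fun _ _ => Commute.all _ _
  have hG : Function.Surjective G := fun x => by
    obtain ⟨b, rfl⟩ := hg x
    exact ⟨1 ⊗ₜ b, by simp [G]⟩
  have hkerG : RingHom.ker G = (maximalIdeal A).map (algebraMap A (A ⊗[R] B)) := by
    refine le_antisymm (fun z hz => ?_) (Ideal.map_le_iff_le_comap.mpr fun a ha => ?_)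
    · have hdec : ∀ z : A ⊗[R] B, ∃ b, z - 1 ⊗ₜ b ∈ (maximalIdeal A).map (algebraMap A (A ⊗[R] B)) := by
        intro z
        induction z using TensorProduct.induction_on with
        | zero => exact ⟨0, by simp⟩
        | add x y hx hy =>
          obtain ⟨b, hb⟩ := hx
          obtain ⟨c, hc⟩ := hy
          exact ⟨b + c, by rw [tmul_add, add_sub_add_comm]; exact add_mem hb hc⟩
        | tmul a b =>
          obtain ⟨r', hr⟩ := hres.2 (residue A a)
          obtain ⟨r, rfl⟩ := residue_surjective r'
          refine ⟨algebraMap R B r * b, ?_⟩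
          have hm : a - algebraMap R A r ∈ maximalIdeal A := by
            rw [← residue_eq_zero_iff, map_sub, ← hr, ResidueField.map_residue, sub_self]
          have : a ⊗ₜ[R] b - (1 : A) ⊗ₜ[R] (algebraMap R B r * b) =
              algebraMap A (A ⊗[R] B) (a - algebraMap R A r) * (1 ⊗ₜ b) := by
            rw [Algebra.TensorProduct.algebraMap_apply, Algebra.algebraMap_self, RingHom.id_apply,
              Algebra.TensorProduct.tmul_mul_tmul, mul_one, one_mul, sub_tmul, ← Algebra.smul_def,
              tmul_smul, smul_tmul', Algebra.algebraMap_eq_smul_one]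
          rw [this]
          exact Ideal.mul_mem_right _ _ (Ideal.mem_map_of_mem _ hm)
      obtain ⟨b, hb⟩ := hdec z
      have h0 : G (1 ⊗ₜ b) = 0 := by
        have h1 : ∀ w ∈ (maximalIdeal A).map (algebraMap A (A ⊗[R] B)), G w = 0 := by
          refine fun w hw => (Ideal.map_le_iff_le_comap.mpr fun a ha => ?_ :
            (maximalIdeal A).map (algebraMap A (A ⊗[R] B)) ≤ RingHom.ker G) hw
          show G (algebraMap A _ a) = 0
          rw [G.commutes, IsScalarTower.algebraMap_apply A (ResidueField A) (ResidueField E)]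
          rw [show algebraMap A (ResidueField A) a = residue A a from rfl,
            (residue_eq_zero_iff a).mpr ha, map_zero]
        have h2 := h1 _ hb
        rw [map_sub, (RingHom.mem_ker.mp hz : G z = 0), zero_sub, neg_eq_zero] at h2
        exact h2
      have hb' : b ∈ RingHom.ker g := by simpa [G] using h0
      rw [hker] at hb'
      have hle : ((maximalIdeal R).map (algebraMap R B)).map
          (Algebra.TensorProduct.includeRight : B →ₐ[R] A ⊗[R] B).toRingHom ≤
          (maximalIdeal A).map (algebraMap A (A ⊗[R] B)) := by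
        rw [Ideal.map_map, show (Algebra.TensorProduct.includeRight : B →ₐ[R] A ⊗[R] B).toRingHom.comp
          (algebraMap R B) = (algebraMap A (A ⊗[R] B)).comp (algebraMap R A) from
          RingHom.ext fun r => ((Algebra.TensorProduct.includeRight : B →ₐ[R] A ⊗[R] B).commutes r).trans
            (IsScalarTower.algebraMap_apply R A (A ⊗[R] B) r), ← Ideal.map_map]
        exact Ideal.map_mono (((local_hom_TFAE _).out 0 2 rfl rfl).mp ‹_›)
      have h4 : (1 : A) ⊗ₜ[R] b ∈ (maximalIdeal A).map (algebraMap A (A ⊗[R] B)) :=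
        hle (Ideal.mem_map_of_mem _ hb')
      simpa using add_mem hb h4
    · show G (algebraMap A _ a) = 0
      rw [G.commutes, IsScalarTower.algebraMap_apply A (ResidueField A) (ResidueField E),
        show algebraMap A (ResidueField A) a = residue A a from rfl,
        (residue_eq_zero_iff a).mpr ha, map_zero]
  haveI : Nontrivial (A ⊗[R] B) := G.toRingHom.domain_nontrivial
  haveI hmax : (RingHom.ker G).IsMaximal := RingHom.ker_isMaximal_of_surjective G hG
  have hle : ∀ M : Ideal (A ⊗[R] B), M.IsMaximal → M = RingHom.ker G := by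
    intro M hM
    refine (hmax.eq_of_le hM.ne_top ?_).symm
    rw [hkerG, Ideal.map_le_iff_le_comap,
      IsLocalRing.eq_maximalIdeal (Ideal.isMaximal_comap_of_isIntegral_of_isMaximal (R := A) M)]
  haveI : IsLocalRing (A ⊗[R] B) := IsLocalRing.of_unique_max_ideal ⟨RingHom.ker G, hmax, hle⟩
  have hmF : maximalIdeal (A ⊗[R] B) = RingHom.ker G := hle _ inferInstance
  haveI : IsLocalHom (algebraMap A (A ⊗[R] B)) :=
    ((local_hom_TFAE _).out 0 2 rfl rfl).mpr (hmF ▸ hkerG.ge)
  haveI : HenselianLocalRing (A ⊗[R] B) := by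
    have := GrothLib.Hensel.henselianRing_of_isIntegral (maximalIdeal A) (A ⊗[R] B)
    rw [← hkerG, ← hmF] at this
    exact GrothLib.Hensel.henselianLocalRing_of_henselianRing this
  let ε : ((A ⊗[R] B) ⧸ maximalIdeal (A ⊗[R] B)) ≃ₐ[A] ResidueField E :=
    (Ideal.quotientEquivAlgOfEq A hmF).trans (Ideal.quotientKerAlgEquivOfSurjective hG)
  obtain ⟨τ, hτ⟩ := exists_algHom_of_residue hE
    (ε.symm.toAlgHom.comp (IsScalarTower.toAlgHom A E (ResidueField E)))
  haveI := isLocalHom_algHom hE τ
  have hsurj : Function.Surjective τ := by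
    have hspan : (⊤ : Submodule A (A ⊗[R] B)) ≤
        LinearMap.range τ.toLinearMap ⊔ maximalIdeal A • ⊤ := fun z _ => by
      obtain ⟨x, hx⟩ := residue_surjective (G z)
      refine Submodule.mem_sup.mpr ⟨τ x, ⟨x, rfl⟩, z - τ x, ?_, by abel⟩
      rw [Ideal.smul_top_eq_map, Submodule.restrictScalars_mem, ← hkerG, ← hmF,
        ← Ideal.Quotient.eq_zero_iff_mem, map_sub, hτ, sub_eq_zero]
      apply ε.injective
      show G z = ε (ε.symm (algebraMap E (ResidueField E) x))
      rw [ε.apply_symm_apply]
      exact hx.symm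
    have h := Submodule.le_of_le_smul_of_le_jacobson_bot
      (Module.Finite.fg_top (R := A) (M := A ⊗[R] B))
      (maximalIdeal_le_jacobson ⊥) hspan
    exact fun z => h (Submodule.mem_top (x := z))
  exact ⟨B, inferInstance, inferInstance, inferInstance, hBfin, hBet,
    ⟨AlgEquiv.ofBijective τ ⟨injective_of_isLocalHom τ, hsurj⟩⟩⟩

end GrothLib.EssEtLoc
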