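import Groth.Agent.Lib.EssEtLoc.StrictTensor
import Groth.Agent.Lib.EssEtLoc.LiftResidue
import Groth.Agent.Lib.EssEtLoc.GaloisApps
import Groth.Agent.Lib.Hensel.Unibranch
import Groth.Agent.Lib.Hensel.Noetherian

/-!
# Minimal primes of a strict henselization extended from a finite subalgebra
-/

universe u

open IsLocalRing TensorProduct

noncomputable section

namespace GrothLib.EssEtLoc

theorem ringExpChar_eq {D : Type u} [CommRing D] [IsLocalRing D] {F : Type*} [Field F] (g : D →+* F)
    (hg : ∀ a ∈ maximalIdeal D, g a = 0) : ringExpChar F = ringExpChar (ResidueField D) := by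
  let g' : ResidueField D →+* F := Ideal.Quotient.lift _ g hg
  haveI : ExpChar F (ringExpChar (ResidueField D)) :=
    expChar_of_injective_ringHom g'.injective _
  exact (ringExpChar.eq F (ringExpChar (ResidueField D))).symm ▸ rfl

theorem closure_range_eq {D : Type u} [CommRing D] [IsLocalRing D] {F : Type*} [Field F]
    (g : D →+* F) (hg : ∀ a ∈ maximalIdeal D, g a = 0) :
    (Subfield.closure (Set.range g) : Set F) = Set.range g := by
  refine Set.Subset.antisymm (fun x hx => ?_) Subfield.subset_closure
  obtain ⟨y, hy, z, hz, rfl⟩ := Subfield.mem_closure_iff.mp hx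
  obtain ⟨a, rfl⟩ := (Subring.closure_le (t := g.range)).mpr (fun v hv => hv) hy
  obtain ⟨b, rfl⟩ := (Subring.closure_le (t := g.range)).mpr (fun v hv => hv) hz
  by_cases hb : IsUnit b
  · obtain ⟨c, hc⟩ := hb.exists_right_inv
    refine ⟨a * c, ?_⟩
    rw [map_mul, div_eq_mul_inv, inv_eq_of_mul_eq_one_right (b := g c) (by rw [← map_mul, hc, map_one])]
  · exact ⟨0, by rw [map_zero, hg b hb, div_zero]⟩

/-- The separable closure condition at a maximal ideal, in elementary terms. -/
theorem separableClosure_eq_bot_iff {D B : Type u} [CommRing D] [IsLocalRing D] [CommRing B]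
    [Algebra D B] [Algebra.IsIntegral D B] (M : Ideal B) [M.IsMaximal] :
    (separableClosure (Subfield.closure (Set.range ((algebraMap B M.ResidueField).comp (algebraMap D B))))
      M.ResidueField = ⊥) ↔
      ∀ b : B, ∃ (n : ℕ) (a : D), b ^ ringExpChar (ResidueField D) ^ n - algebraMap D B a ∈ M := by
  let g := (algebraMap B M.ResidueField).comp (algebraMap D B)
  have hg : ∀ a ∈ maximalIdeal D, g a = 0 := fun a ha => by
    refine Ideal.algebraMap_residueField_eq_zero.mpr ?_
    rw [← IsLocalRing.eq_maximalIdeal (Ideal.isMaximal_comap_of_isIntegral_of_isMaximal (R := D) M)] at ha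
    exact ha
  let k := Subfield.closure (Set.range g)
  have hk := closure_range_eq g hg
  haveI : ExpChar k (ringExpChar (ResidueField D)) := by
    rw [← ringExpChar_eq g hg]
    exact RingHom.expChar (algebraMap k M.ResidueField) (algebraMap k M.ResidueField).injective _
  haveI : Algebra.IsAlgebraic k M.ResidueField := by
    refine ⟨fun x => ?_⟩
    obtain ⟨b, rfl⟩ := M.algebraMap_residueField_surjective x
    obtain ⟨p, hp, hpb⟩ := Algebra.IsIntegral.isIntegral (R := D) b
    let g₀ : D →+* k := g.codRestrict k.toSubring fun a => Subfield.subset_closure ⟨a, rfl⟩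
    refine IsIntegral.isAlgebraic ⟨p.map g₀, hp.map g₀, ?_⟩
    rw [Polynomial.eval₂_map]
    show Polynomial.eval₂ ((algebraMap B M.ResidueField).comp (algebraMap D B)) (algebraMap B M.ResidueField b) p = 0
    rw [← Polynomial.hom_eval₂, hpb, map_zero]
  rw [separableClosure.eq_bot_iff, isPurelyInseparable_iff_pow_mem k (ringExpChar (ResidueField D))]
  constructor
  · intro h b
    obtain ⟨n, y, hy⟩ := h (algebraMap B M.ResidueField b)
    obtain ⟨a, ha⟩ : (y : M.ResidueField) ∈ Set.range g := hk ▸ y.2
    refine ⟨n, a, Ideal.algebraMap_residueField_eq_zero.mp ?_⟩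
    rw [map_sub, map_pow, ← hy, sub_eq_zero]
    exact ha.symm
  · intro h x
    obtain ⟨b, rfl⟩ := M.algebraMap_residueField_surjective x
    obtain ⟨n, a, ha⟩ := h b
    refine ⟨n, ⟨g a, Subfield.subset_closure ⟨a, rfl⟩⟩, ?_⟩
    have := Ideal.algebraMap_residueField_eq_zero.mpr ha
    rw [map_sub, map_pow, sub_eq_zero] at this
    exact this.symm

/-- For a reduced local ring, the normalization of the reduction is the integral closure. -/
theorem exists_normRed_equiv (D : Type u) [CommRing D] [IsReduced D] :
    Nonempty (CAlg2.normRed D ≃ₐ[D] integralClosure D (FractionRing D)) := by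
  have hbij : Function.Bijective (algebraMap D (CAlg2.red D)) := by
    refine ⟨fun a b h => ?_, Ideal.Quotient.mk_surjective⟩
    have h1 : a - b ∈ nilradical D := Ideal.Quotient.eq.mp h
    rw [nilradical_eq_zero, Ideal.zero_eq_bot, Ideal.mem_bot, sub_eq_zero] at h1
    exact h1
  let φ := RingEquiv.ofBijective _ hbij
  have hmap : (nonZeroDivisors D).map (algebraMap D (CAlg2.red D)) = nonZeroDivisors (CAlg2.red D) :=
    MulEquivClass.map_nonZeroDivisors φ
  haveI : IsLocalization (nonZeroDivisors D) (FractionRing (CAlg2.red D)) := by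
    have h := IsLocalization.isLocalization_of_base_ringEquiv (nonZeroDivisors (CAlg2.red D))
      (FractionRing (CAlg2.red D)) φ.symm
    rw [MulEquivClass.map_nonZeroDivisors φ.symm] at h
    convert h using 1
    refine Algebra.algebra_ext _ _ fun a => ?_
    show algebraMap D (FractionRing (CAlg2.red D)) a = algebraMap (CAlg2.red D) _ (φ.symm.symm a)
    rw [RingEquiv.symm_symm]
    exact IsScalarTower.algebraMap_apply D (CAlg2.red D) _ a
  let F : FractionRing (CAlg2.red D) ≃ₐ[D] FractionRing D :=
    IsLocalization.algEquiv (nonZeroDivisors D) _ _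
  let ν : CAlg2.normRed D →ₐ[D] integralClosure D (FractionRing D) :=
    (F.toAlgHom.comp (GrothLib.Hensel.normVal D)).codRestrict _ fun x =>
      (Algebra.IsIntegral.isIntegral (R := D) x).map (F.toAlgHom.comp (GrothLib.Hensel.normVal D))
  refine ⟨AlgEquiv.ofBijective ν ⟨fun x y h => ?_, fun y => ?_⟩⟩
  · exact GrothLib.Hensel.normVal_injective D (F.injective (congrArg Subtype.val h :))
  · obtain ⟨x, hx⟩ := GrothLib.Hensel.exists_normVal_eq D (F.symm (y : FractionRing D))
      (y.2.map F.symm.toAlgHom)
    refine ⟨x, Subtype.ext ?_⟩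
    show F (GrothLib.Hensel.normVal D x) = y
    rw [hx, F.apply_symm_apply]

/-- The condition of purely inseparable residues of the normalization. -/
def ResiduesPurelyInseparable (D : Type u) [CommRing D] [IsLocalRing D] : Prop :=
  ∀ (M : Ideal (integralClosure D (FractionRing D))), M.IsMaximal → ∀ b,
    ∃ (n : ℕ) (a : D), b ^ ringExpChar (ResidueField D) ^ n - algebraMap D _ a ∈ M

theorem subsingleton_emb_iff_of_equiv {D : Type u} [CommRing D] [IsLocalRing D]
    (e : CAlg2.normRed D ≃ₐ[D] integralClosure D (FractionRing D)) :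
    (∀ m, Subsingleton (Brnch.Emb D m)) ↔ ResiduesPurelyInseparable D := by
  have hchar : ∀ m : MaximalSpectrum (CAlg2.normRed D),
      ringExpChar (CAlg2.normRed D ⧸ m.asIdeal) = ringExpChar (ResidueField D) := fun m => by
    haveI := m.isMaximal
    letI := Ideal.Quotient.field m.asIdeal
    refine ringExpChar_eq (Brnch.toResidue D m) fun a ha => ?_
    rw [← IsLocalRing.eq_maximalIdeal
      (Ideal.isMaximal_comap_of_isIntegral_of_isMaximal (R := D) m.asIdeal)] at ha
    exact Ideal.Quotient.eq_zero_iff_mem.mpr ha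
  constructor
  · intro h M hM b
    haveI := hM
    let m : MaximalSpectrum (CAlg2.normRed D) :=
      ⟨M.comap e.toAlgHom.toRingHom, Ideal.comap_isMaximal_of_surjective _ e.surjective⟩
    obtain ⟨n, a, ha⟩ := (GrothLib.Hensel.subsingleton_emb_iff D m).2.mp (h m)
      (Ideal.Quotient.mk _ (e.symm b))
    rw [hchar] at ha
    refine ⟨n, a, ?_⟩
    have h1 : e.symm b ^ ringExpChar (ResidueField D) ^ n - algebraMap D _ a ∈ m.asIdeal := by
      rw [← Ideal.Quotient.eq, map_pow]
      exact ha.symm
    have h2 : e (e.symm b ^ ringExpChar (ResidueField D) ^ n - algebraMap D _ a) ∈ M := h1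
    rwa [map_sub, map_pow, e.apply_symm_apply, AlgEquiv.commutes] at h2
  · intro h m
    haveI := m.isMaximal
    refine (GrothLib.Hensel.subsingleton_emb_iff D m).2.mpr fun x => ?_
    obtain ⟨x, rfl⟩ := Ideal.Quotient.mk_surjective x
    obtain ⟨n, a, ha⟩ := h (m.asIdeal.comap e.symm.toAlgHom.toRingHom)
      (Ideal.comap_isMaximal_of_surjective _ e.symm.surjective) (e x)
    refine ⟨n, a, ?_⟩
    rw [hchar, ← map_pow]
    have h1 : e.symm (e x ^ ringExpChar (ResidueField D) ^ n - algebraMap D _ a) ∈ m.asIdeal := ha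
    rw [map_sub, map_pow, e.symm_apply_apply, AlgEquiv.commutes] at h1
    exact (Ideal.Quotient.eq.mpr h1).symm

/-- For a henselian reduced Noetherian local ring, the strict henselization has no more minimal
primes exactly when the residue fields of the normalization are purely inseparable. -/
theorem card_minimalPrimes_eq_iff {D T : Type u} [CommRing D] [HenselianLocalRing D] [IsReduced D]
    [IsNoetherianRing D] [CommRing T] [IsLocalRing T] [Algebra D T] [IsLocalHom (algebraMap D T)]
    [_root_.Hensel.IsStrictHenselization D T] :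
    ENat.card (minimalPrimes T) = ENat.card (minimalPrimes D) ↔ ResiduesPurelyInseparable D := by
  haveI : IsLocalHom (algebraMap D D) := ⟨fun _ h => h⟩
  haveI := isHenselization_self D
  have hfin := minimalPrimes.finite_of_isNoetherianRing D
  have hD : ENat.card (minimalPrimes D) = Brnch.numBranches D :=
    GrothLib.Hensel.IsHenselization.card_minimalPrimes
  haveI : IsNoetherianRing T :=
    (GrothLib.Hensel.IsStrictHenselization.isNoetherianRing_iff (R := D) (S := T)).mp ‹_›
  haveI : Finite (minimalPrimes D) := hfin.to_subtype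
  haveI : Finite (minimalPrimes T) := (minimalPrimes.finite_of_isNoetherianRing T).to_subtype
  have hT : ENat.card (minimalPrimes T) = Brnch.numGeomBranches D :=
    GrothLib.Hensel.IsStrictHenselization.card_minimalPrimes
  rw [Brnch.numBranches, if_pos hfin] at hD
  rw [Brnch.numGeomBranches, if_pos hfin] at hT
  haveI : Finite (MaximalSpectrum (CAlg2.normRed D)) := by
    rw [← not_infinite_iff_finite]
    intro hinf
    rw [ENat.card_eq_top_of_infinite (α := MaximalSpectrum (CAlg2.normRed D))] at hD
    exact absurd hD (by rw [ENat.card_eq_coe_natCard]; exact ENat.coe_ne_top _)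
  haveI : Finite (Σ m : MaximalSpectrum (CAlg2.normRed D), Brnch.Emb D m) := by
    rw [← not_infinite_iff_finite]
    intro hinf
    rw [ENat.card_eq_top_of_infinite (α := Σ m : MaximalSpectrum (CAlg2.normRed D), Brnch.Emb D m)] at hT
    exact absurd hT (by rw [ENat.card_eq_coe_natCard]; exact ENat.coe_ne_top _)
  obtain ⟨e⟩ := exists_normRed_equiv D
  rw [← subsingleton_emb_iff_of_equiv e, hT, hD]
  have hne := fun m => (GrothLib.Hensel.subsingleton_emb_iff D m).1
  have hsurj : Function.Surjective (Sigma.fst : (Σ m, Brnch.Emb D m) → _) := fun m =>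
    ⟨⟨m, (hne m).some⟩, rfl⟩
  constructor
  · intro h m
    have hcard : Nat.card (Σ m, Brnch.Emb D m) = Nat.card (MaximalSpectrum (CAlg2.normRed D)) := by
      rw [ENat.card_eq_coe_natCard, ENat.card_eq_coe_natCard] at h
      exact_mod_cast h
    have hinj := ((Nat.bijective_iff_surjective_and_card _).mpr ⟨hsurj, hcard⟩).1
    exact ⟨fun a b => eq_of_heq (Sigma.mk.inj_iff.mp (@hinj ⟨m, a⟩ ⟨m, b⟩ rfl)).2⟩
  · intro h
    refine ENat.card_congr (Equiv.ofBijective Sigma.fst ⟨fun x y hxy => ?_, hsurj⟩)
    obtain ⟨a, s⟩ := x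
    obtain ⟨b, t⟩ := y
    obtain rfl : a = b := hxy
    rw [Subsingleton.elim s t]

theorem isReduced_quotient_map {D S : Type u} [CommRing D] [HenselianLocalRing D] [CommRing S]
    [IsLocalRing S] [Algebra D S] [IsLocalHom (algebraMap D S)]
    [_root_.Hensel.IsStrictHenselization D S] (P : Ideal D) [P.IsPrime] :
    (P.map (algebraMap D S)).IsRadical := by
  haveI : IsLocalHom (algebraMap D (D ⧸ P)) := by
    rw [Ideal.Quotient.algebraMap_eq]
    exact IsLocalHom.of_surjective _ Ideal.Quotient.mk_surjective
  haveI : IsLocalRing (D ⧸ P) :=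
    IsLocalRing.of_surjective' (Ideal.Quotient.mk P) Ideal.Quotient.mk_surjective
  haveI : HenselianLocalRing (D ⧸ P) := by
    have h := GrothLib.Hensel.henselianRing_quotient P (maximalIdeal D)
    rw [show (maximalIdeal D).map (Ideal.Quotient.mk P) = maximalIdeal (D ⧸ P) from
      IsLocalRing.map_maximalIdeal_of_surjective _ Ideal.Quotient.mk_surjective] at h
    exact GrothLib.Hensel.henselianLocalRing_of_henselianRing h
  have hres : Function.Bijective (ResidueField.map (algebraMap D (D ⧸ P))) := ⟨RingHom.injective _,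
    fun x => by
      obtain ⟨y, rfl⟩ := residue_surjective x
      obtain ⟨d, rfl⟩ := Ideal.Quotient.mk_surjective y
      exact ⟨residue D d, rfl⟩⟩
  haveI : Module.Finite D (D ⧸ P) := inferInstance
  obtain ⟨_, _, _⟩ := isStrictHenselization_tensor (C := D) (D := D ⧸ P) (S := S) hres
  haveI : IsReduced ((D ⧸ P) ⊗[D] S) :=
    (GrothLib.Hensel.IsStrictHenselization.isReduced_iff (R := D ⧸ P)).mp inferInstance
  rw [Ideal.isRadical_iff_quotient_reduced]
  let e := ((Algebra.TensorProduct.quotIdealMapEquivTensorQuot S P).restrictScalars D).trans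
    (Algebra.TensorProduct.comm D S (D ⧸ P))
  exact isReduced_of_injective e.toRingEquiv.toRingHom e.injective

/-- When the minimal primes biject, they are extended. -/
theorem minimalPrimes_extended_iff {D S : Type u} [CommRing D] [HenselianLocalRing D]
    [IsNoetherianRing D] [CommRing S] [IsLocalRing S] [Algebra D S] [IsLocalHom (algebraMap D S)]
    [_root_.Hensel.IsStrictHenselization D S] :
    (∀ Q ∈ minimalPrimes S, Q = (Q.comap (algebraMap D S)).map (algebraMap D S)) ↔
      ENat.card (minimalPrimes S) = ENat.card (minimalPrimes D) := by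
  haveI := GrothLib.Hensel.IsStrictHenselization.faithfullyFlat (R := D) (S := S)
  haveI : IsNoetherianRing S :=
    (GrothLib.Hensel.IsStrictHenselization.isNoetherianRing_iff (R := D) (S := S)).mp ‹_›
  haveI : Finite (minimalPrimes S) := (minimalPrimes.finite_of_isNoetherianRing S).to_subtype
  haveI : Finite (minimalPrimes D) := (minimalPrimes.finite_of_isNoetherianRing D).to_subtype
  have hmin : ∀ Q ∈ minimalPrimes S, Q.comap (algebraMap D S) ∈ minimalPrimes D := by
    intro Q hQ
    haveI := hQ.1.1
    refine ⟨⟨inferInstance, bot_le⟩, fun p hp hle => ?_⟩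
    haveI := hp.1
    haveI : Q.LiesOver (Q.comap (algebraMap D S)) := ⟨rfl⟩
    obtain ⟨P', hP'Q, hP'prime, hP'over⟩ := Ideal.exists_ideal_le_liesOver_of_le Q hle
    rw [le_antisymm (hQ.2 ⟨hP'prime, bot_le⟩ hP'Q) hP'Q, hP'over.over]
  let f : minimalPrimes S → minimalPrimes D := fun Q => ⟨_, hmin Q Q.2⟩
  have hsurj : Function.Surjective f := fun p => by
    haveI := p.2.1.1
    obtain ⟨⟨P', hP'⟩, hP'p⟩ :=
      PrimeSpectrum.comap_surjective_of_faithfullyFlat (A := D) (B := S) ⟨p.1, inferInstance⟩
    obtain ⟨r, hr, hrle⟩ := Ideal.exists_minimalPrimes_le (I := (⊥ : Ideal S)) (J := P') bot_le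
    have hle : r.comap (algebraMap D S) ≤ p.1 :=
      (Ideal.comap_mono hrle).trans (congrArg PrimeSpectrum.asIdeal hP'p).le
    haveI := hr.1.1
    exact ⟨⟨r, hr⟩, Subtype.ext (le_antisymm hle (p.2.2 ⟨inferInstance, bot_le⟩ hle))⟩
  constructor
  · intro h
    refine ENat.card_congr (Equiv.ofBijective f ⟨fun Q Q' hQQ' => Subtype.ext ?_, hsurj⟩)
    rw [h Q Q.2, h Q' Q'.2]
    exact congrArg _ (congrArg Subtype.val hQQ')
  · intro h Q hQ
    have hcard : Nat.card (minimalPrimes S) = Nat.card (minimalPrimes D) := by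
      rw [ENat.card_eq_coe_natCard, ENat.card_eq_coe_natCard] at h
      exact_mod_cast h
    have hinj := ((Nat.bijective_iff_surjective_and_card f).mpr ⟨hsurj, hcard⟩).1
    haveI := hQ.1.1
    let P := Q.comap (algebraMap D S)
    refine le_antisymm ?_ Ideal.map_comap_le
    rw [← (isReduced_quotient_map (S := S) P).radical, ← Ideal.sInf_minimalPrimes]
    refine le_sInf fun r hr => ?_
    haveI := hr.1.1
    obtain ⟨r', hr', hr'le⟩ := Ideal.exists_minimalPrimes_le (I := (⊥ : Ideal S)) (J := r) bot_le
    have hP : P ≤ r.comap (algebraMap D S) := Ideal.map_le_iff_le_comap.mp hr.1.2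
    -- `r` lies over `P` by going down
    have hrP : r.comap (algebraMap D S) = P := by
      refine le_antisymm ?_ hP
      haveI : r.LiesOver (r.comap (algebraMap D S)) := ⟨rfl⟩
      obtain ⟨P', hP'r, hP'prime, hP'over⟩ := Ideal.exists_ideal_le_liesOver_of_le r hP
      have : r ≤ P' := hr.2 ⟨hP'prime, by rw [Ideal.map_le_iff_le_comap]; exact hP'over.over.le⟩ hP'r
      rw [le_antisymm this hP'r, hP'over.over]
    have heq : (⟨r', hr'⟩ : minimalPrimes S) = ⟨Q, hQ⟩ := hinj (Subtype.ext (le_antisymm
      ((Ideal.comap_mono hr'le).trans hrP.le)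
      ((hmin Q hQ).2 ⟨(hmin r' hr').1.1, bot_le⟩ ((Ideal.comap_mono hr'le).trans hrP.le))))
    rw [show Q = r' from congrArg Subtype.val heq.symm]
    exact hr'le

/-- A finite subalgebra is local, henselian, and dominated. -/
theorem finite_subalgebra_henselian {A S : Type u} [CommRing A] [HenselianLocalRing A] [CommRing S]
    [IsLocalRing S] [Algebra A S] [IsLocalHom (algebraMap A S)] (D : Subalgebra A S)
    [Module.Finite A D] :
    ∃ _ : HenselianLocalRing D, IsLocalHom (algebraMap D S) ∧ IsLocalHom (algebraMap A D) := by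
  haveI : Algebra.IsIntegral A D := Algebra.IsIntegral.of_finite A D
  obtain ⟨_, e, he, hnot, -, -⟩ :=
    GrothLib.Hensel.exists_completeOrthogonalIdempotents_isLocalRing (R := A) (S := D)
  have hone : ∀ i, (e i : S) = 1 := fun i => by
    have hid : IsIdempotentElem ((e i : D) : S) := congrArg Subtype.val (he.idem i)
    rcases IsLocalRing.isUnit_or_isUnit_one_sub_self ((e i : D) : S) with h | h
    · exact (IsIdempotentElem.iff_eq_one_of_isUnit h).mp hid
    · exfalso
      have h0 : e i = 0 := by
        refine Subtype.ext ?_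
        have := (IsIdempotentElem.iff_eq_one_of_isUnit h).mp hid.one_sub
        simpa using sub_eq_self.mp this
      exact hnot i (by rw [h0]; exact Ideal.zero_mem _)
  haveI : Subsingleton (MaximalSpectrum D) := ⟨fun i j => by
    by_contra hij
    have h := congrArg Subtype.val (he.ortho hij)
    rw [Subalgebra.coe_zero, Subalgebra.coe_mul, hone, hone, one_mul] at h
    exact one_ne_zero h⟩
  obtain ⟨M₀, hM₀⟩ := Ideal.exists_maximal D
  haveI : IsLocalRing D := IsLocalRing.of_unique_max_ideal ⟨M₀, hM₀, fun M hM =>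
    congrArg MaximalSpectrum.asIdeal (Subsingleton.elim (⟨M, hM⟩ : MaximalSpectrum D) ⟨M₀, hM₀⟩)⟩
  have hcomap : (maximalIdeal D).comap (algebraMap A D) = maximalIdeal A :=
    IsLocalRing.eq_maximalIdeal (Ideal.isMaximal_comap_of_isIntegral_of_isMaximal (R := A) _)
  haveI hAD : IsLocalHom (algebraMap A D) := ((local_hom_TFAE _).out 0 4 rfl rfl).mpr hcomap
  have hrad : ((maximalIdeal A).map (algebraMap A D)).radical = maximalIdeal D := by
    rw [Ideal.radical_eq_sInf]
    refine le_antisymm (sInf_le ⟨((local_hom_TFAE _).out 0 2 rfl rfl).mp hAD, inferInstance⟩)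
      (le_sInf fun P ⟨hP, hPp⟩ => ?_)
    haveI := hPp
    have : P.comap (algebraMap A D) = maximalIdeal A :=
      ((maximalIdeal.isMaximal A).eq_of_le (Ideal.IsPrime.ne_top inferInstance)
        (Ideal.map_le_iff_le_comap.mp hP)).symm
    exact (IsLocalRing.eq_maximalIdeal
      (Ideal.isMaximal_of_isIntegral_of_isMaximal_comap (R := A) P (this ▸ maximalIdeal.isMaximal A))).ge
  haveI : HenselianLocalRing D := by
    have h1 := GrothLib.Hensel.henselianRing_of_isIntegral (maximalIdeal A) D
    refine GrothLib.Hensel.henselianLocalRing_of_henselianRing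
      ((GrothLib.Hensel.henselianRing_iff_of_radical_eq ?_).mp h1)
    rw [hrad, (maximalIdeal.isMaximal D).isPrime.radical]
  refine ⟨inferInstance, ⟨fun d hd => ?_⟩, hAD⟩
  by_contra hn
  obtain ⟨n, hn'⟩ := hrad.ge ((mem_maximalIdeal _).mpr hn)
  have h2 := Ideal.mem_map_of_mem (algebraMap D S) hn'
  rw [Ideal.map_map, ← IsScalarTower.algebraMap_eq, map_pow] at h2
  exact (maximalIdeal.isMaximal S).ne_top (Ideal.eq_top_of_isUnit_mem _
    (((local_hom_TFAE (algebraMap A S)).out 0 2 rfl rfl).mp ‹_› h2) (hd.pow n))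

theorem comap_mem_minimalPrimes {D T : Type u} [CommRing D] [CommRing T] [Algebra D T]
    [Module.Flat D T] {r : Ideal T} (hr : r ∈ minimalPrimes T) :
    r.comap (algebraMap D T) ∈ minimalPrimes D := by
  haveI := hr.1.1
  refine ⟨⟨inferInstance, bot_le⟩, fun p hp hle => ?_⟩
  haveI := hp.1
  haveI : r.LiesOver (r.comap (algebraMap D T)) := ⟨rfl⟩
  obtain ⟨P', hP'r, hP'prime, hP'over⟩ := Ideal.exists_ideal_le_liesOver_of_le r hle
  rw [le_antisymm (hr.2 ⟨hP'prime, bot_le⟩ hP'r) hP'r, hP'over.over]

/-- A finite étale local algebra mapped locally into a strict henselization is essentially étale. -/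
theorem range_of_finite_etale' {A C S : Type u} [CommRing A] [IsLocalRing A] [CommRing C]
    [IsLocalRing C] [CommRing S] [IsLocalRing S] [Algebra A C] [Algebra A S]
    [IsLocalHom (algebraMap A S)] [_root_.Hensel.IsStrictHenselization A S] [Module.Finite A C]
    [Algebra.Etale A C] (φ : C →ₐ[A] S) [IsLocalHom φ.toRingHom]
    (hm : (maximalIdeal A).map (algebraMap A C) = maximalIdeal C) :
    ∃ _ : IsLocalRing φ.range, IsLocalHom (algebraMap φ.range S) ∧ EGA4loc.IsEssentiallyEtale A C := by
  haveI : IsLocalHom (algebraMap A C) := ((local_hom_TFAE _).out 0 2 rfl rfl).mpr hm.le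
  haveI : Module.Flat A S := GrothLib.Hensel.IsStrictHenselization.flat (R := A) (S := S)
  obtain ⟨h1, h2, h3⟩ := range_of_finite_etale φ (injective_of_isLocalHom φ) ‹_› hm
  exact ⟨h1, h2, of_algEquiv h3 (AlgEquiv.ofInjective φ (injective_of_isLocalHom φ)).symm⟩

/-- A finite reduced algebra inside a strict henselization whose branches are geometrically
unibranch is étale. -/
theorem etale_of_residuesPurelyInseparable {A D S : Type u} [CommRing A] [HenselianLocalRing A]
    [CommRing S] [IsLocalRing S] [Algebra A S] [IsLocalHom (algebraMap A S)]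
    [hS : _root_.Hensel.IsStrictHenselization A S] [CommRing D] [HenselianLocalRing D] [IsReduced D]
    [IsNoetherianRing D] [Algebra A D] [Module.Finite A D] [IsLocalHom (algebraMap A D)]
    [Algebra D S] [IsScalarTower A D S] [IsLocalHom (algebraMap D S)]
    (hDinj : Function.Injective (algebraMap D S)) (hcond : ResiduesPurelyInseparable D) :
    Algebra.Etale A D := by
  haveI := hS.henselian
  haveI : Module.Flat A S := GrothLib.Hensel.IsStrictHenselization.flat (R := A) (S := S)
  -- the étale subalgebra with the residue field of `D`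
  haveI : Algebra.IsSeparable (ResidueField A) (ResidueField S) := hS.isSepClosure.separable
  let ρ : ResidueField D →ₐ[ResidueField A] ResidueField S :=
    { ResidueField.map (algebraMap D S) with
      commutes' := fun x => by
        obtain ⟨a, rfl⟩ := residue_surjective x
        show residue S (algebraMap D S (algebraMap A D a)) = residue S (algebraMap A S a)
        rw [← IsScalarTower.algebraMap_apply] }
  haveI : Algebra.IsSeparable (ResidueField A) (ResidueField D) :=
    Algebra.IsSeparable.of_algHom (ResidueField A) (ResidueField S) ρ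
  haveI : FiniteDimensional (ResidueField A) (ResidueField D) := by
    haveI : Module.Finite A (ResidueField D) :=
      Module.Finite.of_surjective (IsScalarTower.toAlgHom A D (ResidueField D)).toLinearMap
        residue_surjective
    exact Module.Finite.of_restrictScalars_finite A _ _
  haveI : Algebra.FormallyEtale (ResidueField A) (ResidueField D) :=
    Algebra.FormallyEtale.of_isSeparable _ _
  haveI : Algebra.FinitePresentation (ResidueField A) (ResidueField D) :=
    Algebra.FinitePresentation.of_finiteType.mp inferInstance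
  letI : Algebra (A ⧸ maximalIdeal A) (ResidueField D) :=
    (inferInstance : Algebra (ResidueField A) (ResidueField D))
  haveI : IsScalarTower A (A ⧸ maximalIdeal A) (ResidueField D) :=
    IsScalarTower.of_algebraMap_eq fun _ => rfl
  haveI : Algebra.Etale (A ⧸ maximalIdeal A) (ResidueField D) :=
    (⟨‹_›, ‹_›⟩ : Algebra.Etale (ResidueField A) (ResidueField D))
  haveI : Module.Finite (A ⧸ maximalIdeal A) (ResidueField D) :=
    ‹FiniteDimensional (ResidueField A) (ResidueField D)›
  obtain ⟨C, _, _, _, g, hCfin, hCet, hg, hker⟩ := exists_finite_etale_local A (ResidueField D)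
  haveI hgmax : (RingHom.ker g).IsMaximal := RingHom.ker_isMaximal_of_surjective g hg
  have hmC : (maximalIdeal A).map (algebraMap A C) = maximalIdeal C :=
    hker ▸ IsLocalRing.eq_maximalIdeal hgmax
  haveI : IsLocalHom (algebraMap A C) := ((local_hom_TFAE _).out 0 2 rfl rfl).mpr hmC.le
  obtain ⟨ψ, hψ⟩ := GrothLib.Hensel.exists_algHom_lift (R := A) (I := maximalIdeal D)
    (g : C →ₐ[A] D ⧸ maximalIdeal D)
  have hψ' : ∀ c, residue D (ψ c) = g c := fun c => AlgHom.congr_fun hψ c
  letI : Algebra C D := ψ.toRingHom.toAlgebra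
  haveI : IsScalarTower A C D := .of_algebraMap_eq' ψ.comp_algebraMap.symm
  haveI : Module.Finite C D := Module.Finite.of_restrictScalars_finite A C D
  haveI : IsLocalHom (algebraMap C D) := ⟨fun c hc => by
    by_contra hn
    have h1 : g c = 0 := RingHom.mem_ker.mp ((hker.trans hmC).ge hn)
    rw [← hψ'] at h1
    exact (residue_ne_zero_iff_isUnit _).mpr hc h1⟩
  have hres : Function.Bijective (ResidueField.map (algebraMap C D)) :=
    ⟨RingHom.injective _, fun x => by
      obtain ⟨c, rfl⟩ := hg x
      exact ⟨residue C c, hψ' c⟩⟩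
  letI : Algebra C S := ((algebraMap D S).comp ψ.toRingHom).toAlgebra
  haveI : IsScalarTower C D S := IsScalarTower.of_algebraMap_eq fun _ => rfl
  haveI : IsScalarTower A C S := IsScalarTower.of_algebraMap_eq fun a => by
    show algebraMap A S a = algebraMap D S (ψ (algebraMap A C a))
    rw [ψ.commutes, ← IsScalarTower.algebraMap_apply]
  haveI : IsLocalHom (algebraMap C S) := RingHom.isLocalHom_comp _ _
  let φ : C →ₐ[A] S := IsScalarTower.toAlgHom A C S
  haveI : IsLocalHom φ.toRingHom := ‹IsLocalHom (algebraMap C S)›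
  obtain ⟨_, hl, hEr⟩ := range_of_finite_etale' φ hmC
  haveI := isStrictHenselization_of_essEt (A := A) (E := C) (S := S) hEr
  obtain ⟨hTloc, hTD, hTS⟩ := isStrictHenselization_tensor (C := C) (D := D) (S := S) hres
  haveI := hTloc
  haveI := hTD
  haveI := hTS
  haveI : IsNoetherianRing (D ⊗[C] S) :=
    (GrothLib.Hensel.IsStrictHenselization.isNoetherianRing_iff (R := D)).mp inferInstance
  haveI : IsReduced (D ⊗[C] S) :=
    (GrothLib.Hensel.IsStrictHenselization.isReduced_iff (R := D)).mp inferInstance
  have hext := (minimalPrimes_extended_iff (D := D) (S := D ⊗[C] S)).mpr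
    ((card_minimalPrimes_eq_iff (D := D) (T := D ⊗[C] S)).mpr hcond)
  haveI : Module.Flat C S := GrothLib.Hensel.IsStrictHenselization.flat (R := C) (S := S)
  haveI : Module.Flat D (D ⊗[C] S) := inferInstance
  let μ : D ⊗[C] S →ₐ[D] S :=
    Algebra.TensorProduct.lift (Algebra.ofId D S) (AlgHom.id C S) fun _ _ => Commute.all _ _
  have hμ : ∀ s : S, μ (1 ⊗ₜ s) = s := fun s => by simp [μ]
  letI : Algebra S (D ⊗[C] S) := Algebra.TensorProduct.rightAlgebra
  haveI : Module.Finite S (D ⊗[C] S) :=
    Module.Finite.equiv ({ Algebra.TensorProduct.comm C S D with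
      commutes' := fun r => by
        show Algebra.TensorProduct.comm C S D (r ⊗ₜ 1) = algebraMap S (D ⊗[C] S) r
        rfl } : (S ⊗[C] D) ≃ₐ[S] D ⊗[C] S).toLinearEquiv
  haveI : Algebra.IsIntegral S (D ⊗[C] S) := Algebra.IsIntegral.of_finite _ _
  have hkerμ : RingHom.ker μ = ⊥ := by
    rw [← le_bot_iff, ← (Ideal.isRadical_bot (R := D ⊗[C] S)).radical, ← Ideal.sInf_minimalPrimes]
    refine le_sInf fun r hr => ?_
    haveI := hr.1.1
    obtain ⟨Q, hQ, hQr⟩ := Ideal.exists_comap_eq_of_mem_minimalPrimes_of_injective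
      (f := algebraMap D S) hDinj (r.comap (algebraMap D (D ⊗[C] S)))
      (comap_mem_minimalPrimes hr)
    obtain ⟨Q₀, hQ₀, hQ₀le⟩ := Ideal.exists_minimalPrimes_le (I := (⊥ : Ideal S)) (J := Q) bot_le
    haveI := hQ₀.1.1
    obtain ⟨r₀, hr₀, hr₀le⟩ := Ideal.exists_minimalPrimes_le (I := (⊥ : Ideal (D ⊗[C] S)))
      (J := Q₀.comap μ.toRingHom) bot_le
    have hDQ₀ : (Q₀.comap μ.toRingHom).comap (algebraMap D (D ⊗[C] S)) ≤
        r.comap (algebraMap D (D ⊗[C] S)) := by
      rw [← hQr, Ideal.comap_comap, show μ.toRingHom.comp (algebraMap D (D ⊗[C] S)) = algebraMap D S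
        from μ.comp_algebraMap]
      exact Ideal.comap_mono hQ₀le
    have hr_eq : r₀ = r := by
      rw [hext r₀ hr₀, hext r hr]
      congr 1
      refine le_antisymm ((Ideal.comap_mono hr₀le).trans hDQ₀) ?_
      haveI := hr₀.1.1
      exact (comap_mem_minimalPrimes hr).2 ⟨inferInstance, bot_le⟩
        ((Ideal.comap_mono hr₀le).trans hDQ₀)
    subst hr_eq
    have heq : r₀ = Q₀.comap μ.toRingHom := by
      by_contra hne
      obtain ⟨x, hx, hxr⟩ := SetLike.exists_of_lt (lt_of_le_of_ne hr₀le hne)
      have hlt := Ideal.comap_lt_comap_of_integral_mem_sdiff (R := S) hr₀le ⟨hx, hxr⟩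
        (Algebra.IsIntegral.isIntegral x)
      have hQ₀S : (Q₀.comap μ.toRingHom).comap (algebraMap S (D ⊗[C] S)) = Q₀ := by
        ext s
        show μ (1 ⊗ₜ s) ∈ Q₀ ↔ _
        rw [hμ]
      rw [hQ₀S] at hlt
      exact hlt.not_ge (hQ₀.2 ⟨inferInstance, bot_le⟩ hlt.le)
    rw [heq]
    exact fun z hz => Ideal.mem_comap.mpr (by rw [show μ.toRingHom z = 0 from hz]; exact Q₀.zero_mem)
  have hμinj : Function.Injective μ := (RingHom.injective_iff_ker_eq_bot μ.toRingHom).mpr hkerμ
  -- the map from the étale algebra is surjective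
  haveI : Module.Flat C S :=
    (GrothLib.Hensel.IsStrictHenselization.flat (R := C) (S := S))
  haveI : Module.FaithfullyFlat D (D ⊗[C] S) := Module.FaithfullyFlat.of_flat_of_isLocalHom
  have hmD : (maximalIdeal C).map (algebraMap C D) = maximalIdeal D := by
    refine le_antisymm (((local_hom_TFAE _).out 0 2 rfl rfl).mp inferInstance) fun d hd => ?_
    rw [← Ideal.comap_map_eq_self_of_faithfullyFlat (A := D) (B := D ⊗[C] S)
      ((maximalIdeal C).map (algebraMap C D)), Ideal.mem_comap, Ideal.map_map,
      ← IsScalarTower.algebraMap_eq]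
    have h1 : algebraMap D S d ∈ maximalIdeal S := fun hu => hd (IsLocalHom.map_nonunit d hu)
    rw [← GrothLib.Hensel.IsStrictHenselization.map_maximalIdeal (R := C) (S := S)] at h1
    have h2 : algebraMap D (D ⊗[C] S) d = algebraMap S (D ⊗[C] S) (algebraMap D S d) :=
      hμinj (by rw [μ.commutes]; exact (hμ _).symm)
    rw [h2]
    have h3 := Ideal.mem_map_of_mem (algebraMap S (D ⊗[C] S)) h1
    rw [Ideal.map_map, show (algebraMap S (D ⊗[C] S)).comp (algebraMap C S) =
      algebraMap C (D ⊗[C] S) from RingHom.ext fun c =>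
        ((Algebra.TensorProduct.includeRight : S →ₐ[C] D ⊗[C] S).commutes c)] at h3
    exact h3
  have hsurj : Function.Surjective ψ := by
    have hspan : (⊤ : Submodule C D) ≤
        LinearMap.range (Algebra.linearMap C D) ⊔ maximalIdeal C • ⊤ := fun d _ => by
      obtain ⟨c, hc⟩ := hg (residue D d)
      refine Submodule.mem_sup.mpr ⟨ψ c, ⟨c, rfl⟩, d - ψ c, ?_, by abel⟩
      rw [Ideal.smul_top_eq_map, Submodule.restrictScalars_mem, hmD, ← residue_eq_zero_iff,
        map_sub, hψ', hc, sub_self]
    have h := Submodule.le_of_le_smul_of_le_jacobson_bot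
      (Module.Finite.fg_top (R := C) (M := D)) (maximalIdeal_le_jacobson ⊥) hspan
    exact fun z => h (Submodule.mem_top (x := z))
  have hinjφ : Function.Injective φ := injective_of_isLocalHom φ
  have hinj : Function.Injective ψ := fun a b h => hinjφ (congrArg (algebraMap D S) h)
  exact Algebra.Etale.of_equiv (AlgEquiv.ofBijective ψ ⟨hinj, hsurj⟩)

/-- The criterion for a finite subalgebra of a strict henselization. -/
theorem etale_and_extended_iff {A S : Type u} [CommRing A] [HenselianLocalRing A]
    [IsNoetherianRing A] [IsReduced A] [CommRing S] [IsLocalRing S] [Algebra A S]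
    [IsLocalHom (algebraMap A S)] [hS : _root_.Hensel.IsStrictHenselization A S]
    (D : Subalgebra A S) [Module.Finite A D] [HenselianLocalRing D] [IsReduced D]
    [IsNoetherianRing D] [IsLocalHom (algebraMap D S)] [IsLocalHom (algebraMap A D)] :
    (Algebra.Etale A D ∧
        ∀ Q ∈ minimalPrimes S, Q = Ideal.map (algebraMap D S) (Q.comap (algebraMap D S))) ↔
      ResiduesPurelyInseparable D := by
  have key : ∀ _ : Algebra.Etale A D, _root_.Hensel.IsStrictHenselization D S := fun het => by
    have hm : (maximalIdeal A).map (algebraMap A D) = maximalIdeal D :=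
      Algebra.FormallyUnramified.map_maximalIdeal
    exact isStrictHenselization_of_essEt (A := A) (isEssentiallyEtale_of_map_maximalIdeal D hm)
  constructor
  · rintro ⟨het, hext⟩
    haveI := key het
    exact (card_minimalPrimes_eq_iff (D := D) (T := S)).mp (minimalPrimes_extended_iff.mp hext)
  · intro hcond
    have het := etale_of_residuesPurelyInseparable (A := A) (S := S) Subtype.val_injective hcond
    haveI := key het
    exact ⟨het, minimalPrimes_extended_iff.mpr
      ((card_minimalPrimes_eq_iff (D := D) (T := S)).mpr hcond)⟩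

end GrothLib.EssEtLoc
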