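import Groth.Agent.Lib.EssEtLoc.Basic
import Groth.Agent.Lib.Hensel.Branches
import Mathlib.RingTheory.Artinian.Algebra
import Mathlib.RingTheory.Unramified.LocalStructure
import Mathlib.RingTheory.Ideal.MinimalPrime.Localization

/-!
# Total rings of fractions of essentially étale local algebras
-/

universe u

open IsLocalRing

namespace GrothLib.EssEtLoc

theorem isArtinianRing_fractionRing (A : Type u) [CommRing A] [IsReduced A]
    (hmin : (minimalPrimes A).Finite) : IsArtinianRing (FractionRing A) := by
  have hK := GrothLib.Hensel.absFlat_fractionRing A hmin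
  haveI : IsReduced (FractionRing A) := hK.isReduced
  have hfin : Finite (MaximalSpectrum (FractionRing A)) := by
    haveI := hmin.to_subtype
    refine Finite.of_injective (fun m : MaximalSpectrum (FractionRing A) =>
      (⟨m.asIdeal.comap (algebraMap A (FractionRing A)), ?_⟩ : minimalPrimes A)) fun m m' h => ?_
    · haveI : (⊥ : Ideal A) ≤ m.asIdeal.comap (algebraMap A (FractionRing A)) := bot_le
      haveI := m.isMaximal.isPrime
      obtain ⟨p, hp, hle⟩ := Ideal.exists_minimalPrimes_le
        (I := (⊥ : Ideal A)) (J := m.asIdeal.comap (algebraMap A (FractionRing A))) bot_le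
      haveI := hp.1.1
      have hd : Disjoint (nonZeroDivisors A : Set A) p :=
        (Ideal.disjoint_nonZeroDivisors_of_mem_minimalPrimes hp).symm
      haveI : (p.map (algebraMap A (FractionRing A))).IsPrime :=
        IsLocalization.isPrime_of_isPrime_disjoint (nonZeroDivisors A) _ p hp.1.1 hd
      have heq : p.map (algebraMap A (FractionRing A)) = m.asIdeal :=
        hK.eq_of_le (Ideal.map_le_iff_le_comap.mpr hle)
      rw [← heq]
      show (p.map (algebraMap A (FractionRing A))).under A ∈ minimalPrimes A
      rw [IsLocalization.under_map_of_isPrime_disjoint (nonZeroDivisors A) (FractionRing A)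
        hp.1.1 hd]
      exact hp
    · have h' := congrArg Subtype.val h
      apply MaximalSpectrum.ext
      rw [← IsLocalization.map_under (nonZeroDivisors A) (FractionRing A) m.asIdeal,
        ← IsLocalization.map_under (nonZeroDivisors A) (FractionRing A) m'.asIdeal]
      exact congrArg _ h'
  let f : FractionRing A →ₗ[FractionRing A]
      (m : MaximalSpectrum (FractionRing A)) → FractionRing A ⧸ m.asIdeal :=
    LinearMap.pi fun m => Submodule.mkQ m.asIdeal
  haveI : ∀ m : MaximalSpectrum (FractionRing A), IsArtinian (FractionRing A)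
      (FractionRing A ⧸ m.asIdeal) := fun m => by
    haveI := m.isMaximal
    letI := Ideal.Quotient.field m.asIdeal
    exact isArtinian_of_surjective_algebraMap (R := FractionRing A ⧸ m.asIdeal)
      (S := FractionRing A) (M := FractionRing A ⧸ m.asIdeal) Ideal.Quotient.mk_surjective
  refine isArtinian_of_injective f ((injective_iff_map_eq_zero f).mpr fun x hx => ?_)
  have hn : x ∈ nilradical (FractionRing A) := by
    rw [nilradical_eq_sInf, Ideal.mem_sInf]
    intro q hq
    haveI : q.IsPrime := hq
    exact Ideal.Quotient.eq_zero_iff_mem.mp (congrFun hx ⟨q, hK.isMaximal q⟩)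
  exact IsNilpotent.eq_zero hn

variable {A : Type u} [CommRing A] [IsLocalRing A] [IsReduced A] {E : Type u} [CommRing E]
  [Algebra A E]

theorem map_nonZeroDivisors_le (hE : EGA4loc.IsEssentiallyEtale A E) :
    (nonZeroDivisors A).map (algebraMap A E) ≤ nonZeroDivisors E := by
  rintro _ ⟨a, ha, rfl⟩
  have := flat hE
  rw [mem_nonZeroDivisors_iff_right]
  intro x hx
  have hreg : IsSMulRegular A a := fun x y h => by
    simp only [smul_eq_mul] at h
    exact (mul_cancel_left_mem_nonZeroDivisors ha).mp h
  have h2 := hreg.of_flat (S := E)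
  exact h2 (show algebraMap A E a * x = algebraMap A E a * 0 by rw [mul_zero, mul_comm]; exact hx)

/-- The total fraction ring is the localization at the non-zero-divisors of the base, and it is
finite over the total fraction ring of the base. -/
theorem fractionRing_structure (hmin : (minimalPrimes A).Finite)
    (hE : EGA4loc.IsEssentiallyEtale A E) :
    IsLocalization ((nonZeroDivisors A).map (algebraMap A E)) (FractionRing E) ∧
      ∃ (_ : Algebra (FractionRing A) (FractionRing E))
        (_ : IsScalarTower A (FractionRing A) (FractionRing E)),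
        Module.Finite (FractionRing A) (FractionRing E) := by
  have := isArtinianRing_fractionRing A hmin
  have hle := map_nonZeroDivisors_le hE
  have := formallyEtale hE
  have := essFiniteType hE
  let M : Submonoid E := (nonZeroDivisors A).map (algebraMap A E)
  let T := Localization M
  have hu : ∀ a : nonZeroDivisors A, IsUnit (algebraMap A T a) := fun a => by
    rw [IsScalarTower.algebraMap_apply A E T]
    exact IsLocalization.map_units T (⟨_, a, a.2, rfl⟩ : M)
  letI : Algebra (FractionRing A) T := (IsLocalization.lift (g := algebraMap A T) hu).toAlgebra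
  haveI : IsScalarTower A (FractionRing A) T :=
    .of_algebraMap_eq fun a => (IsLocalization.lift_eq hu a).symm
  haveI : Algebra.FormallyEtale A T := Algebra.FormallyEtale.comp A E T
  haveI : Algebra.FormallyUnramified (FractionRing A) T :=
    Algebra.FormallyUnramified.of_restrictScalars A _ _
  haveI : Algebra.EssFiniteType A T := inferInstanceAs (Algebra.EssFiniteType A (Localization M))
  haveI : Algebra.EssFiniteType (FractionRing A) T := Algebra.EssFiniteType.of_comp A _ _
  haveI : Module.Finite (FractionRing A) T := Module.Finite.of_quasiFinite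
  have hN : IsLocalization (nonZeroDivisors E) T :=
    IsLocalization.of_le (M := M) (S := T) (nonZeroDivisors E) hle fun r hr =>
      IsArtinianRing.isUnit_of_nonZeroDivisor_of_isIntegral' (R := FractionRing A)
        (IsLocalization.map_nonZeroDivisors_le M T ⟨r, hr, rfl⟩)
  let e : T ≃ₐ[E] FractionRing E := IsLocalization.algEquiv (nonZeroDivisors E) _ _
  refine ⟨IsLocalization.isLocalization_of_algEquiv M e, ?_⟩
  letI : Algebra (FractionRing A) (FractionRing E) :=
    (e.toRingEquiv.toRingHom.comp (algebraMap (FractionRing A) T)).toAlgebra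
  haveI : IsScalarTower A (FractionRing A) (FractionRing E) := .of_algebraMap_eq fun a => by
    show _ = e (algebraMap (FractionRing A) T (algebraMap A (FractionRing A) a))
    rw [← IsScalarTower.algebraMap_apply A (FractionRing A) T, IsScalarTower.algebraMap_apply A E T,
      e.commutes, ← IsScalarTower.algebraMap_apply]
  refine ⟨inferInstance, inferInstance, ?_⟩
  let l : T →ₗ[FractionRing A] FractionRing E :=
    { toFun := e
      map_add' := map_add e
      map_smul' := fun k x => by
        rw [RingHom.id_apply, Algebra.smul_def, Algebra.smul_def, map_mul]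
        rfl }
  exact Module.Finite.of_surjective l e.surjective

theorem exists_span (hmin : (minimalPrimes A).Finite) (hE : EGA4loc.IsEssentiallyEtale A E)
    (L : Submodule A (FractionRing E)) :
    ∃ t : Finset (FractionRing E), (t : Set (FractionRing E)) ⊆ L ∧ ∀ x ∈ L, ∃ a ∈ nonZeroDivisors A,
      algebraMap A (FractionRing E) a * x ∈ Submodule.span A (t : Set (FractionRing E)) := by
  classical
  obtain ⟨-, _, _, _⟩ := fractionRing_structure hmin hE
  have := isArtinianRing_fractionRing A hmin
  obtain ⟨t, ht, hspan⟩ :=
    (Submodule.fg_span_iff_fg_span_finset_subset (L : Set (FractionRing E))).mp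
      (IsNoetherian.noetherian (Submodule.span (FractionRing A) (L : Set (FractionRing E))))
  refine ⟨t, ht, fun x hx => ?_⟩
  have hx' : x ∈ Submodule.span (FractionRing A) (t : Set (FractionRing E)) :=
    hspan ▸ Submodule.subset_span hx
  refine Submodule.span_induction (fun y hy => ?_) ?_ (fun y z _ _ hy hz => ?_)
    (fun k y _ hy => ?_) hx'
  · exact ⟨1, one_mem _, by rw [map_one, one_mul]; exact Submodule.subset_span hy⟩
  · exact ⟨1, one_mem _, by rw [mul_zero]; exact zero_mem _⟩
  · obtain ⟨a, ha, hya⟩ := hy
    obtain ⟨b, hb, hzb⟩ := hz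
    refine ⟨a * b, mul_mem ha hb, ?_⟩
    rw [mul_add]
    refine add_mem ?_ ?_
    · have := Submodule.smul_mem _ b hya
      rw [Algebra.smul_def] at this
      convert! this using 1
      rw [map_mul]; ring
    · have := Submodule.smul_mem _ a hzb
      rw [Algebra.smul_def] at this
      convert! this using 1
      rw [map_mul]; ring
  · obtain ⟨a, ha, hya⟩ := hy
    obtain ⟨⟨b, s⟩, hs⟩ := IsLocalization.surj (nonZeroDivisors A) k
    refine ⟨a * s, mul_mem ha s.2, ?_⟩
    have h1 := Submodule.smul_mem _ b hya
    rw [Algebra.smul_def] at h1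
    convert! h1 using 1
    have h2 : algebraMap A (FractionRing E) b =
        algebraMap (FractionRing A) (FractionRing E) k * algebraMap A (FractionRing E) s := by
      rw [IsScalarTower.algebraMap_apply A (FractionRing A) (FractionRing E) s, ← map_mul, hs,
        ← IsScalarTower.algebraMap_apply]
    rw [h2, Algebra.smul_def, map_mul]; ring

/-- In a subalgebra of the total fraction ring, a non-zero-divisor divides a non-zero-divisor of
the base. -/
theorem exists_mul_eq (hmin : (minimalPrimes A).Finite) (hE : EGA4loc.IsEssentiallyEtale A E)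
    (L : Subalgebra A (FractionRing E)) {s : FractionRing E} (hs : s ∈ L)
    (hnzd : ∀ z ∈ L, s * z = 0 → z = 0) :
    ∃ z ∈ L, ∃ a ∈ nonZeroDivisors A, s * z = algebraMap A (FractionRing E) a := by
  obtain ⟨hloc, _, _, _⟩ := fractionRing_structure hmin hE
  have := isArtinianRing_fractionRing A hmin
  let L' : Subalgebra (FractionRing A) (FractionRing E) :=
    { carrier := {z | ∃ a ∈ nonZeroDivisors A, algebraMap A (FractionRing E) a * z ∈ L}
      mul_mem' := fun {y z} ⟨a, ha, hy⟩ ⟨b, hb, hz⟩ => ⟨a * b, mul_mem ha hb, by
        rw [map_mul, mul_mul_mul_comm]; exact mul_mem hy hz⟩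
      add_mem' := fun {y z} ⟨a, ha, hy⟩ ⟨b, hb, hz⟩ => ⟨a * b, mul_mem ha hb, by
        rw [show algebraMap A (FractionRing E) (a * b) * (y + z) =
          algebraMap A (FractionRing E) b * (algebraMap A (FractionRing E) a * y) +
          algebraMap A (FractionRing E) a * (algebraMap A (FractionRing E) b * z) by rw [map_mul]; ring]
        exact add_mem (mul_mem (L.algebraMap_mem b) hy) (mul_mem (L.algebraMap_mem a) hz)⟩
      algebraMap_mem' := fun k => by
        obtain ⟨⟨b, t⟩, ht⟩ := IsLocalization.surj (nonZeroDivisors A) k
        refine ⟨t, t.2, ?_⟩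
        rw [IsScalarTower.algebraMap_apply A (FractionRing A) (FractionRing E), ← map_mul, mul_comm,
          ht, ← IsScalarTower.algebraMap_apply]
        exact L.algebraMap_mem b }
  have hs' : s ∈ L' := ⟨1, one_mem _, by rw [map_one, one_mul]; exact hs⟩
  have hunitA : ∀ a ∈ nonZeroDivisors A, IsUnit (algebraMap A (FractionRing E) a) := fun a ha => by
    rw [IsScalarTower.algebraMap_apply A (FractionRing A) (FractionRing E)]
    exact (IsLocalization.map_units (FractionRing A) (⟨a, ha⟩ : nonZeroDivisors A)).map _
  haveI : Module.Finite (FractionRing A) L' := by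
    show Module.Finite (FractionRing A) (Subalgebra.toSubmodule L')
    infer_instance
  have hmem : (⟨s, hs'⟩ : L') ∈ nonZeroDivisors L' := by
    rw [mem_nonZeroDivisors_iff_right]
    rintro ⟨z, a, ha, hz⟩ h
    have h' : z * s = 0 := congrArg Subtype.val h
    refine Subtype.ext ((hunitA a ha).mul_right_eq_zero.mp (hnzd _ hz ?_))
    rw [mul_left_comm, mul_comm s, h', mul_zero]
  obtain ⟨⟨z, a, ha, hz⟩, hinv⟩ := (IsArtinianRing.isUnit_of_nonZeroDivisor_of_isIntegral'
    (R := FractionRing A) hmem).exists_right_inv
  refine ⟨_, hz, a, ha, ?_⟩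
  have h' : s * z = 1 := congrArg Subtype.val hinv
  rw [mul_left_comm, h', mul_one]

end GrothLib.EssEtLoc
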