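import Groth.Agent.Lib.Hensel.MultivarRoot
import Groth.Prelude.Def_EssEt
import Mathlib.RingTheory.Etale.Basic
import Mathlib.RingTheory.Unramified.Finite
import Mathlib.RingTheory.Unramified.LocalRing
import Mathlib.RingTheory.Flat.FaithfullyFlat.Algebra
import Mathlib.RingTheory.Flat.Stability

/-!
# Essentially étale local algebras: elementary properties
-/

universe u

open TensorProduct IsLocalRing

namespace GrothLib.EssEtLoc

/-- An algebra flat over the base is flat over any unramified algebra mapping to it. -/
theorem flat_of_formallyUnramified {A C S : Type u} [CommRing A] [CommRing C] [CommRing S]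
    [Algebra A C] [Algebra A S] [Algebra C S] [IsScalarTower A C S]
    [Algebra.FormallyUnramified A C] [Algebra.EssFiniteType A C] [Module.Flat A S] :
    Module.Flat C S := by
  let e' : C ⊗[A] S := Algebra.TensorProduct.map (AlgHom.id A C) (IsScalarTower.toAlgHom A C S)
    (Algebra.FormallyUnramified.elem A C)
  have he : ∀ c : C, e' * ((1 : C) ⊗ₜ[A] algebraMap C S c) = e' * (c ⊗ₜ[A] (1 : S)) := fun c => by
    have h := congrArg (Algebra.TensorProduct.map (AlgHom.id A C) (IsScalarTower.toAlgHom A C S))
      (Algebra.FormallyUnramified.one_tmul_mul_elem (R := A) c)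
    simp only [map_mul, Algebra.TensorProduct.map_tmul, AlgHom.coe_id, id_eq, map_one,
      IsScalarTower.coe_toAlgHom'] at h
    rw [mul_comm, h, mul_comm]
  let i : S →ₗ[C] C ⊗[A] S :=
    { toFun := fun s => e' * ((1 : C) ⊗ₜ[A] s)
      map_add' := fun x y => by rw [tmul_add, mul_add]
      map_smul' := fun c s => by
        rw [RingHom.id_apply, Algebra.smul_def,
          show ((1 : C) ⊗ₜ[A] (algebraMap C S c * s)) = (1 ⊗ₜ algebraMap C S c) * (1 ⊗ₜ s) by
            rw [Algebra.TensorProduct.tmul_mul_tmul, one_mul],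
          ← mul_assoc, he, mul_assoc, Algebra.smul_def, Algebra.TensorProduct.algebraMap_apply,
          Algebra.algebraMap_self, RingHom.id_apply]
        ring }
  let p : C ⊗[A] S →ₐ[C] S :=
    Algebra.TensorProduct.lift (Algebra.ofId C S) (AlgHom.id A S) fun _ _ => Commute.all _ _
  have hp : p e' = 1 := by
    have h : (p.restrictScalars A).comp
        (Algebra.TensorProduct.map (AlgHom.id A C) (IsScalarTower.toAlgHom A C S)) =
        (IsScalarTower.toAlgHom A C S).comp (Algebra.TensorProduct.lmul' A) :=
      Algebra.TensorProduct.ext' fun a b => by simp [p, Algebra.ofId_apply]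
    refine (AlgHom.congr_fun h _).trans ?_
    simp [Algebra.FormallyUnramified.lmul_elem]
  refine Module.Flat.of_retract i p.toLinearMap (LinearMap.ext fun s => ?_)
  show p (e' * ((1 : C) ⊗ₜ[A] s)) = s
  rw [map_mul, hp, one_mul]
  simp [p]

variable {A : Type u} [CommRing A] [IsLocalRing A]

theorem of_algEquiv {B B' : Type u} [CommRing B] [Algebra A B] [CommRing B'] [Algebra A B']
    (h : EGA4loc.IsEssentiallyEtale A B) (e : B ≃ₐ[A] B') : EGA4loc.IsEssentiallyEtale A B' := by
  obtain ⟨C, _, _, q, _, hC, hq, ⟨e'⟩⟩ := h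
  exact ⟨C, inferInstance, inferInstance, q, inferInstance, hC, hq, ⟨e.symm.trans e'⟩⟩

theorem formallyEtale {B : Type u} [CommRing B] [Algebra A B]
    (h : EGA4loc.IsEssentiallyEtale A B) : Algebra.FormallyEtale A B := by
  obtain ⟨C, _, _, q, _, _, -, ⟨e⟩⟩ := h
  have : Algebra.FormallyEtale A (Localization.AtPrime q) :=
    Algebra.FormallyEtale.comp A C (Localization.AtPrime q)
  exact Algebra.FormallyEtale.of_equiv e.symm

theorem essFiniteType {B : Type u} [CommRing B] [Algebra A B]
    (h : EGA4loc.IsEssentiallyEtale A B) : Algebra.EssFiniteType A B := by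
  obtain ⟨C, _, _, q, _, _, -, ⟨e⟩⟩ := h
  exact Algebra.EssFiniteType.of_surjective e.symm.toAlgHom e.symm.surjective

theorem flat {B : Type u} [CommRing B] [Algebra A B]
    (h : EGA4loc.IsEssentiallyEtale A B) : Module.Flat A B := by
  obtain ⟨C, _, _, q, _, _, -, ⟨e⟩⟩ := h
  have : Module.Flat A (Localization.AtPrime q) := Module.Flat.trans A C _
  exact Module.Flat.of_linearEquiv e.toLinearEquiv

theorem isLocalHom_algebraMap {B : Type u} [CommRing B] [IsLocalRing B] [Algebra A B]
    (h : EGA4loc.IsEssentiallyEtale A B) : IsLocalHom (algebraMap A B) := by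
  obtain ⟨C, _, _, q, _, _, hq, ⟨e⟩⟩ := h
  refine ⟨fun a ha => ?_⟩
  have h1 := ha.map e
  rw [e.commutes, IsScalarTower.algebraMap_apply A C (Localization.AtPrime q),
    IsLocalization.AtPrime.isUnit_to_map_iff _ q] at h1
  by_contra hn
  exact h1 ((hq.ge : maximalIdeal A ≤ _) hn)

theorem map_maximalIdeal {B : Type u} [CommRing B] [IsLocalRing B] [Algebra A B]
    (h : EGA4loc.IsEssentiallyEtale A B) :
    (maximalIdeal A).map (algebraMap A B) = maximalIdeal B := by
  have := isLocalHom_algebraMap h
  have := formallyEtale h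
  have := essFiniteType h
  exact Algebra.FormallyUnramified.map_maximalIdeal

/-- Every map of an essentially étale algebra to a local algebra is local. -/
theorem isLocalHom_algHom {B C : Type u} [CommRing B] [IsLocalRing B] [Algebra A B]
    (hB : EGA4loc.IsEssentiallyEtale A B) [CommRing C] [IsLocalRing C] [Algebra A C]
    [IsLocalHom (algebraMap A C)] (φ : B →ₐ[A] C) : IsLocalHom φ.toRingHom := by
  refine ((local_hom_TFAE φ.toRingHom).out 0 2 rfl rfl).mpr ?_
  rw [← map_maximalIdeal hB, Ideal.map_map,
    show φ.toRingHom.comp (algebraMap A B) = algebraMap A C from φ.comp_algebraMap]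
  exact ((local_hom_TFAE _).out 0 2 rfl rfl).mp ‹_›

theorem algHom_ext_residue {B C : Type u} [CommRing B] [IsLocalRing B] [Algebra A B]
    (hB : EGA4loc.IsEssentiallyEtale A B) [CommRing C] [IsLocalRing C] [Algebra A C]
    (u v : B →ₐ[A] C) (h : (residue C).comp u.toRingHom = (residue C).comp v.toRingHom) : u = v := by
  have := formallyEtale hB
  have := essFiniteType hB
  exact GrothLib.Hensel.algHom_eq_of_sub_mem (I := maximalIdeal C) (maximalIdeal_le_jacobson ⊥)
    fun x => Ideal.Quotient.eq.mp (RingHom.congr_fun h x)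

/-- A local map of local algebras out of an unramified one into a flat one is injective. -/
theorem injective_of_isLocalHom {B S : Type u} [CommRing B] [IsLocalRing B] [Algebra A B]
    [Algebra.FormallyUnramified A B] [Algebra.EssFiniteType A B] [CommRing S] [IsLocalRing S]
    [Algebra A S] [Module.Flat A S] (φ : B →ₐ[A] S) [hφ : IsLocalHom φ.toRingHom] :
    Function.Injective φ := by
  letI : Algebra B S := φ.toRingHom.toAlgebra
  haveI : IsScalarTower A B S := .of_algebraMap_eq' φ.comp_algebraMap.symm
  haveI : IsLocalHom (algebraMap B S) := hφ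
  haveI : Module.Flat B S := flat_of_formallyUnramified (A := A)
  haveI : Module.FaithfullyFlat B S := .of_flat_of_isLocalHom
  exact FaithfulSMul.algebraMap_injective B S

/-- The localization of an étale algebra at the point given by a map to a local algebra. -/
theorem exists_lift_localization {C S : Type u} [CommRing C] [Algebra A C] [Algebra.Etale A C]
    [CommRing S] [IsLocalRing S] [Algebra A S] [IsLocalHom (algebraMap A S)] [Module.Flat A S]
    (φ : C →ₐ[A] S) :
    ∃ (q : Ideal C) (_ : q.IsPrime) (ψ : Localization.AtPrime q →ₐ[A] S),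
      EGA4loc.IsEssentiallyEtale A (Localization.AtPrime q) ∧ Function.Injective ψ ∧
        IsLocalHom ψ.toRingHom ∧ ∀ c, ψ (algebraMap C _ c) = φ c := by
  let q := (maximalIdeal S).comap φ.toRingHom
  have hq : q.comap (algebraMap A C) = maximalIdeal A := by
    rw [Ideal.comap_comap, show φ.toRingHom.comp (algebraMap A C) = algebraMap A S from
      φ.comp_algebraMap]
    exact maximalIdeal_comap _
  have hu : ∀ y : q.primeCompl, IsUnit (φ y) := fun y => by
    by_contra h
    exact y.2 ((mem_maximalIdeal _).mpr h)
  let ψ : Localization.AtPrime q →ₐ[A] S := IsLocalization.liftAlgHom (f := φ) hu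
  have hψ : ∀ c, ψ (algebraMap C _ c) = φ c := fun c => IsLocalization.lift_eq _ c
  have hE : EGA4loc.IsEssentiallyEtale A (Localization.AtPrime q) :=
    ⟨C, inferInstance, inferInstance, q, inferInstance, inferInstance, hq, ⟨AlgEquiv.refl⟩⟩
  have := formallyEtale hE
  have := essFiniteType hE
  have hloc := isLocalHom_algHom hE ψ
  exact ⟨q, inferInstance, ψ, hE, injective_of_isLocalHom ψ, hloc, hψ⟩

end GrothLib.EssEtLoc
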