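import Groth.Agent.Lib.EssEtLoc.BranchCriterion

/-!
# Branches against a henselization and a strict henselization
-/

universe u

open IsLocalRing

noncomputable section

namespace GrothLib.EssEtLoc

/-- A strict henselization is a strict henselization of the henselization. -/
theorem isStrictHenselization_of_henselization {A Ah Ash : Type u} [CommRing A] [IsLocalRing A]
    [CommRing Ah] [IsLocalRing Ah] [Algebra A Ah] [IsLocalHom (algebraMap A Ah)]
    [hh : _root_.Hensel.IsHenselization A Ah]
    [CommRing Ash] [IsLocalRing Ash] [Algebra A Ash] [IsLocalHom (algebraMap A Ash)]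
    [hs : _root_.Hensel.IsStrictHenselization A Ash] [Algebra Ah Ash] [IsScalarTower A Ah Ash] :
    ∃ (_ : IsLocalHom (algebraMap Ah Ash)), _root_.Hensel.IsStrictHenselization Ah Ash := by
  haveI := hh.henselian
  haveI := hs.henselian
  haveI hloc : IsLocalHom (algebraMap Ah Ash) := by
    refine ((local_hom_TFAE _).out 0 2 rfl rfl).mpr ?_
    rw [← GrothLib.Hensel.IsHenselization.map_maximalIdeal (R := A) (S := Ah), Ideal.map_map,
      ← IsScalarTower.algebraMap_eq]
    exact ((local_hom_TFAE _).out 0 2 rfl rfl).mp ‹IsLocalHom (algebraMap A Ash)›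
  refine ⟨hloc, { henselian := inferInstance, isSepClosure := ?_, universal := ?_ }⟩
  · haveI : Algebra.IsSeparable (ResidueField A) (ResidueField Ash) := hs.isSepClosure.separable
    haveI : IsScalarTower (ResidueField A) (ResidueField Ah) (ResidueField Ash) :=
      IsScalarTower.of_algebraMap_eq fun x => by
        obtain ⟨a, rfl⟩ := residue_surjective x
        show residue Ash (algebraMap A Ash a) = residue Ash (algebraMap Ah Ash (algebraMap A Ah a))
        rw [← IsScalarTower.algebraMap_apply]
    exact ⟨hs.isSepClosure.sep_closed,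
      Algebra.isSeparable_tower_top_of_isSeparable (ResidueField A) _ _⟩
  intro T _ _ f _ τ hτ
  haveI : IsLocalHom (f.comp (algebraMap A Ah)) := RingHom.isLocalHom_comp _ _
  have hcomp : τ.comp (ResidueField.map (algebraMap A Ash)) =
      ResidueField.map (f.comp (algebraMap A Ah)) := by
    refine RingHom.ext fun x => ?_
    obtain ⟨a, rfl⟩ := residue_surjective x
    have := RingHom.congr_fun hτ (residue Ah (algebraMap A Ah a))
    simp only [RingHom.comp_apply, ResidueField.map_residue] at this ⊢
    rwa [← IsScalarTower.algebraMap_apply] at this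
  obtain ⟨g, ⟨hg, hgτ⟩, huniq⟩ := hs.universal T (f.comp (algebraMap A Ah)) τ hcomp
  have hgf : g.comp (algebraMap Ah Ash) = f := by
    obtain ⟨g₀, -, hu⟩ := hh.universal T (f.comp (algebraMap A Ah)) inferInstance
    rw [hu f rfl, hu (g.comp (algebraMap Ah Ash))
      (show (g.comp (algebraMap Ah Ash)).comp (algebraMap A Ah) = _ by
        rw [RingHom.comp_assoc, ← IsScalarTower.algebraMap_eq, hg])]
  refine ⟨g, ⟨hgf, hgτ⟩, fun g' ⟨hg', hgτ'⟩ => huniq g' ⟨?_, hgτ'⟩⟩
  rw [IsScalarTower.algebraMap_eq A Ah Ash, ← RingHom.comp_assoc, hg']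

/-- The henselization and the strict henselization have equally many minimal primes exactly when
the residue fields of the normalization are purely inseparable. -/
theorem card_minimalPrimes_henselization_eq_iff (A Ah Ash : Type u) [CommRing A] [IsLocalRing A]
    [IsReduced A] [IsNoetherianRing A] [CommRing Ah] [IsLocalRing Ah] [Algebra A Ah]
    [IsLocalHom (algebraMap A Ah)] [_root_.Hensel.IsHenselization A Ah] [CommRing Ash]
    [IsLocalRing Ash] [Algebra A Ash] [IsLocalHom (algebraMap A Ash)]
    [_root_.Hensel.IsStrictHenselization A Ash] :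
    ENat.card (minimalPrimes Ash) = ENat.card (minimalPrimes Ah) ↔ ResiduesPurelyInseparable A := by
  have hfin := minimalPrimes.finite_of_isNoetherianRing A
  have hD : ENat.card (minimalPrimes Ah) = Brnch.numBranches A :=
    GrothLib.Hensel.IsHenselization.card_minimalPrimes
  haveI : IsNoetherianRing Ah :=
    (GrothLib.Hensel.IsHenselization.isNoetherianRing_iff (R := A) (S := Ah)).mp ‹_›
  haveI : IsNoetherianRing Ash :=
    (GrothLib.Hensel.IsStrictHenselization.isNoetherianRing_iff (R := A) (S := Ash)).mp ‹_›
  haveI : Finite (minimalPrimes Ah) := (minimalPrimes.finite_of_isNoetherianRing Ah).to_subtype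
  haveI : Finite (minimalPrimes Ash) := (minimalPrimes.finite_of_isNoetherianRing Ash).to_subtype
  have hT : ENat.card (minimalPrimes Ash) = Brnch.numGeomBranches A :=
    GrothLib.Hensel.IsStrictHenselization.card_minimalPrimes
  rw [Brnch.numBranches, if_pos hfin] at hD
  rw [Brnch.numGeomBranches, if_pos hfin] at hT
  haveI : Finite (MaximalSpectrum (CAlg2.normRed A)) := by
    rw [← not_infinite_iff_finite]
    intro hinf
    rw [ENat.card_eq_top_of_infinite (α := MaximalSpectrum (CAlg2.normRed A))] at hD
    exact absurd hD (by rw [ENat.card_eq_coe_natCard]; exact ENat.coe_ne_top _)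
  haveI : Finite (Σ m : MaximalSpectrum (CAlg2.normRed A), Brnch.Emb A m) := by
    rw [← not_infinite_iff_finite]
    intro hinf
    rw [ENat.card_eq_top_of_infinite (α := Σ m : MaximalSpectrum (CAlg2.normRed A), Brnch.Emb A m)] at hT
    exact absurd hT (by rw [ENat.card_eq_coe_natCard]; exact ENat.coe_ne_top _)
  obtain ⟨e⟩ := exists_normRed_equiv A
  rw [← subsingleton_emb_iff_of_equiv e, hT, hD]
  have hne := fun m => (GrothLib.Hensel.subsingleton_emb_iff A m).1
  have hsurj : Function.Surjective (Sigma.fst : (Σ m, Brnch.Emb A m) → _) := fun m =>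
    ⟨⟨m, (hne m).some⟩, rfl⟩
  constructor
  · intro h m
    have hcard : Nat.card (Σ m, Brnch.Emb A m) = Nat.card (MaximalSpectrum (CAlg2.normRed A)) := by
      rw [ENat.card_eq_coe_natCard, ENat.card_eq_coe_natCard] at h
      exact_mod_cast h
    have hinj := ((Nat.bijective_iff_surjective_and_card _).mpr ⟨hsurj, hcard⟩).1
    exact ⟨fun a b => eq_of_heq (Sigma.mk.inj_iff.mp (@hinj ⟨m, a⟩ ⟨m, b⟩ rfl)).2⟩
  · intro h
    refine ENat.card_congr (Equiv.ofBijective Sigma.fst ⟨fun x y hxy => ?_, hsurj⟩)
    obtain ⟨a, s⟩ := x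
    obtain ⟨b, t⟩ := y
    obtain rfl : a = b := hxy
    rw [Subsingleton.elim s t]

/-- The quotient form of the condition. -/
theorem residuesPurelyInseparable_iff (D : Type u) [CommRing D] [IsLocalRing D] :
    ResiduesPurelyInseparable D ↔
      ∀ (M : Ideal (integralClosure D (FractionRing D))) [M.IsMaximal],
        ∀ x : (integralClosure D (FractionRing D)) ⧸ M, ∃ n : ℕ,
          x ^ (ringExpChar ((integralClosure D (FractionRing D)) ⧸ M)) ^ n ∈
            ((Ideal.Quotient.mk M).comp
              (algebraMap D (integralClosure D (FractionRing D)))).range := by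
  have hchar : ∀ (M : Ideal (integralClosure D (FractionRing D))) [M.IsMaximal],
      ringExpChar ((integralClosure D (FractionRing D)) ⧸ M) = ringExpChar (ResidueField D) := by
    intro M hM
    letI := Ideal.Quotient.field M
    refine ringExpChar_eq ((Ideal.Quotient.mk M).comp
      (algebraMap D (integralClosure D (FractionRing D)))) fun a ha => ?_
    rw [← IsLocalRing.eq_maximalIdeal
      (Ideal.isMaximal_comap_of_isIntegral_of_isMaximal (R := D) M)] at ha
    exact Ideal.Quotient.eq_zero_iff_mem.mpr ha
  constructor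
  · intro h M hM x
    obtain ⟨b, rfl⟩ := Ideal.Quotient.mk_surjective x
    obtain ⟨n, a, ha⟩ := h M hM b
    refine ⟨n, a, ?_⟩
    rw [hchar M, ← map_pow]
    exact (Ideal.Quotient.eq.mpr ha).symm
  · intro h M hM b
    haveI := hM
    obtain ⟨n, a, ha⟩ := h M (Ideal.Quotient.mk M b)
    rw [hchar M, ← map_pow] at ha
    exact ⟨n, a, Ideal.Quotient.eq.mp ha.symm⟩

end GrothLib.EssEtLoc
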