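import Groth.Agent.Lib.EssEtLoc.Stage
import Groth.Agent.Lib.Hensel.FiniteEtaleLift
import Groth.Agent.Lib.Hensel.Noetherian
import Mathlib.FieldTheory.Galois.Basic
import Mathlib.FieldTheory.Normal.Closure
import Mathlib.RingTheory.Etale.Field

/-!
# Galois covers inside a strict henselization of a henselian local ring
-/

universe u

open IsLocalRing TensorProduct

noncomputable section

namespace GrothLib.EssEtLoc

variable {A : Type u} [CommRing A]

/-- Two maps from an unramified algebra into a local ring which agree at some point are equal. -/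
theorem eq_of_comp_eq {C T D : Type*} [CommRing C] [Algebra A C] [Algebra.FormallyUnramified A C]
    [Algebra.EssFiniteType A C] [CommRing T] [IsLocalRing T] [Algebra A T] [CommRing D]
    [Nontrivial D] (f g : C →ₐ[A] T) (ψ : T →+* D) (h : ∀ x, ψ (f x) = ψ (g x)) : f = g := by
  let e := Algebra.FormallyUnramified.elem A C
  let Φ : C ⊗[A] C →ₐ[A] T := Algebra.TensorProduct.lift f g fun _ _ => Commute.all _ _
  have hz : ∀ z : C ⊗[A] C, z * e = (Algebra.TensorProduct.lmul' A z ⊗ₜ[A] (1 : C)) * e := by
    intro z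
    induction z with
    | zero => simp
    | add x y hx hy => rw [map_add, add_tmul, add_mul, add_mul, hx, hy]
    | tmul x y =>
      rw [show x ⊗ₜ[A] y = (x ⊗ₜ[A] (1 : C)) * (1 ⊗ₜ[A] y) by simp, mul_assoc,
        Algebra.FormallyUnramified.one_tmul_mul_elem, ← mul_assoc]
      simp [e]
  have hid : Φ e * Φ e = Φ e := by
    rw [← map_mul, hz e, Algebra.FormallyUnramified.lmul_elem,
      ← Algebra.TensorProduct.one_def, one_mul]
  have hψ : ∀ z, ψ (Φ z) = ψ (f (Algebra.TensorProduct.lmul' A z)) := by
    intro z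
    induction z with
    | zero => simp
    | add x y hx hy => simp only [map_add, hx, hy]
    | tmul x y => simp [Φ, h]
  have hu : IsUnit (Φ e) := by
    rcases IsLocalRing.isUnit_or_isUnit_one_sub_self (Φ e) with hu | hu
    · exact hu
    · exfalso
      have h0 : Φ e = 0 := by
        have h1 : (1 - Φ e) * Φ e = 0 := by rw [sub_mul, one_mul, hid, sub_self]
        exact hu.mul_right_eq_zero.mp h1
      have h2 := hψ e
      rw [h0, Algebra.FormallyUnramified.lmul_elem, map_zero, map_one, map_one] at h2
      exact zero_ne_one h2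
  refine AlgHom.ext fun x => ?_
  have h3 := congrArg Φ (Algebra.FormallyUnramified.one_tmul_mul_elem (R := A) x)
  rw [map_mul, map_mul] at h3
  refine (hu.mul_left_inj.mp ?_).symm
  simpa [Φ] using h3

variable [IsLocalRing A]

/-- Residual maps out of an essentially étale local algebra lift to henselian local rings. -/
theorem exists_algHom_of_residue {E T : Type u} [CommRing E] [Algebra A E]
    (hE : EGA4loc.IsEssentiallyEtale A E) [CommRing T] [HenselianLocalRing T] [Algebra A T]
    (σ : E →ₐ[A] T ⧸ maximalIdeal T) :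
    ∃ τ : E →ₐ[A] T, ∀ x, Ideal.Quotient.mk _ (τ x) = σ x := by
  obtain ⟨N, _, _, q, _, _, -, ⟨e⟩⟩ := hE
  obtain ⟨χ, hχ⟩ := GrothLib.Hensel.exists_algHom_lift (R := A) (I := maximalIdeal T)
    ((σ.comp e.symm.toAlgHom).comp (IsScalarTower.toAlgHom A N (Localization.AtPrime q)))
  have hu : ∀ y : q.primeCompl, IsUnit (χ y) := fun y => by
    have h1 : IsUnit (Ideal.Quotient.mk (maximalIdeal T) (χ y)) := by
      rw [show Ideal.Quotient.mk (maximalIdeal T) (χ y) = _ from AlgHom.congr_fun hχ y]
      exact ((IsLocalization.map_units (Localization.AtPrime q) y).map e.symm).map σ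
    by_contra hn
    rw [Ideal.Quotient.eq_zero_iff_mem.mpr ((mem_maximalIdeal _).mpr hn)] at h1
    exact not_isUnit_zero h1
  refine ⟨(IsLocalization.liftAlgHom (f := χ) hu).comp e.toAlgHom, fun x => ?_⟩
  have h2 : (Ideal.Quotient.mkₐ A (maximalIdeal T)).comp (IsLocalization.liftAlgHom (f := χ) hu) =
      σ.comp e.symm.toAlgHom :=
    AlgHom.coe_ringHom_injective (IsLocalization.ringHom_ext q.primeCompl (RingHom.ext fun c =>
      (congrArg (Ideal.Quotient.mk (maximalIdeal T)) (IsLocalization.lift_eq _ c)).trans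
        (AlgHom.congr_fun hχ c)))
  exact (AlgHom.congr_fun h2 (e x)).trans (congrArg σ (e.symm_apply_apply x))

/-- A finite étale local algebra all of whose residual automorphisms lift, inside a strict
henselization, containing given elements. -/
theorem exists_galois_cover (A S : Type u) [CommRing A] [HenselianLocalRing A] [CommRing S]
    [IsLocalRing S] [Algebra A S] [IsLocalHom (algebraMap A S)]
    [hS : _root_.Hensel.IsStrictHenselization A S] (s : Finset S) :
    ∃ (C : Type u) (_ : CommRing C) (_ : IsLocalRing C) (_ : Algebra A C) (φ : C →ₐ[A] S),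
      Module.Finite A C ∧ Algebra.Etale A C ∧ Module.Free A C ∧ Function.Injective φ ∧
      IsLocalHom φ.toRingHom ∧ IsLocalHom (algebraMap A C) ∧
      (maximalIdeal A).map (algebraMap A C) = maximalIdeal C ∧ (s : Set S) ⊆ Set.range φ ∧
      ∃ (G : Type u) (_ : Fintype G) (σ : G → C →ₐ[A] C),
        Fintype.card G = Module.finrank A C ∧
          Function.Injective fun g => (residue C).comp (σ g).toRingHom := by
  haveI : HenselianLocalRing S := hS.henselian
  haveI : Module.Flat A S := GrothLib.Hensel.IsStrictHenselization.flat (R := A) (S := S)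
  haveI : IsSepClosure (ResidueField A) (ResidueField S) := hS.isSepClosure
  obtain ⟨E, _, hsE, hlocE, hE⟩ := exists_subalgebra (A := A) (S := S) s
  haveI := isLocalHom_algebraMap hE
  haveI := formallyEtale hE
  haveI := essFiniteType hE
  haveI : Algebra.FormallyUnramified A E := inferInstance
  haveI : Module.Finite (ResidueField A) (ResidueField E) := inferInstance
  let ρ : ResidueField E →ₐ[ResidueField A] ResidueField S :=
    { ResidueField.map (algebraMap E S) with
      commutes' := fun x => by
        obtain ⟨a, rfl⟩ := residue_surjective x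
        rfl }
  haveI : FiniteDimensional (ResidueField A) ρ.fieldRange :=
    ρ.toLinearMap.finiteDimensional_range
  let l : IntermediateField (ResidueField A) (ResidueField S) :=
    IntermediateField.normalClosure (ResidueField A) ρ.fieldRange (ResidueField S)
  haveI : IsGalois (ResidueField A) (ResidueField S) := inferInstance
  haveI : IsGalois (ResidueField A) l := IsGalois.normalClosure _ _ _
  haveI : FiniteDimensional (ResidueField A) l := inferInstance
  haveI : Algebra.FormallyEtale (ResidueField A) l := Algebra.FormallyEtale.of_isSeparable _ _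
  haveI : Algebra.FinitePresentation (ResidueField A) l :=
    Algebra.FinitePresentation.of_finiteType.mp inferInstance
  letI : Algebra (A ⧸ maximalIdeal A) l := (inferInstance : Algebra (ResidueField A) l)
  haveI : IsScalarTower A (A ⧸ maximalIdeal A) l := IsScalarTower.of_algebraMap_eq fun _ => rfl
  haveI : Algebra.Etale (A ⧸ maximalIdeal A) l := (⟨‹_›, ‹_›⟩ : Algebra.Etale (ResidueField A) l)
  haveI : Module.Finite (A ⧸ maximalIdeal A) l := ‹FiniteDimensional (ResidueField A) l›
  obtain ⟨B, _, _, hBfin, hBet, ⟨e⟩⟩ :=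
    GrothLib.Hensel.exists_finite_etale_lift (maximalIdeal A) (↥l)
  let g : B →ₐ[A] l := (e.toAlgHom.restrictScalars A).comp Algebra.TensorProduct.includeRight
  have hg : Function.Surjective g := fun x => by
    obtain ⟨b, hb⟩ := TensorProduct.mk_surjective A B (A ⧸ maximalIdeal A)
      Ideal.Quotient.mk_surjective (e.symm x)
    refine ⟨b, ?_⟩
    show e (1 ⊗ₜ b) = x
    rw [show (1 : A ⧸ maximalIdeal A) ⊗ₜ[A] b = e.symm x from hb, e.apply_symm_apply]
  have hker : RingHom.ker g = (maximalIdeal A).map (algebraMap A B) := by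
    ext b
    show e (1 ⊗ₜ b) = 0 ↔ _
    rw [map_eq_zero_iff e e.injective,
      ← (TensorProduct.quotTensorEquivQuotSMul B (maximalIdeal A)).map_eq_zero_iff,
      ← map_one (Ideal.Quotient.mk (maximalIdeal A)),
      TensorProduct.quotTensorEquivQuotSMul_mk_tmul, one_smul, Submodule.Quotient.mk_eq_zero,
      Ideal.smul_top_eq_map, Submodule.restrictScalars_mem]
  haveI : Nontrivial B := g.toRingHom.domain_nontrivial
  haveI hmax : (RingHom.ker g).IsMaximal := RingHom.ker_isMaximal_of_surjective g hg
  have hle : ∀ M : Ideal B, M.IsMaximal → M = RingHom.ker g := by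
    intro M hM
    refine (hmax.eq_of_le hM.ne_top ?_).symm
    rw [hker, Ideal.map_le_iff_le_comap,
      IsLocalRing.eq_maximalIdeal (Ideal.isMaximal_comap_of_isIntegral_of_isMaximal (R := A) M)]
  haveI : IsLocalRing B := IsLocalRing.of_unique_max_ideal ⟨RingHom.ker g, hmax, hle⟩
  have hmB : maximalIdeal B = RingHom.ker g := hle _ inferInstance
  haveI : IsLocalHom (algebraMap A B) :=
    ((local_hom_TFAE _).out 0 2 rfl rfl).mpr (hmB ▸ hker.ge)
  haveI hBH : HenselianLocalRing B := by
    have := GrothLib.Hensel.henselianRing_of_isIntegral (maximalIdeal A) B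
    rw [← hker, ← hmB] at this
    exact GrothLib.Hensel.henselianLocalRing_of_henselianRing this
  -- the map to `S`
  let ι : l →ₐ[A] S ⧸ maximalIdeal S := (l.val.restrictScalars A : l →ₐ[A] ResidueField S)
  obtain ⟨φ, hφ⟩ := GrothLib.Hensel.exists_algHom_lift (R := A) (I := maximalIdeal S) (ι.comp g)
  have hφ' : ∀ b, residue S (φ b) = (g b : ResidueField S) := AlgHom.congr_fun hφ
  haveI hφloc : IsLocalHom φ.toRingHom := by
    refine ((local_hom_TFAE _).out 0 2 rfl rfl).mpr ?_
    rw [hmB, hker, Ideal.map_map,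
      show φ.toRingHom.comp (algebraMap A B) = algebraMap A S from φ.comp_algebraMap]
    exact ((local_hom_TFAE _).out 0 2 rfl rfl).mp ‹_›
  -- the isomorphism with the residue field
  let γ : B →ₐ[A] B ⧸ maximalIdeal B := Ideal.Quotient.mkₐ A _
  let ε : (B ⧸ RingHom.ker g) ≃ₐ[A] l := Ideal.quotientKerAlgEquivOfSurjective hg
  let ε' : l →ₐ[A] B ⧸ maximalIdeal B :=
    (Ideal.quotientEquivAlgOfEq A hmB).symm.toAlgHom.comp ε.symm.toAlgHom
  have hε : ∀ b, ε' (g b) = γ b := fun b => by
    have h1 : ε (Ideal.Quotient.mk _ b) = g b := rfl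
    show (Ideal.quotientEquivAlgOfEq A hmB).symm (ε.symm (g b)) = _
    rw [← h1, ε.symm_apply_apply]
    rfl
  have hεinj : Function.Injective ε' :=
    (Ideal.quotientEquivAlgOfEq A hmB).symm.injective.comp ε.symm.injective
  -- `E` maps to `B`
  let r : E →ₐ[A] l :=
    ({ ((ResidueField.map (algebraMap E S)).comp (residue E)).codRestrict l.toSubfield.toSubring
          (fun x => ρ.fieldRange.le_normalClosure ⟨residue E x, rfl⟩) with
      commutes' := fun a => rfl } : E →ₐ[A] l)
  obtain ⟨τ, hτ⟩ := exists_algHom_of_residue hE (ε'.comp r)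
  have hτφ : φ.comp τ = E.val := algHom_ext_residue hE _ _ (RingHom.ext fun x => by
    show residue S (φ (τ x)) = residue S (x : S)
    rw [hφ']
    have h1 : ε' (g (τ x)) = ε' (r x) := (hε _).trans (hτ x)
    rw [hεinj h1]
    rfl)
  refine ⟨B, inferInstance, inferInstance, inferInstance, φ, hBfin, hBet,
    Module.free_of_flat_of_isLocalRing, injective_of_isLocalHom φ, hφloc, inferInstance,
    hker.symm.trans hmB.symm, fun x hx => ⟨τ ⟨x, hsE hx⟩, AlgHom.congr_fun hτφ _⟩,
    l ≃ₐ[ResidueField A] l, inferInstance, ?_⟩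
  have hlift : ∀ σ : l ≃ₐ[ResidueField A] l, ∃ τ : B →ₐ[A] B,
      ∀ b, Ideal.Quotient.mk _ (τ b) = ε' (σ (g b)) := fun σ => by
    obtain ⟨τ, hτ⟩ := GrothLib.Hensel.exists_algHom_lift (R := A) (I := maximalIdeal B)
      (ε'.comp ((σ.toAlgHom.restrictScalars A).comp g))
    exact ⟨τ, AlgHom.congr_fun hτ⟩
  choose σ' hσ' using hlift
  refine ⟨σ', ?_, fun a b hab => ?_⟩
  · haveI : Module.Free A B := Module.free_of_flat_of_isLocalRing
    rw [← Nat.card_eq_fintype_card, IsGalois.card_aut_eq_finrank]
    calc Module.finrank (ResidueField A) l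
        = Module.finrank (A ⧸ maximalIdeal A) ((A ⧸ maximalIdeal A) ⊗[A] B) :=
          (LinearEquiv.finrank_eq e.toLinearEquiv).symm
      _ = Module.finrank A B := Module.finrank_baseChange
  · refine AlgEquiv.ext fun y => ?_
    obtain ⟨c, rfl⟩ := hg y
    exact hεinj ((hσ' a c).symm.trans ((RingHom.congr_fun hab c).trans (hσ' b c)))

end GrothLib.EssEtLoc
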