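import Groth.Agent.Lib.EssEtLoc.Basic
import Mathlib.RingTheory.ZariskisMainTheorem
import Mathlib.RingTheory.Polynomial.IsIntegral
import Mathlib.RingTheory.Polynomial.ScaleRoots
import Mathlib.RingTheory.Artinian.Ring

/-!
# Descending denominators of integral elements
-/

universe u

open IsLocalRing Polynomial

noncomputable section

namespace GrothLib.EssEtLoc

/-- An essentially étale local algebra has integral denominators. -/
theorem exists_unit_isIntegral_mul {A E : Type u} [CommRing A] [IsLocalRing A] [CommRing E]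
    [Algebra A E] (hE : EGA4loc.IsEssentiallyEtale A E) (ε : E) :
    ∃ v : E, IsUnit v ∧ IsIntegral A v ∧ IsIntegral A (v * ε) := by
  obtain ⟨C, _, _, q, _, _, -, ⟨e⟩⟩ := hE
  haveI : Algebra.QuasiFiniteAt A q := inferInstance
  obtain ⟨r, hr, hri, hall⟩ := Algebra.zariskisMainProperty_iff.mp
    (Algebra.ZariskisMainProperty.of_finiteType (R := A) q)
  let ψ : C →ₐ[A] E := e.symm.toAlgHom.comp (IsScalarTower.toAlgHom A C _)
  have hu : ∀ c ∉ q, IsUnit (ψ c) := fun c hc =>
    (IsLocalization.map_units (Localization.AtPrime q) (⟨c, hc⟩ : q.primeCompl)).map e.symm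
  obtain ⟨⟨a, s⟩, h⟩ := IsLocalization.surj q.primeCompl (e ε)
  obtain ⟨m, hm⟩ := hall a
  obtain ⟨n, hn⟩ := hall (s : C)
  refine ⟨ψ (r ^ m * (r ^ n * s)), hu _ ?_, ((hri.pow m).mul hn).map ψ, ?_⟩
  · exact q.primeCompl.mul_mem (pow_mem hr m) (q.primeCompl.mul_mem (pow_mem hr n) s.2)
  · have hψ : ψ (r ^ m * (r ^ n * s)) * ε = ψ ((r ^ m * a) * r ^ n) := by
      have h' : ψ (s : C) * ε = ψ a := e.injective (by
        simp only [ψ, AlgHom.comp_apply, IsScalarTower.coe_toAlgHom', map_mul,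
          AlgEquiv.coe_toAlgHom, AlgEquiv.apply_symm_apply]
        rw [mul_comm]; exact h)
      simp only [map_mul, map_pow, ← h']
      ring
    rw [hψ]
    exact (hm.mul (hri.pow n)).map ψ

/-- An integral element over an essentially étale local algebra has an integral denominator. -/
theorem exists_unit_isIntegral_mul_of_isIntegral {A E Ω : Type u} [CommRing A] [IsLocalRing A]
    [CommRing E] [IsLocalRing E] [CommRing Ω] [Algebra A E] [Algebra A Ω] [Algebra E Ω] [IsScalarTower A E Ω]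
    (hE : EGA4loc.IsEssentiallyEtale A E) {x : Ω} (hx : IsIntegral E x) :
    ∃ v : E, IsUnit v ∧ IsIntegral A v ∧ IsIntegral A (algebraMap E Ω v * x) := by
  obtain ⟨p, hp, hpx⟩ := hx
  choose v hvu hvi hve using exists_unit_isIntegral_mul hE
  let V : E := ∏ i ∈ Finset.range p.natDegree, v (p.coeff i)
  have hVi : IsIntegral A V := IsIntegral.prod _ fun i _ => hvi _
  refine ⟨V, IsUnit.prod_iff.mpr fun i _ => hvu _, hVi, ?_⟩
  have hVc : ∀ i < p.natDegree, IsIntegral A (V * p.coeff i) := fun i hi => by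
    show IsIntegral A ((∏ j ∈ Finset.range p.natDegree, v (p.coeff j)) * p.coeff i)
    rw [← Finset.mul_prod_erase _ _ (Finset.mem_range.mpr hi), mul_right_comm]
    exact (hve _).mul (IsIntegral.prod _ fun j _ => hvi _)
  have hco : ∀ i, IsIntegral A ((scaleRoots p V).coeff i) := by
    intro i
    rw [coeff_scaleRoots]
    rcases lt_trichotomy i p.natDegree with hi | rfl | hi
    · rw [show p.natDegree - i = (p.natDegree - i - 1) + 1 by omega, pow_succ, mul_comm (p.coeff i),
        mul_assoc]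
      exact (hVi.pow _).mul (hVc i hi)
    · rw [hp.coeff_natDegree, Nat.sub_self, pow_zero, one_mul]; exact isIntegral_one
    · rw [coeff_eq_zero_of_natDegree_lt hi, zero_mul]; exact isIntegral_zero
  -- transitivity through the integral closure
  let B := integralClosure A E
  have hmem : scaleRoots p V ∈ lifts (algebraMap B E) :=
    (lifts_iff_coeff_lifts _).mpr fun i => ⟨⟨_, hco i⟩, rfl⟩
  obtain ⟨p₁, hp₁, -, hp₁m⟩ := lifts_and_degree_eq_and_monic hmem
    ((monic_scaleRoots_iff V).mpr hp)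
  refine isIntegral_trans (A := B) _ ⟨p₁, hp₁m, ?_⟩
  have h := scaleRoots_aeval_eq_zero (r := V) (show aeval x p = 0 from hpx)
  rw [← hp₁, aeval_map_algebraMap] at h
  exact h

/-- In an Artinian reduced ring every maximal ideal is cut out by an idempotent. -/
theorem exists_idempotent_notMem_mul_eq_zero {R : Type u} [CommRing R] [IsArtinianRing R]
    [IsReduced R] (m : Ideal R) [m.IsMaximal] :
    ∃ e, IsIdempotentElem e ∧ e ∉ m ∧ ∀ z ∈ m, e * z = 0 := by
  classical
  haveI : Fintype (MaximalSpectrum R) := Fintype.ofFinite _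
  let m₀ : MaximalSpectrum R := ⟨m, inferInstance⟩
  let J : Ideal R := (Finset.univ.erase m₀).inf fun i : MaximalSpectrum R => i.asIdeal
  have hcop : m ⊔ J = ⊤ := Ideal.sup_iInf_eq_top (s := Finset.univ.erase m₀)
    (J := fun i : MaximalSpectrum R => i.asIdeal) (fun i hi =>
      Ideal.IsMaximal.coprime_of_ne inferInstance i.isMaximal
        fun h => (Finset.ne_of_mem_erase hi) (MaximalSpectrum.ext h.symm)) |> fun h => by
    rwa [← Finset.inf_eq_iInf] at h
  obtain ⟨a, ha, e, he, hae⟩ := Submodule.mem_sup.mp ((Ideal.eq_top_iff_one _).mp hcop)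
  have hmul : ∀ z ∈ m, e * z = 0 := fun z hz => by
    have h : e * z ∈ nilradical R := by
      rw [nilradical_eq_sInf, Ideal.mem_sInf]
      intro P hP
      haveI : P.IsPrime := hP
      haveI : P.IsMaximal := IsArtinianRing.isMaximal_of_isPrime P
      by_cases h : (⟨P, inferInstance⟩ : MaximalSpectrum R) = m₀
      · exact Ideal.mul_mem_left _ _ ((congrArg MaximalSpectrum.asIdeal h).symm.le hz)
      · exact Ideal.mul_mem_right _ _ ((Finset.inf_le (f := fun i : MaximalSpectrum R => i.asIdeal)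
          (Finset.mem_erase.mpr ⟨h, Finset.mem_univ _⟩)) he)
    exact IsNilpotent.eq_zero h
  refine ⟨e, ?_, fun hem => (Ideal.IsPrime.ne_top inferInstance) ((Ideal.eq_top_iff_one m).mpr
    (hae ▸ m.add_mem ha hem)), hmul⟩
  show e * e = e
  calc e * e = e * (1 - a) := by rw [← hae, add_sub_cancel_left]
    _ = e := by rw [mul_sub, mul_one, hmul a ha, sub_zero]

/-- A denominator descends to a subring of the fractions. -/
theorem exists_notMem_isIntegral_mul {A Ω : Type u} [CommRing A] [CommRing Ω] [Algebra A Ω]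
    (L : Subalgebra A Ω) [IsArtinianRing L] [IsReduced L] (Q : Ideal Ω) [Q.IsMaximal]
    (P : Ideal (integralClosure A Ω)) [P.IsPrime]
    (hQP : Q.comap (integralClosure A Ω).val ≤ P) (x : L) (v : integralClosure A Ω) (hv : v ∉ P)
    (hvx : IsIntegral A ((v : Ω) * x)) :
    ∃ u : L, ∃ hu : IsIntegral A (u : Ω), (⟨u, hu⟩ : integralClosure A Ω) ∉ P ∧
      IsIntegral A ((u : Ω) * x) := by
  classical
  let 𝔭 : Ideal L := Q.comap L.val
  haveI : 𝔭.IsPrime := Ideal.IsPrime.comap L.val
  haveI : 𝔭.IsMaximal := IsArtinianRing.isMaximal_of_isPrime 𝔭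
  obtain ⟨e, he, hem, hez⟩ := exists_idempotent_notMem_mul_eq_zero 𝔭
  have hei : IsIntegral A (e : Ω) := ⟨X ^ 2 - X, monic_X_pow_sub (degree_X_le.trans_lt (by norm_num)), by
    rw [eval₂_sub, eval₂_pow, eval₂_X, sub_eq_zero, sq]
    exact congrArg Subtype.val he⟩
  have he1 : e - 1 ∈ 𝔭 := by
    refine (Ideal.IsPrime.mem_or_mem (I := 𝔭) inferInstance (x := e) (y := e - 1) ?_).resolve_left hem
    rw [mul_sub, mul_one, he, sub_self]; exact zero_mem _
  have heP : (⟨e, hei⟩ : integralClosure A Ω) ∉ P := fun h => by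
    have h1 : (⟨e, hei⟩ - 1 : integralClosure A Ω) ∈ P := hQP he1
    exact (inferInstance : P.IsPrime).ne_top ((Ideal.eq_top_iff_one _).mpr
      (by simpa using P.sub_mem h h1))
  by_cases hx : x ∈ 𝔭
  · exact ⟨e, hei, heP, by
      rw [show (e : Ω) * (x : Ω) = 0 from congrArg Subtype.val (hez x hx)]; exact isIntegral_zero⟩
  letI : Field (L ⧸ 𝔭) := Ideal.Quotient.field 𝔭
  letI : Field (Ω ⧸ Q) := Ideal.Quotient.field Q
  letI : Algebra (L ⧸ 𝔭) (Ω ⧸ Q) := (Ideal.quotientMap Q L.val.toRingHom le_rfl).toAlgebra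
  haveI : IsScalarTower A (L ⧸ 𝔭) (Ω ⧸ Q) := IsScalarTower.of_algebraMap_eq fun a => rfl
  have hmk : ∀ l : L, algebraMap (L ⧸ 𝔭) (Ω ⧸ Q) (Ideal.Quotient.mk 𝔭 l) =
      Ideal.Quotient.mk Q (l : Ω) := fun l => rfl
  let xb : L ⧸ 𝔭 := Ideal.Quotient.mk 𝔭 x
  have hxb : xb ≠ 0 := fun h => hx (Ideal.Quotient.eq_zero_iff_mem.mp h)
  let vb : Ω ⧸ Q := Ideal.Quotient.mk Q (v : Ω)
  let wb : Ω ⧸ Q := algebraMap (L ⧸ 𝔭) (Ω ⧸ Q) xb * vb
  have hvbi : IsIntegral A vb := v.2.map (Ideal.Quotient.mkₐ A Q)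
  have hwbi : IsIntegral A wb := by
    show IsIntegral A (Ideal.Quotient.mk Q (x : Ω) * Ideal.Quotient.mk Q (v : Ω))
    rw [← map_mul, mul_comm]
    exact hvx.map (Ideal.Quotient.mkₐ A Q)
  let p := minpoly (L ⧸ 𝔭) vb
  let p' := minpoly (L ⧸ 𝔭) wb
  have hp : p.Monic := minpoly.monic hvbi.tower_top
  have hp' : p'.Monic := minpoly.monic hwbi.tower_top
  have heq : p' = scaleRoots p xb := by
    have h1 : p' ∣ scaleRoots p xb := minpoly.dvd _ _ (scaleRoots_aeval_eq_zero (minpoly.aeval _ _))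
    have h2 : p ∣ scaleRoots p' xb⁻¹ := minpoly.dvd _ _ (by
      have h := scaleRoots_aeval_eq_zero (r := xb⁻¹) (minpoly.aeval (L ⧸ 𝔭) wb)
      rwa [show algebraMap (L ⧸ 𝔭) (Ω ⧸ Q) xb⁻¹ * wb = vb by
        show _ * (_ * vb) = vb
        rw [← mul_assoc, ← map_mul, inv_mul_cancel₀ hxb, map_one, one_mul]] at h)
    refine (eq_of_monic_of_dvd_of_natDegree_le hp' ((monic_scaleRoots_iff _).mpr hp) h1 ?_).symm
    rw [natDegree_scaleRoots]
    exact (natDegree_le_of_dvd h2 (scaleRoots_ne_zero hp'.ne_zero _)).trans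
      (natDegree_scaleRoots _ _).le
  have hint : ∀ (z : Ω ⧸ Q), IsIntegral A z → ∀ i, IsIntegral A ((minpoly (L ⧸ 𝔭) z).coeff i) := by
    intro z hz i
    obtain ⟨q, hq, hqz⟩ := hz
    refine isIntegral_coeff_of_dvd q _ hq (minpoly.monic ?_) (minpoly.dvd _ _ ?_) i
    · exact IsIntegral.tower_top (R := A) ⟨q, hq, hqz⟩
    · rw [aeval_map_algebraMap]; exact hqz
  -- lifting integral elements
  have hlift : ∀ c : L, IsIntegral A (Ideal.Quotient.mk 𝔭 c) → IsIntegral A ((e : Ω) * c) := by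
    intro c hc
    obtain ⟨q, hq, hqc⟩ := hc
    have hpol : ∀ r : A[X], e * aeval (e * c) r = e * aeval c r := fun r => by
      induction r using Polynomial.induction_on with
      | C a => simp
      | add r s hr hs => simp only [map_add, mul_add, hr, hs]
      | monomial n a _ =>
        simp only [map_mul, aeval_C, map_pow, aeval_X, mul_pow, he.pow_succ_eq]
        rw [show e * (algebraMap A L a * (e * c ^ (n + 1))) =
          (e * e) * (algebraMap A L a * c ^ (n + 1)) by ring, he.eq]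
    have h0 : e * aeval c q = 0 := hez _ (Ideal.Quotient.eq_zero_iff_mem.mp (by
      rw [← Ideal.Quotient.mkₐ_eq_mk A, ← aeval_algHom_apply]; exact hqc))
    have : IsIntegral A (e * c) := ⟨X * q, monic_X.mul hq, by
      show aeval (e * c) (X * q) = 0
      rw [map_mul, aeval_X, mul_right_comm, hpol, h0, zero_mul]⟩
    exact this.map L.val
  choose c hc using fun i => Ideal.Quotient.mk_surjective (p.coeff i)
  have hci : ∀ i, IsIntegral A ((e : Ω) * c i) := fun i => hlift _ (by rw [hc]; exact hint vb hvbi i)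
  obtain ⟨i, hi, hiP⟩ : ∃ i, i < p.natDegree ∧
      (⟨(e : Ω) * c i, hci i⟩ : integralClosure A Ω) ∉ P := by
    by_contra hall
    simp only [not_exists, not_and, not_not] at hall
    let S : integralClosure A Ω :=
      ∑ i ∈ Finset.range p.natDegree, ⟨(e : Ω) * c i, hci i⟩ * v ^ i
    have hS : S ∈ P := Ideal.sum_mem _ fun i hi =>
      Ideal.mul_mem_right _ _ (hall i (Finset.mem_range.mp hi))
    have hrel : v ^ p.natDegree + S ∈ P := hQP (by
      show ((v ^ p.natDegree + S : integralClosure A Ω) : Ω) ∈ Q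
      rw [← Ideal.Quotient.eq_zero_iff_mem, ← (show aeval vb p = 0 from minpoly.aeval _ _)]
      conv_rhs => rw [aeval_eq_sum_range, Finset.sum_range_succ, hp.coeff_natDegree, one_smul]
      push_cast [S]
      rw [map_add, map_pow, map_sum, add_comm]
      refine congrArg (· + vb ^ p.natDegree) (Finset.sum_congr rfl fun i _ => ?_)
      rw [map_mul, map_mul, map_pow, Algebra.smul_def, ← hc i, hmk,
        (Ideal.Quotient.eq.mpr he1 : Ideal.Quotient.mk Q (e : Ω) = Ideal.Quotient.mk Q ((1 : L) : Ω))]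
      simp [vb])
    exact hv ((inferInstance : P.IsPrime).mem_of_pow_mem _ (by simpa using P.sub_mem hrel hS))
  refine ⟨e * c i, hci i, hiP, ?_⟩
  have hu : IsIntegral A (((e * c i) * x ^ (p.natDegree - i) : L) : Ω) := by
    rw [mul_assoc, Subalgebra.coe_mul]
    refine hlift _ ?_
    rw [map_mul, map_pow, hc, ← coeff_scaleRoots, ← heq]
    exact hint wb hwbi i
  have hpos : 0 < p.natDegree - i := Nat.sub_pos_of_lt hi
  refine IsIntegral.of_pow hpos ?_
  rw [mul_pow, show ((e * c i : L) : Ω) ^ (p.natDegree - i) =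
    ((e * c i : L) : Ω) ^ (p.natDegree - i - 1) * ((e * c i : L) : Ω) by
      rw [← pow_succ]; congr 1; omega, mul_assoc]
  refine ((hci i).pow _).mul ?_
  simpa using hu

end GrothLib.EssEtLoc
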