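import Groth.Agent.Lib.EssEtLoc.NormBaseChange
import Mathlib.RingTheory.Unramified.Basic
import Mathlib.RingTheory.FiniteType
import Mathlib.RingTheory.Finiteness.Subalgebra

/-!
# The normalization of an essentially étale algebra as a tensor product
-/

universe u

open IsLocalRing TensorProduct

noncomputable section

namespace GrothLib.EssEtLoc

variable (A : Type u) [CommRing A] {E : Type u} [CommRing E] [Algebra A E]

/-- The elements of the total fraction ring with a numerator in a subalgebra. -/
def fracSub (D : Subalgebra A E) : Subalgebra A (FractionRing E) where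
  carrier := {x | ∃ a ∈ nonZeroDivisors A, ∃ d ∈ D,
    algebraMap A (FractionRing E) a * x = algebraMap E (FractionRing E) d}
  mul_mem' := by
    rintro x y ⟨a, ha, d, hd, hx⟩ ⟨b, hb, d', hd', hy⟩
    exact ⟨a * b, mul_mem ha hb, d * d', mul_mem hd hd', by
      rw [map_mul, map_mul, ← hx, ← hy]; ring⟩
  add_mem' := by
    rintro x y ⟨a, ha, d, hd, hx⟩ ⟨b, hb, d', hd', hy⟩
    refine ⟨a * b, mul_mem ha hb, algebraMap A E b * d + algebraMap A E a * d',
      add_mem (mul_mem (D.algebraMap_mem b) hd) (mul_mem (D.algebraMap_mem a) hd'), ?_⟩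
    rw [map_mul, map_add, map_mul, map_mul, ← hx, ← hy, ← IsScalarTower.algebraMap_apply,
      ← IsScalarTower.algebraMap_apply]
    ring
  algebraMap_mem' c := ⟨1, one_mem _, algebraMap A E c, D.algebraMap_mem c, by
    rw [map_one, one_mul, ← IsScalarTower.algebraMap_apply]⟩

variable (E) in
/-- The normalization of the base inside the total fraction ring of an algebra. -/
def normBase : Subalgebra A (FractionRing E) :=
  integralClosure A (FractionRing E) ⊓ fracSub A (⊥ : Subalgebra A E)

variable {A}

theorem mem_normBase_iff {x : FractionRing E} : x ∈ normBase A E ↔ IsIntegral A x ∧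
    ∃ a ∈ nonZeroDivisors A, ∃ b : A,
      algebraMap A (FractionRing E) a * x = algebraMap A (FractionRing E) b := by
  constructor
  · rintro ⟨h, a, ha, d, hd, hx⟩
    obtain ⟨b, rfl⟩ := Algebra.mem_bot.mp hd
    exact ⟨h, a, ha, b, by rw [hx, ← IsScalarTower.algebraMap_apply]⟩
  · rintro ⟨h, a, ha, b, hx⟩
    exact ⟨h, a, ha, _, Subalgebra.algebraMap_mem _ b, by rw [hx, ← IsScalarTower.algebraMap_apply]⟩

variable [IsLocalRing A] [IsReduced A]

theorem isUnit_algebraMap_fractionRing (hE : EGA4loc.IsEssentiallyEtale A E) {a : A}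
    (ha : a ∈ nonZeroDivisors A) : IsUnit (algebraMap A (FractionRing E) a) := by
  rw [IsScalarTower.algebraMap_apply A E (FractionRing E)]
  exact IsLocalization.map_units (FractionRing E)
    (⟨_, map_nonZeroDivisors_le hE ⟨a, ha, rfl⟩⟩ : nonZeroDivisors E)

/-- The multiplication map onto the normalization. -/
def normMul : normBase A E ⊗[A] E →ₐ[A] integralClosure E (FractionRing E) :=
  Algebra.TensorProduct.lift
    ({ toFun := fun x => ⟨x.1, (mem_normBase_iff.mp x.2).1.tower_top⟩
       map_one' := rfl
       map_mul' := fun _ _ => rfl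
       map_zero' := rfl
       map_add' := fun _ _ => rfl
       commutes' := fun a => Subtype.ext rfl } :
      normBase A E →ₐ[A] integralClosure E (FractionRing E))
    (IsScalarTower.toAlgHom A E _) fun _ _ => Commute.all _ _

theorem coe_normMul (x : normBase A E) (e : E) :
    (normMul (x ⊗ₜ[A] e) : FractionRing E) = x * algebraMap E (FractionRing E) e :=
  congrArg Subtype.val (Algebra.TensorProduct.lift_tmul _ _ _ _ _)

theorem normMul_bijective (hmin : (minimalPrimes A).Finite) (hE : EGA4loc.IsEssentiallyEtale A E) :
    Function.Bijective (normMul (A := A) (E := E)) := by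
  constructor
  · rw [injective_iff_map_eq_zero]
    intro z hz
    haveI := flat hE
    -- a common denominator
    have hrep : ∀ z : normBase A E ⊗[A] E, ∃ a ∈ nonZeroDivisors A, ∃ e : E,
        a • z = (1 : normBase A E) ⊗ₜ[A] e := by
      intro z
      induction z using TensorProduct.induction_on with
      | zero => exact ⟨1, one_mem _, 0, by simp⟩
      | tmul x e =>
        obtain ⟨-, a, ha, b, hab⟩ := mem_normBase_iff.mp x.2
        refine ⟨a, ha, b • e, ?_⟩
        rw [TensorProduct.smul_tmul', ← TensorProduct.smul_tmul]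
        congr 1
        refine Subtype.ext ?_
        show a • (x : FractionRing E) = b • (1 : FractionRing E)
        rw [Algebra.smul_def, hab, Algebra.smul_def, mul_one]
      | add z z' h h' =>
        obtain ⟨a, ha, e, he⟩ := h
        obtain ⟨a', ha', e', he'⟩ := h'
        refine ⟨a * a', mul_mem ha ha', a' • e + a • e', ?_⟩
        rw [TensorProduct.tmul_add, TensorProduct.tmul_smul, TensorProduct.tmul_smul, ← he, ← he',
          smul_add, smul_smul, smul_smul, mul_comm a' a]
    obtain ⟨a, ha, e, he⟩ := hrep z
    have h0 : algebraMap E (FractionRing E) e = 0 := by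
      have := congrArg normMul he
      rw [map_smul, hz, smul_zero] at this
      have h1 := congrArg Subtype.val this
      rw [coe_normMul, Subalgebra.coe_one, one_mul] at h1
      exact h1.symm
    have he0 : e = 0 := IsFractionRing.injective E (FractionRing E) (by rw [h0, map_zero])
    rw [he0, TensorProduct.tmul_zero] at he
    have hinj : Function.Injective (DistribSMul.toLinearMap A (normBase A E) a) := fun x y h => by
      have h' : a • (x : FractionRing E) = a • (y : FractionRing E) := congrArg Subtype.val h
      rw [Algebra.smul_def, Algebra.smul_def] at h'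
      exact Subtype.ext ((isUnit_algebraMap_fractionRing hE ha).mul_left_cancel h')
    refine Module.Flat.rTensor_preserves_injective_linearMap (M := E) _ hinj ?_
    rw [map_zero, ← he]
    clear hz he
    induction z using TensorProduct.induction_on with
    | zero => simp
    | tmul x e => rw [LinearMap.rTensor_tmul, DistribSMul.toLinearMap_apply, TensorProduct.smul_tmul']
    | add z z' h h' => rw [map_add, h, h', smul_add]
  · rintro ⟨x, hx⟩
    have hmem := mem_adjoin_of_isIntegral hmin hE x hx
    suffices h : ∃ z, (normMul (A := A) (E := E) z : FractionRing E) = x by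
      obtain ⟨z, hz⟩ := h
      exact ⟨z, Subtype.ext hz⟩
    refine Algebra.adjoin_induction (p := fun y _ => ∃ z, (normMul (A := A) (E := E) z : FractionRing E) = y)
      (fun y hy => ?_) (fun e => ?_) (fun y y' _ _ h h' => ?_) (fun y y' _ _ h h' => ?_) hmem
    · exact ⟨(⟨y, mem_normBase_iff.mpr hy⟩ : normBase A E) ⊗ₜ 1, by rw [coe_normMul, map_one, mul_one]⟩
    · exact ⟨1 ⊗ₜ e, by rw [coe_normMul, Subalgebra.coe_one, one_mul]⟩
    · obtain ⟨z, rfl⟩ := h
      obtain ⟨z', rfl⟩ := h'
      exact ⟨z + z', by rw [map_add, Subalgebra.coe_add]⟩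
    · obtain ⟨z, rfl⟩ := h
      obtain ⟨z', rfl⟩ := h'
      exact ⟨z * z', by rw [map_mul, Subalgebra.coe_mul]⟩

theorem finite_integralClosure_of_normBase (hmin : (minimalPrimes A).Finite)
    (hE : EGA4loc.IsEssentiallyEtale A E) [Module.Finite A (normBase A E)] :
    Module.Finite E (integralClosure E (FractionRing E)) := by
  obtain ⟨G, hG⟩ : (⊤ : Submodule A (normBase A E)).FG := Module.Finite.fg_top
  classical
  let f : normBase A E → integralClosure E (FractionRing E) := fun x => normMul (x ⊗ₜ 1)
  refine ⟨⟨G.image f, eq_top_iff.mpr fun y _ => ?_⟩⟩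
  obtain ⟨z, rfl⟩ := (normMul_bijective hmin hE).2 y
  induction z using TensorProduct.induction_on with
  | zero => rw [map_zero]; exact zero_mem _
  | tmul x e =>
    rw [show x ⊗ₜ[A] e = (x ⊗ₜ 1) * (1 ⊗ₜ e) by
      rw [Algebra.TensorProduct.tmul_mul_tmul, mul_one, one_mul], map_mul,
      show normMul ((1 : normBase A E) ⊗ₜ[A] e) = algebraMap E _ e from
        Subtype.ext (by rw [coe_normMul, Subalgebra.coe_one, one_mul]; rfl), mul_comm, ← Algebra.smul_def]
    refine Submodule.smul_mem _ e ?_
    have hx : x ∈ Submodule.span A (G : Set (normBase A E)) := hG ▸ Submodule.mem_top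
    refine Submodule.span_induction (fun g hg => ?_) ?_ (fun a b _ _ h h' => ?_) (fun c a _ h => ?_) hx
    · exact Submodule.subset_span (Finset.mem_image_of_mem f hg)
    · rw [TensorProduct.zero_tmul, map_zero]; exact zero_mem _
    · rw [TensorProduct.add_tmul, map_add]; exact add_mem h h'
    · rw [← TensorProduct.smul_tmul', map_smul]; exact Submodule.smul_of_tower_mem _ c h
  | add z z' h h' => rw [map_add]; exact add_mem (h trivial) (h' trivial)

end GrothLib.EssEtLoc
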