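import Groth.Agent.Lib.EssEtLoc.StrictDominated

/-!
# Normalization after adjoining a finite étale algebra to an intermediate ring
-/

universe u

open IsLocalRing TensorProduct Polynomial

noncomputable section

namespace GrothLib.EssEtLoc

/-- In a ring with idempotents, integrality descends along killing a component. -/
theorem isIntegral_idempotent_mul {E L : Type u} [CommRing E] [CommRing L] [Algebra E L] {ε y : L}
    (hε : ε * ε = ε) (q : E[X]) (hq : q.Monic) (h : ε * aeval y q = 0) : IsIntegral E (ε * y) := by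
  refine ⟨X * q, monic_X.mul hq, ?_⟩
  rw [← aeval_def, map_mul, aeval_X]
  have h1 : Ideal.Quotient.mk (Ideal.span {1 - ε}) (ε * y) = Ideal.Quotient.mk (Ideal.span {1 - ε}) y := by
    rw [Ideal.Quotient.eq, Ideal.mem_span_singleton]
    exact ⟨-y, by ring⟩
  have h2 : aeval (ε * y) q - aeval y q ∈ Ideal.span {1 - ε} := by
    rw [← Ideal.Quotient.eq]
    have e1 := Polynomial.aeval_algHom_apply (Ideal.Quotient.mkₐ E (Ideal.span {1 - ε})) (ε * y) q
    have e2 := Polynomial.aeval_algHom_apply (Ideal.Quotient.mkₐ E (Ideal.span {1 - ε})) y q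
    rw [Ideal.Quotient.mkₐ_eq_mk] at e1 e2
    rw [← e1, ← e2, h1]
  obtain ⟨c, hc⟩ := Ideal.mem_span_singleton.mp h2
  calc ε * y * aeval (ε * y) q = y * (ε * aeval y q + ε * (1 - ε) * c) := by
        rw [eq_add_of_sub_eq hc]; ring
    _ = 0 := by rw [h, mul_sub, hε, mul_one, sub_self, zero_mul, add_zero, mul_zero]

/-- Integral elements over the image of an essentially étale algebra, with numerator there, are
generated by the image and the normalization of the base. -/
theorem mem_closure_of_isIntegral_image {D E K : Type u} [CommRing D] [IsLocalRing D] [IsReduced D]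
    (hmin : (minimalPrimes D).Finite) [CommRing E] [Algebra D E] (hE : EGA4loc.IsEssentiallyEtale D E)
    [CommRing K] [Algebra D K] (g : E →ₐ[D] K)
    (hu : ∀ d ∈ nonZeroDivisors D, IsUnit (algebraMap D K d)) (x : K) (Q : E[X]) (hQm : Q.Monic)
    (hQx : Q.eval₂ g.toRingHom x = 0) {d : D} (hd : d ∈ nonZeroDivisors D) (e : E)
    (hde : algebraMap D K d * x = g e) :
    x ∈ Subring.closure ({z : K | IsIntegral D z ∧ ∃ d ∈ nonZeroDivisors D, ∃ b : D,
      algebraMap D K d * z = algebraMap D K b} ∪ Set.range g) := by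
  haveI := isReduced_of_isEssentiallyEtale hE
  obtain ⟨hloc, _, _, _⟩ := fractionRing_structure hmin hE
  haveI := isArtinianRing_fractionRing D hmin
  haveI : IsArtinianRing (FractionRing E) := IsArtinianRing.of_finite (FractionRing D) (FractionRing E)
  haveI : IsReduced (FractionRing E) := inferInstanceAs (IsReduced (Localization (nonZeroDivisors E)))
  have habs : GrothLib.Hensel.AbsFlat (FractionRing E) :=
    GrothLib.Hensel.absFlat_of_isReduced _ fun p hp => IsArtinianRing.isMaximal_of_isPrime p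
  have hu' : ∀ y : (nonZeroDivisors D).map (algebraMap D E), IsUnit (g y) := by
    rintro ⟨_, d, hd, rfl⟩
    rw [g.commutes]
    exact hu d hd
  obtain ⟨ρ, hρ⟩ : ∃ ρ : FractionRing E →ₐ[D] K, ∀ e, ρ (algebraMap E (FractionRing E) e) = g e :=
    ⟨IsLocalization.liftAlgHom (f := g) hu', fun e => IsLocalization.lift_eq _ e⟩
  obtain ⟨v, hv⟩ := (isUnit_algebraMap_fractionRing (A := D) (E := E) hE hd).exists_right_inv
  obtain ⟨y₀, hy₀⟩ : ∃ y, ρ y = x := by
    refine ⟨algebraMap E (FractionRing E) e * v, ?_⟩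
    have h1 : algebraMap D K d * ρ v = 1 := by rw [← ρ.commutes, ← map_mul, hv, map_one]
    rw [map_mul, hρ, ← hde, mul_right_comm, h1, one_mul]
  have hρ0 : ρ (aeval y₀ Q) = 0 := by
    show ρ.toRingHom _ = 0
    rw [aeval_def, hom_eval₂, show ρ.toRingHom.comp (algebraMap E (FractionRing E)) = g.toRingHom from
      RingHom.ext hρ]
    rw [← hy₀] at hQx
    exact hQx
  obtain ⟨r', hr'⟩ := habs (aeval y₀ Q)
  let ε : FractionRing E := 1 - aeval y₀ Q * r'
  have hε : ε * ε = ε := by
    calc ε * ε = ε - (aeval y₀ Q * r' - aeval y₀ Q * aeval y₀ Q * r' * r') := by ring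
      _ = ε := by rw [hr', sub_self, sub_zero]
  have hεQ : ε * aeval y₀ Q = 0 := by
    calc ε * aeval y₀ Q = aeval y₀ Q - aeval y₀ Q * aeval y₀ Q * r' := by ring
      _ = 0 := by rw [hr', sub_self]
  have hy : ρ (ε * y₀) = x := by
    rw [map_mul, map_sub, map_one, map_mul, hρ0, zero_mul, sub_zero, one_mul, hy₀]
  rw [← hy]
  refine Algebra.adjoin_induction (p := fun z _ => ρ z ∈ Subring.closure _) (fun z hz => ?_)
    (fun e => ?_) (fun z z' _ _ h h' => ?_) (fun z z' _ _ h h' => ?_)
    (mem_adjoin_of_isIntegral hmin hE _ (isIntegral_idempotent_mul hε Q hQm hεQ))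
  · obtain ⟨hzi, d, hd, b, hdb⟩ := hz
    exact Subring.subset_closure (Or.inl ⟨hzi.map ρ, d, hd, b, by
      rw [← ρ.commutes, ← ρ.commutes, ← map_mul, hdb]⟩)
  · rw [hρ]
    exact Subring.subset_closure (Or.inr ⟨e, rfl⟩)
  · rw [map_add]; exact add_mem h h'
  · rw [map_mul]; exact mul_mem h h'

variable {A S : Type u} [CommRing A] [IsLocalRing A] [IsReduced A] [IsNoetherianRing A] [CommRing S]
  [IsLocalRing S] [Algebra A S] [IsLocalHom (algebraMap A S)]
  [hS : _root_.Hensel.IsStrictHenselization A S]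
  (D : Subalgebra A S) [IsLocalRing D] [IsLocalHom (algebraMap D S)]
  {D' : Subalgebra A (FractionRing S)}
  (hD' : ∀ x : (FractionRing S), x ∈ D' ↔ (IsIntegral D x ∧
    ∃ a ∈ nonZeroDivisors A, ∃ d ∈ D, algebraMap A (FractionRing S) a * x = algebraMap S (FractionRing S) d))

set_option maxHeartbeats 800000 in
-- localizations of tensor products with subalgebras
include hD' in
/-- Integral elements over the subring extended by an étale piece, with numerator there, are generated
by the normalization and the piece. -/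
theorem mem_adjoin_sup (W₀ : Subalgebra A S) [Algebra.Etale A W₀]
    [hP : IsLocalHom (algebraMap (D ⊔ W₀ : Subalgebra A S) S)]
    (x : FractionRing S) (p : S[X]) (hp : p.Monic) (hcoeff : ∀ i, p.coeff i ∈ D ⊔ W₀)
    (hpx : p.eval₂ (algebraMap S (FractionRing S)) x = 0)
    {a : A} (ha : a ∈ nonZeroDivisors A) (w : S) (hw : w ∈ D ⊔ W₀)
    (haw : algebraMap A (FractionRing S) a * x = algebraMap S (FractionRing S) w) :
    x ∈ Algebra.adjoin A ((D' : Set (FractionRing S)) ∪
      (algebraMap S (FractionRing S) '' ((D ⊔ W₀ : Subalgebra A S) : Set S))) := by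
  classical
  obtain ⟨hred, hmin⟩ := isReduced_subalgebra_strict (A := A) D
  haveI := hred
  let f : (D ⊗[A] W₀) →ₐ[D] S :=
    Algebra.TensorProduct.lift (IsScalarTower.toAlgHom D D S) W₀.val fun _ _ => Commute.all _ _
  have hfA : f.restrictScalars A = Algebra.TensorProduct.productMap D.val W₀.val :=
    Algebra.TensorProduct.ext' fun d c => rfl
  have hf : Set.range f = ((D ⊔ W₀ : Subalgebra A S) : Set S) := by
    rw [show (Set.range f) = ((f.restrictScalars A).range : Set S) from rfl, hfA,
      Algebra.TensorProduct.productMap_range, Subalgebra.range_val, Subalgebra.range_val]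
  let q : Ideal (D ⊗[A] W₀) := (maximalIdeal S).comap f.toRingHom
  let E := Localization.AtPrime q
  have hqD : q.comap (algebraMap D (D ⊗[A] W₀)) = maximalIdeal D := by
    rw [Ideal.comap_comap, show f.toRingHom.comp (algebraMap D (D ⊗[A] W₀)) = algebraMap D S from
      f.comp_algebraMap]
    exact maximalIdeal_comap _
  have hE : EGA4loc.IsEssentiallyEtale D E :=
    ⟨D ⊗[A] W₀, inferInstance, inferInstance, q, inferInstance, inferInstance, hqD, ⟨AlgEquiv.refl⟩⟩
  have hunit : ∀ y : q.primeCompl, IsUnit (f y) := fun y => not_not.mp fun hn => y.2 hn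
  obtain ⟨ψ, hψ⟩ : ∃ ψ : E →ₐ[D] S, ∀ c, ψ (algebraMap _ E c) = f c :=
    ⟨IsLocalization.liftAlgHom (f := f) hunit, fun c => IsLocalization.lift_eq _ c⟩
  have hrange : ∀ e : E, ψ e ∈ D ⊔ W₀ := by
    intro e
    obtain ⟨⟨n, m⟩, hnm⟩ := IsLocalization.surj q.primeCompl e
    have hn : f n ∈ D ⊔ W₀ := SetLike.mem_coe.mp (hf ▸ Set.mem_range_self n)
    have hm : f m ∈ D ⊔ W₀ := SetLike.mem_coe.mp (hf ▸ Set.mem_range_self (m : D ⊗[A] W₀))
    obtain ⟨v, hv⟩ := (hP.map_nonunit (⟨f m, hm⟩ : (D ⊔ W₀ : Subalgebra A S)) (hunit m)).exists_right_inv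
    have h1 : ψ e * f m = f n := by rw [← hψ, ← hψ, ← map_mul, hnm]
    rw [show ψ e = f n * (v : S) from by
      rw [← h1, mul_assoc, show f m * (v : S) = 1 from congrArg Subtype.val hv, mul_one]]
    exact mul_mem hn v.2
  have hlift : ∀ s ∈ D ⊔ W₀, ∃ e : E, ψ e = s := fun s hs => by
    obtain ⟨c, rfl⟩ : s ∈ Set.range f := hf.symm ▸ hs
    exact ⟨_, hψ c⟩
  -- the comparison of total fraction rings
  have haD : algebraMap A D a ∈ nonZeroDivisors D := by
    rw [mem_nonZeroDivisors_iff_right]
    intro z hz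
    refine Subtype.ext (IsFractionRing.injective S (FractionRing S) ?_)
    have h1 := congrArg (algebraMap D (FractionRing S)) hz
    rw [map_mul, map_zero, ← IsScalarTower.algebraMap_apply] at h1
    exact ((isUnit_algebraMap_fraction_strict ha).mul_left_eq_zero.mp h1).trans (map_zero _).symm
  obtain ⟨e, he⟩ := hlift w hw
  obtain ⟨Q, hQp, -, hQm⟩ := Polynomial.lifts_and_degree_eq_and_monic
    ((Polynomial.lifts_iff_coeff_lifts p).mpr fun i => hlift _ (hcoeff i) :
      p ∈ Polynomial.lifts ψ.toRingHom) hp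
  have hmem := mem_closure_of_isIntegral_image hmin hE
    ((IsScalarTower.toAlgHom D S (FractionRing S)).comp ψ)
    (fun d hd => isUnit_algebraMap_subalgebra D hd) x Q hQm (by
      show Q.eval₂ ((algebraMap S (FractionRing S)).comp ψ.toRingHom) x = 0
      rw [← eval₂_map, hQp]
      exact hpx) haD e (by
      rw [← IsScalarTower.algebraMap_apply A D (FractionRing S), haw, ← he]
      rfl)
  refine (Subring.closure_le (t := (Algebra.adjoin A ((D' : Set (FractionRing S)) ∪
      (algebraMap S (FractionRing S) '' ((D ⊔ W₀ : Subalgebra A S) : Set S)))).toSubring)).mpr ?_ hmem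
  rintro z (⟨hzi, d, hd, b, hdb⟩ | ⟨e, rfl⟩)
  · exact Algebra.subset_adjoin (Or.inl (mem_of_isIntegral_of_mul_mem D hD' hzi hd b hdb))
  · exact Algebra.subset_adjoin (Or.inr ⟨_, hrange e, rfl⟩)

end GrothLib.EssEtLoc
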