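import Groth.Agent.Lib.EssEtLoc.ResidueSplit
import Groth.Agent.Lib.EssEtLoc.BranchCriterion

/-!
# Branches of a finite étale local algebra over a henselian domain
-/

universe u

open IsLocalRing TensorProduct

noncomputable section

namespace GrothLib.EssEtLoc

/-- The counting criterion on minimal primes. -/
theorem card_minimalPrimes_eq_iff_card_algHom (A S E : Type u) [CommRing A] [HenselianLocalRing A]
    [IsDomain A] [IsNoetherianRing A]
    [IsLocalRing (integralClosure A (FractionRing A))]
    [IsLocalHom (algebraMap A (integralClosure A (FractionRing A)))]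
    [CommRing S] [IsLocalRing S] [Algebra A S] [IsLocalHom (algebraMap A S)]
    [_root_.Hensel.IsStrictHenselization A S]
    [CommRing E] [HenselianLocalRing E] [Algebra A E] [IsLocalHom (algebraMap A E)]
    [Algebra.Etale A E] [Module.Finite A E]
    [FiniteDimensional (ResidueField A)
      (separableClosure (ResidueField A) (ResidueField (integralClosure A (FractionRing A))))] :
    ENat.card (minimalPrimes S) = ENat.card (minimalPrimes E) ↔
      Nat.card (separableClosure (ResidueField A) (ResidueField (integralClosure A (FractionRing A)))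
          →ₐ[ResidueField A] ResidueField E) =
        Module.finrank (ResidueField A)
          (separableClosure (ResidueField A) (ResidueField (integralClosure A (FractionRing A)))) := by
  let R' := integralClosure A (FractionRing A)
  let Ω := AlgebraicClosure (ResidueField A)
  have hfin := minimalPrimes.finite_of_isNoetherianRing A
  haveI : IsNoetherianRing S :=
    (GrothLib.Hensel.IsStrictHenselization.isNoetherianRing_iff (R := A) (S := S)).mp ‹_›
  haveI : Finite (minimalPrimes S) := (minimalPrimes.finite_of_isNoetherianRing S).to_subtype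
  have hS : ENat.card (minimalPrimes S) = ENat.card (R' →ₐ[A] Ω) := by
    rw [GrothLib.Hensel.IsStrictHenselization.card_minimalPrimes (A := A), Brnch.numGeomBranches,
      if_pos hfin, GrothLib.Hensel.card_sigma_emb_eq_card_algHom]
    obtain ⟨e⟩ := exists_normRed_equiv A
    exact ENat.card_congr (AlgEquiv.arrowCongr e AlgEquiv.refl)
  haveI : Finite (R' →ₐ[A] Ω) := by
    rw [← not_infinite_iff_finite]
    intro hinf
    rw [ENat.card_eq_top_of_infinite (α := R' →ₐ[A] Ω), ENat.card_eq_coe_natCard] at hS
    exact ENat.coe_ne_top _ hS
  have hE : ENat.card (minimalPrimes E) = ENat.card (MaximalSpectrum (E ⊗[A] R')) := by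
    have hst : GrothLib.Hensel.EtaleStages A E := fun s =>
      ⟨E, inferInstance, inferInstance, inferInstance, AlgHom.id A E, fun x _ => ⟨x, rfl⟩⟩
    have hK := GrothLib.Hensel.absFlat_fractionRing A hfin
    have hd : ∀ k : FractionRing A, ∃ d a, IsUnit (algebraMap A (FractionRing A) d) ∧
        k * algebraMap A (FractionRing A) d = algebraMap A (FractionRing A) a := fun k => by
      obtain ⟨⟨a, d⟩, h⟩ := IsLocalization.surj (nonZeroDivisors A) k
      exact ⟨d, a, IsLocalization.map_units _ d, h⟩
    rw [GrothLib.Hensel.card_minimalPrimes_eq_card_primeSpectrum hst hK (fun a ha => by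
        rw [show a = 0 from IsFractionRing.injective A (FractionRing A) (ha.trans (map_zero _).symm)]
        exact IsNilpotent.zero) hd,
      GrothLib.Hensel.card_primeSpectrum_eq_card_maximalSpectrum hst hK R'.val Subtype.val_injective
        (fun k hk => ⟨⟨k, hk⟩, rfl⟩) hd]
  -- residue fields
  haveI : Algebra.IsAlgebraic (ResidueField A) (ResidueField R') := by
    haveI : Algebra.IsIntegral A (ResidueField R') := Algebra.IsIntegral.of_surjective
      (IsScalarTower.toAlgHom A R' (ResidueField R')) residue_surjective
    haveI : Algebra.IsIntegral (ResidueField A) (ResidueField R') := Algebra.IsIntegral.tower_top A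
    infer_instance
  haveI : Algebra.IsAlgebraic (ResidueField A) (ResidueField E) := by
    haveI : Algebra.IsIntegral A E := Algebra.IsIntegral.of_finite A E
    haveI : Algebra.IsIntegral A (ResidueField E) := Algebra.IsIntegral.of_surjective
      (IsScalarTower.toAlgHom A E (ResidueField E)) residue_surjective
    haveI : Algebra.IsIntegral (ResidueField A) (ResidueField E) := Algebra.IsIntegral.tower_top A
    infer_instance
  let ι : ResidueField E →ₐ[ResidueField A] Ω := IsAlgClosed.lift
  let π : E →ₐ[A] Ω := (ι.restrictScalars A).comp (IsScalarTower.toAlgHom A E (ResidueField E))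
  have hπ : ∀ s, π s = 0 ↔ s ∈ maximalIdeal E := fun s => by
    show ι (residue E s) = 0 ↔ _
    rw [map_eq_zero, residue_eq_zero_iff]
  have hK : ∀ x, x ∈ ι.fieldRange.toSubfield ↔ x ∈ Set.range π := fun x =>
    ⟨fun ⟨y, hy⟩ => by obtain ⟨s, rfl⟩ := residue_surjective y; exact ⟨s, hy⟩,
      fun ⟨s, hs⟩ => ⟨residue E s, hs⟩⟩
  haveI : Algebra.IsAlgebraic ι.fieldRange.toSubfield Ω := by
    haveI : Algebra.IsAlgebraic ι.fieldRange Ω :=
      Algebra.IsAlgebraic.tower_top (K := ResidueField A) _
    exact ‹Algebra.IsAlgebraic ι.fieldRange Ω›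
  rw [hS, hE, eq_comm, card_maximalSpectrum_tensor_eq_iff π hπ _ hK,
    ← card_algHom_eq_finrank_iff ι]
  constructor
  · intro h σ x
    obtain ⟨r, rfl⟩ := residue_surjective x
    obtain ⟨n, s, hs⟩ := h ((σ.restrictScalars A).comp (IsScalarTower.toAlgHom A R' (ResidueField R'))) r
    exact ⟨n, residue E s, hs⟩
  · intro h σ r
    have hker : maximalIdeal R' ≤ RingHom.ker σ.toRingHom := by
      haveI := RingHom.ker_isPrime σ.toRingHom
      refine (IsLocalRing.eq_maximalIdeal (Ideal.isMaximal_of_isIntegral_of_isMaximal_comap (R := A)
        (RingHom.ker σ.toRingHom) ?_)).ge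
      convert maximalIdeal.isMaximal A
      ext a
      show σ (algebraMap A R' a) = 0 ↔ _
      rw [σ.commutes, IsScalarTower.algebraMap_apply A (ResidueField A), map_eq_zero,
        IsLocalRing.ResidueField.algebraMap_eq, residue_eq_zero_iff]
    let σ' : ResidueField R' →ₐ[ResidueField A] Ω :=
      { toRingHom := Ideal.Quotient.lift _ σ.toRingHom fun x hx => hker hx
        commutes' := fun c => by
          obtain ⟨a, rfl⟩ := residue_surjective c
          show σ (algebraMap A R' a) = _
          rw [σ.commutes]
          exact IsScalarTower.algebraMap_apply A (ResidueField A) Ω a }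
    obtain ⟨n, y, hy⟩ := h σ' (residue R' r)
    obtain ⟨s, rfl⟩ := residue_surjective y
    exact ⟨n, s, hy⟩

end GrothLib.EssEtLoc
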