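import Groth.Agent.Lib.EssEtLoc.Basic
import Groth.Agent.Lib.Hensel.Branches
import Mathlib.RingTheory.Unramified.LocalStructure

/-!
# Essentially étale subalgebras of a strict henselization
-/

universe u

open IsLocalRing

namespace GrothLib.EssEtLoc

variable {A S : Type u} [CommRing A] [IsLocalRing A] [CommRing S] [IsLocalRing S] [Algebra A S]
  [IsLocalHom (algebraMap A S)]

/-- Finitely many elements of a strict henselization lie in an essentially étale subalgebra. -/
theorem exists_subalgebra [_root_.Hensel.IsStrictHenselization A S] (s : Finset S) :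
    ∃ (E : Subalgebra A S) (_ : IsLocalRing E), (s : Set S) ⊆ E ∧ IsLocalHom (algebraMap E S) ∧
      EGA4loc.IsEssentiallyEtale A E := by
  have := GrothLib.Hensel.IsStrictHenselization.flat (R := A) (S := S)
  obtain ⟨N, _, _, _, φ, hφ⟩ := GrothLib.Hensel.IsStrictHenselization.etaleStages (A := A) (S := S) s
  obtain ⟨q, _, ψ, hE, hinj, hloc, hψ⟩ := exists_lift_localization φ
  let e : Localization.AtPrime q ≃ₐ[A] ψ.range := AlgEquiv.ofInjective ψ hinj
  haveI : IsLocalRing ψ.range := e.toRingEquiv.isLocalRing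
  refine ⟨ψ.range, inferInstance, fun x hx => ?_, ⟨fun y hy => ?_⟩, of_algEquiv hE e⟩
  · obtain ⟨c, rfl⟩ := hφ x hx
    exact ⟨_, hψ c⟩
  · obtain ⟨z, rfl⟩ := e.surjective y
    exact (hloc.map_nonunit z hy).map e

/-- An essentially finite type dominated subalgebra lies in an essentially étale one. -/
theorem exists_ge_of_essFiniteType [_root_.Hensel.IsStrictHenselization A S] (D : Subalgebra A S)
    [IsLocalRing D] [IsLocalHom (algebraMap D S)] [Algebra.EssFiniteType A D] :
    ∃ (E : Subalgebra A S) (_ : IsLocalRing E), D ≤ E ∧ IsLocalHom (algebraMap E S) ∧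
      EGA4loc.IsEssentiallyEtale A E := by
  classical
  obtain ⟨E, _, hs, hloc, hE⟩ :=
    exists_subalgebra (A := A) (S := S) ((Algebra.EssFiniteType.finset A D).image Subtype.val)
  refine ⟨E, inferInstance, fun x hx => ?_, hloc, hE⟩
  have hle : ∀ y : D, y ∈ Algebra.EssFiniteType.subalgebra A D → (y : S) ∈ E := by
    intro y hy
    have h : Algebra.EssFiniteType.subalgebra A D ≤ E.comap D.val :=
      Algebra.adjoin_le fun z hz => hs (Finset.mem_image_of_mem _ hz)
    exact h hy
  obtain ⟨⟨a, ⟨b, hb⟩⟩, h⟩ :=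
    IsLocalization.surj (Algebra.EssFiniteType.submonoid A D) (⟨x, hx⟩ : D)
  have hb' : IsUnit ((b : D) : S) := (show IsUnit (b : D) from hb).map (algebraMap D S)
  obtain ⟨c, hc⟩ := (hloc.map_nonunit (⟨((b : D) : S), hle _ b.2⟩ : E) hb').exists_right_inv
  have hc' : ((b : D) : S) * (c : S) = 1 := congrArg Subtype.val hc
  have h' : x * ((b : D) : S) = ((a : D) : S) := congrArg Subtype.val h
  have : x = ((a : D) : S) * (c : S) := by rw [← h', mul_assoc, hc', mul_one]
  rw [this]
  exact mul_mem (hle _ a.2) c.2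

/-- A dominated unramified subalgebra, essentially of finite type, is essentially étale. -/
theorem isEssentiallyEtale_of_map_maximalIdeal [_root_.Hensel.IsStrictHenselization A S]
    (D : Subalgebra A S) [IsLocalRing D] [hD : IsLocalHom (algebraMap D S)]
    [Algebra.EssFiniteType A D]
    (hm : Ideal.map (algebraMap A D) (maximalIdeal A) = maximalIdeal D) :
    EGA4loc.IsEssentiallyEtale A D := by
  have := GrothLib.Hensel.IsStrictHenselization.flat (R := A) (S := S)
  haveI : IsLocalHom (algebraMap A D) := ⟨fun a ha => by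
    have h := ha.map (algebraMap D S)
    rw [← IsScalarTower.algebraMap_apply] at h
    exact IsLocalHom.map_nonunit a h⟩
  have hsep : Algebra.IsSeparable (ResidueField A) (ResidueField S) :=
    (‹_root_.Hensel.IsStrictHenselization A S›).isSepClosure.separable
  let ρ : ResidueField D →ₐ[ResidueField A] ResidueField S :=
    { ResidueField.map (algebraMap D S) with
      commutes' := fun x => by
        obtain ⟨a, rfl⟩ := residue_surjective x
        rfl }
  haveI : Algebra.IsSeparable (ResidueField A) (ResidueField D) :=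
    Algebra.IsSeparable.of_algHom (ResidueField A) (ResidueField S) ρ
  haveI : Algebra.FormallyUnramified A D :=
    Algebra.FormallyUnramified.iff_map_maximalIdeal_eq.mpr ⟨inferInstance, hm⟩
  let D₀ := Algebra.EssFiniteType.subalgebra A D
  let p : Ideal D₀ := (maximalIdeal D).comap (algebraMap D₀ D)
  have hsub : Algebra.EssFiniteType.submonoid A D = p.primeCompl := by
    refine SetLike.ext fun y => ?_
    show IsUnit (algebraMap D₀ D y) ↔ algebraMap D₀ D y ∉ maximalIdeal D
    rw [mem_maximalIdeal, mem_nonunits_iff, not_not]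
  haveI : IsLocalization.AtPrime D p := by
    show IsLocalization p.primeCompl D
    rw [← hsub]
    infer_instance
  let eD : Localization.AtPrime p ≃ₐ[D₀] D :=
    IsLocalization.algEquiv p.primeCompl _ _
  haveI : Algebra.IsUnramifiedAt A p :=
    Algebra.FormallyUnramified.of_equiv (eD.restrictScalars A).symm
  obtain ⟨f, hf, P, φ, hφ⟩ := Algebra.IsUnramifiedAt.exists_hasStandardEtaleSurjectionOn (R := A) p
  have hfu : IsUnit (algebraMap D₀ D f) := by
    by_contra h
    exact hf ((mem_maximalIdeal _).mpr h)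
  let l : Localization.Away f →ₐ[A] D :=
    IsLocalization.Away.liftAlgHom f (f := IsScalarTower.toAlgHom A D₀ D) hfu
  let χ : P.Ring →ₐ[A] D := l.comp φ
  obtain ⟨q, _, ψ, hE, hinj, hloc, hψ⟩ := exists_lift_localization (D.val.comp χ)
  have hu : ∀ y : q.primeCompl, IsUnit (χ y) := fun y => by
    refine hD.map_nonunit _ ?_
    show IsUnit ((D.val.comp χ) y)
    rw [← hψ]
    exact (IsLocalization.map_units (Localization.AtPrime q) y).map ψ
  let θ : Localization.AtPrime q →ₐ[A] D := IsLocalization.liftAlgHom (f := χ) hu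
  have hθ : ∀ c, θ (algebraMap P.Ring _ c) = χ c := fun c => IsLocalization.lift_eq _ c
  have hcomp : D.val.comp θ = ψ :=
    AlgHom.coe_ringHom_injective (IsLocalization.ringHom_ext q.primeCompl (RingHom.ext fun c =>
      (congrArg D.val (hθ c)).trans (hψ c).symm))
  refine of_algEquiv hE (AlgEquiv.ofBijective θ ⟨fun a b h => hinj ?_, fun d => ?_⟩)
  · rw [← hcomp]
    exact congrArg D.val h
  · obtain ⟨⟨a, b⟩, h⟩ := IsLocalization.surj p.primeCompl d
    have hD₀ : ∀ y : D₀, ∃ c, χ c = algebraMap D₀ D y := fun y => by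
      obtain ⟨c, hc⟩ := hφ (algebraMap D₀ (Localization.Away f) y)
      refine ⟨c, ?_⟩
      show l (φ c) = _
      rw [hc]
      exact IsLocalization.lift_eq _ y
    obtain ⟨a', ha'⟩ := hD₀ a
    obtain ⟨b', hb'⟩ := hD₀ (b : D₀)
    have hbq : b' ∈ q.primeCompl := fun hb => by
      have h1 : IsUnit (ψ (algebraMap P.Ring _ b')) := by
        rw [hψ]
        show IsUnit (algebraMap D S (χ b'))
        rw [hb']
        exact (IsLocalization.map_units D b).map (algebraMap D S)
      exact (IsLocalization.AtPrime.isUnit_to_map_iff _ q b').mp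
        (hloc.map_nonunit _ h1) hb
    refine ⟨IsLocalization.mk' _ a' ⟨b', hbq⟩, ?_⟩
    refine (hu ⟨b', hbq⟩).mul_right_cancel ?_
    rw [← hθ, ← map_mul, IsLocalization.mk'_spec_mk, hθ, hθ, ha', hb']
    exact h.symm

end GrothLib.EssEtLoc
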