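import Groth.Agent.Lib.EssEtLoc.Frac
import Groth.Agent.Lib.EssEtLoc.Stage

/-!
# Intermediate rings with finitely generated fraction rings
-/

universe u

open IsLocalRing

namespace GrothLib.EssEtLoc

theorem exists_local_inter {A E : Type u} [CommRing A] [IsLocalRing A] [IsReduced A]
    (hmin : (minimalPrimes A).Finite) [CommRing E] [IsLocalRing E] [Algebra A E]
    (hE : EGA4loc.IsEssentiallyEtale A E) (L : Subalgebra A (FractionRing E))
    (hL : ∀ s ∈ nonZeroDivisors A, ∃ y ∈ L, algebraMap A (FractionRing E) s * y = 1) :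
    ∃ D : Subalgebra A E, (D : Set E) = (algebraMap E (FractionRing E)) ⁻¹' (L : Set (FractionRing E)) ∧
      ∃ _ : IsLocalRing D, IsLocalHom (algebraMap D E) ∧
        ∀ l ∈ L, ∃ d ∈ D, ∃ s ∈ nonZeroDivisors A, ∃ y ∈ L,
          algebraMap A (FractionRing E) s * y = 1 ∧ l = algebraMap E (FractionRing E) d * y := by
  obtain ⟨hloc, -⟩ := fractionRing_structure hmin hE
  let D : Subalgebra A E := L.comap (IsScalarTower.toAlgHom A E (FractionRing E))
  have hD : IsLocalHom (algebraMap D E) := by
    refine ⟨fun d hd => ?_⟩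
    obtain ⟨e, he⟩ := hd.exists_right_inv
    have he' : algebraMap E (FractionRing E) d.1 * algebraMap E (FractionRing E) e = 1 := by
      rw [← map_mul, show d.1 * e = 1 from he, map_one]
    obtain ⟨z, hz, a, ha, haz⟩ := exists_mul_eq hmin hE L (s := algebraMap E _ d.1) d.2
      (fun z _ hz => by
        calc z = (algebraMap E (FractionRing E) d.1 * algebraMap E (FractionRing E) e) * z := by
              rw [he', one_mul]
          _ = algebraMap E (FractionRing E) e * (algebraMap E (FractionRing E) d.1 * z) := by ring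
          _ = 0 := by rw [hz, mul_zero])
    obtain ⟨y, hy, hay⟩ := hL a ha
    have hmem : e ∈ D := by
      show algebraMap E (FractionRing E) e ∈ L
      have : algebraMap E (FractionRing E) e = z * y := by
        calc algebraMap E (FractionRing E) e
            = algebraMap E (FractionRing E) e * (algebraMap A (FractionRing E) a * y) := by
              rw [hay, mul_one]
          _ = (algebraMap E (FractionRing E) d.1 * algebraMap E (FractionRing E) e) * (z * y) := by
              rw [← haz]; ring
          _ = z * y := by rw [he', one_mul]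
      rw [this]
      exact mul_mem hz hy
    exact IsUnit.of_mul_eq_one ⟨e, hmem⟩ (Subtype.ext he)
  haveI := hD
  refine ⟨D, rfl, RingHom.domain_isLocalRing (algebraMap D E), hD, fun l hl => ?_⟩
  obtain ⟨⟨e, m⟩, hem⟩ :=
    IsLocalization.surj ((nonZeroDivisors A).map (algebraMap A E)) l
  obtain ⟨a, ha, hm⟩ := m.2
  obtain ⟨y, hy, hay⟩ := hL a ha
  have hem' : l * algebraMap A (FractionRing E) a = algebraMap E (FractionRing E) e := by
    rw [IsScalarTower.algebraMap_apply A E (FractionRing E), hm]
    exact hem
  refine ⟨e, ?_, a, ha, y, hy, hay, ?_⟩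
  · show algebraMap E (FractionRing E) e ∈ L
    rw [← hem']
    exact mul_mem hl (L.algebraMap_mem a)
  · rw [← hem', mul_assoc, hay, mul_one]

variable {A S : Type u} [CommRing A] [IsLocalRing A] [IsReduced A] [CommRing S] [IsLocalRing S]
  [Algebra A S] [IsLocalHom (algebraMap A S)]

theorem exists_mul_eq_nonZeroDivisor (hmin : (minimalPrimes A).Finite)
    [_root_.Hensel.IsStrictHenselization A S] (D : Subalgebra A S) (s : D)
    (hs : s ∈ nonZeroDivisors D) :
    ∃ r : D, ∃ a ∈ nonZeroDivisors A, s * r = algebraMap A D a := by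
  classical
  obtain ⟨E, _, hsE, -, hE⟩ := exists_subalgebra (A := A) ({(s : S)} : Finset S)
  let ι := IsScalarTower.toAlgHom A E (FractionRing E)
  have hι : Function.Injective ι := IsFractionRing.injective E (FractionRing E)
  let L : Subalgebra A (FractionRing E) := (D.comap E.val).map ι
  obtain ⟨z, ⟨d, hd, rfl⟩, a, ha, h⟩ := exists_mul_eq hmin hE L
    (s := ι ⟨s, hsE (by simp)⟩) ⟨_, s.2, rfl⟩ (by
      rintro _ ⟨d, hd, rfl⟩ h
      have h0 : (⟨(s : S), hsE (by simp)⟩ : E) * d = 0 := hι (by rw [map_zero, map_mul]; exact h)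
      have h' : (⟨(d : S), hd⟩ : D) * s = 0 := Subtype.ext (by
        show (d : S) * s = 0
        rw [mul_comm]
        exact congrArg Subtype.val h0)
      have h2 : (d : S) = 0 := congrArg Subtype.val ((mem_nonZeroDivisors_iff_right.mp hs) _ h')
      show ι d = 0
      rw [show d = 0 from Subtype.ext h2, map_zero])
  refine ⟨⟨d, hd⟩, a, ha, Subtype.ext ?_⟩
  have h' : (⟨(s : S), hsE (by simp)⟩ : E) * d = algebraMap A E a := hι (by
    rw [map_mul, AlgHom.commutes]; exact h)
  have h'' := congrArg (Subtype.val : E → S) h'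
  exact h''

theorem fractionRing_fg_iff (hmin : (minimalPrimes A).Finite)
    [_root_.Hensel.IsStrictHenselization A S] (D : Subalgebra A S) :
    (∃ t : Finset (FractionRing D), ∀ x : FractionRing D, ∃ a ∈ nonZeroDivisors A,
        algebraMap A (FractionRing D) a * x ∈ Algebra.adjoin A (t : Set (FractionRing D))) ↔
      ∃ E : Subalgebra A S, D ≤ E ∧ ∃ _ : IsLocalRing E, EGA4loc.IsEssentiallyEtale A E := by
  classical
  have hflat := GrothLib.Hensel.IsStrictHenselization.flat (R := A) (S := S)
  have hK : ∀ x : FractionRing D, ∃ d : D, ∃ a ∈ nonZeroDivisors A,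
      algebraMap A (FractionRing D) a * x = algebraMap D (FractionRing D) d := by
    intro x
    obtain ⟨⟨d, s, hs⟩, h⟩ := IsLocalization.surj (nonZeroDivisors D) x
    obtain ⟨r, a, ha, hr⟩ := exists_mul_eq_nonZeroDivisor hmin D s hs
    refine ⟨d * r, a, ha, ?_⟩
    rw [IsScalarTower.algebraMap_apply A D (FractionRing D), ← hr, map_mul, map_mul,
      ← show x * algebraMap D (FractionRing D) s = algebraMap D (FractionRing D) d from h]
    ring
  constructor
  · rintro ⟨t, ht⟩
    choose num a ha hnum using hK
    obtain ⟨E, _, hsub, hloc, hE⟩ := exists_subalgebra (A := A) (t.image fun x => (num x : S))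
    refine ⟨E, fun x hx => ?_, inferInstance, hE⟩
    let V : Subalgebra A (FractionRing D) :=
      (E.comap D.val).map (IsScalarTower.toAlgHom A D (FractionRing D))
    have hV : ∀ z ∈ Algebra.adjoin A (t : Set (FractionRing D)),
        ∃ b ∈ nonZeroDivisors A, algebraMap A (FractionRing D) b * z ∈ V := by
      intro z hz
      refine Algebra.adjoin_induction (fun y hy => ?_) (fun r => ⟨1, one_mem _, ?_⟩)
        (fun y z _ _ hy hz => ?_) (fun y z _ _ hy hz => ?_) hz
      · refine ⟨a y, ha y, ?_⟩
        rw [hnum y]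
        exact ⟨num y, hsub (Finset.mem_image_of_mem _ hy), rfl⟩
      · rw [map_one, one_mul]
        exact V.algebraMap_mem r
      · obtain ⟨b, hb, hy⟩ := hy
        obtain ⟨c, hc, hz⟩ := hz
        refine ⟨b * c, mul_mem hb hc, ?_⟩
        rw [show algebraMap A (FractionRing D) (b * c) * (y + z) =
          algebraMap A (FractionRing D) c * (algebraMap A (FractionRing D) b * y) +
          algebraMap A (FractionRing D) b * (algebraMap A (FractionRing D) c * z) by rw [map_mul]; ring]
        exact add_mem (mul_mem (V.algebraMap_mem c) hy) (mul_mem (V.algebraMap_mem b) hz)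
      · obtain ⟨b, hb, hy⟩ := hy
        obtain ⟨c, hc, hz⟩ := hz
        exact ⟨b * c, mul_mem hb hc, by rw [map_mul, mul_mul_mul_comm]; exact mul_mem hy hz⟩
    obtain ⟨b, hb, hbx⟩ := ht (algebraMap D (FractionRing D) ⟨x, hx⟩)
    obtain ⟨c, hc, w, hw, hwe⟩ := hV _ hbx
    have heq : w = algebraMap A D (c * b) * ⟨x, hx⟩ :=
      IsFractionRing.injective D (FractionRing D) (by
        rw [map_mul, ← IsScalarTower.algebraMap_apply, map_mul, mul_assoc]
        exact hwe)
    have hwx : algebraMap A S (c * b) * x ∈ E := by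
      have : (w : S) ∈ E := hw
      rw [heq] at this
      exact this
    -- `E → S` is faithfully flat
    haveI := formallyEtale hE
    haveI := essFiniteType hE
    haveI := hloc
    haveI : Module.Flat E S := flat_of_formallyUnramified (A := A)
    haveI : Module.FaithfullyFlat E S := .of_flat_of_isLocalHom
    have hmem : (⟨_, hwx⟩ : E) ∈ Ideal.span {algebraMap A E (c * b)} := by
      rw [← Ideal.comap_map_eq_self_of_faithfullyFlat (B := S) (Ideal.span {algebraMap A E (c * b)}),
        Ideal.mem_comap, Ideal.map_span, Set.image_singleton, Ideal.mem_span_singleton']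
      exact ⟨x, mul_comm _ _⟩
    obtain ⟨e', he'⟩ := Ideal.mem_span_singleton'.mp hmem
    have hreg : IsSMulRegular A (c * b) := fun x y h => by
      simp only [smul_eq_mul] at h
      exact (mul_cancel_left_mem_nonZeroDivisors (mul_mem hc hb)).mp h
    have h3 : x = (e' : S) := (hreg.of_flat (S := S)) (by
      show algebraMap A S (c * b) * x = algebraMap A S (c * b) * (e' : S)
      rw [mul_comm _ (e' : S)]
      exact (congrArg Subtype.val he').symm)
    rw [h3]
    exact e'.2
  · rintro ⟨E, hle, _, hE⟩
    let ι : D →ₐ[A] FractionRing E :=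
      (IsScalarTower.toAlgHom A E (FractionRing E)).comp (Subalgebra.inclusion hle)
    have hι : Function.Injective ι :=
      (IsFractionRing.injective E (FractionRing E)).comp (Subalgebra.inclusion_injective hle)
    obtain ⟨t, ht, hspan⟩ := exists_span hmin hE (LinearMap.range ι.toLinearMap)
    choose g hg using fun z : t => ht z.2
    refine ⟨Finset.univ.image fun z : t => algebraMap D (FractionRing D) (g z), fun x => ?_⟩
    obtain ⟨d, a, ha, had⟩ := hK x
    obtain ⟨b, hb, hbd⟩ := hspan (ι d) ⟨d, rfl⟩
    refine ⟨b * a, mul_mem hb ha, ?_⟩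
    rw [map_mul, mul_assoc, had]
    have hrange : (t : Set (FractionRing E)) = Set.range (fun z : t => ι (g z)) := by
      ext z
      constructor
      · exact fun hz => ⟨⟨z, hz⟩, hg ⟨z, hz⟩⟩
      · rintro ⟨w, rfl⟩
        show ι (g w) ∈ (t : Set (FractionRing E))
        have h2 : ι (g w) = w.1 := hg w
        rw [h2]
        exact w.2
    rw [hrange, Submodule.mem_span_range_iff_exists_fun] at hbd
    obtain ⟨k, hk⟩ := hbd
    have hk' : ∑ z : t, k z • g z = algebraMap A D b * d := hι (by
      rw [map_sum, map_mul, AlgHom.commutes]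
      simp only [map_smul]
      exact hk)
    rw [IsScalarTower.algebraMap_apply A D (FractionRing D), ← map_mul, ← hk', map_sum]
    refine sum_mem fun z _ => ?_
    rw [Algebra.smul_def, map_mul, ← IsScalarTower.algebraMap_apply]
    exact mul_mem (Subalgebra.algebraMap_mem _ _) (Algebra.subset_adjoin (by simp))

end GrothLib.EssEtLoc
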