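import Groth.Agent.Lib.EssEtLoc.Cover
import Mathlib.RingTheory.Trace.Basic
import Mathlib.FieldTheory.IsAlgClosed.AlgebraicClosure
import Mathlib.RingTheory.Unramified.Field
import Mathlib.LinearAlgebra.FreeModule.Finite.Matrix

/-!
# Subfields of the fraction field of a quotient of a Galois cover
-/

universe u

open IsLocalRing TensorProduct

noncomputable section

namespace GrothLib.EssEtLoc

theorem card_algHom_le_finrank (A C F : Type u) [CommRing A] [Nontrivial A] [CommRing C]
    [Algebra A C] [Module.Free A C] [Module.Finite A C] [Field F] [Algebra A F]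
    [Fintype (C →ₐ[A] F)] : Fintype.card (C →ₐ[A] F) ≤ Module.finrank A C := by
  have h := (linearIndependent_toLinearMap A C F).fintype_card_le_finrank
  rw [Module.finrank_linearMap, Module.finrank_self, mul_one] at h
  exact h

/-- The intersection of the image of a Galois cover with a subfield of its fraction field:
traces land in it. -/
theorem exists_trace_map {A C K : Type u} [CommRing A] [Nontrivial A] [CommRing C] [IsLocalRing C]
    [Algebra A C] [Module.Finite A C] [Module.Free A C] [Algebra.FormallyUnramified A C]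
    [Field K] [Algebra A K] (j : C →ₐ[A] K) (L : Subfield K)
    (hAL : ∀ a, algebraMap A K a ∈ L) {G : Type u} [Fintype G] (σ : G → C →ₐ[A] C)
    (hcard : Fintype.card G = Module.finrank A C)
    (hinj : Function.Injective fun g => (residue C).comp (σ g).toRingHom) :
    ∃ T : C →ₗ[A] C, (∀ c, j (T c) ∈ L) ∧ (∃ c, IsUnit (T c)) ∧
      ∀ d c, j d ∈ L → j (T (d * c)) = j d * j (T c) := by
  classical
  letI : Algebra A L := ((algebraMap A K).codRestrict L.toSubring hAL).toAlgebra
  haveI : IsScalarTower A L K := IsScalarTower.of_algebraMap_eq fun _ => rfl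
  have halg : ∀ x ∈ Set.range j, IsAlgebraic L x := by
    rintro _ ⟨c, rfl⟩
    exact ((Algebra.IsIntegral.isIntegral (R := A) c).map j).tower_top.isAlgebraic
  let K₀ : IntermediateField L K := IntermediateField.adjoin L (Set.range j)
  let j₀ : C →ₐ[A] K₀ :=
    { toRingHom := j.toRingHom.codRestrict K₀.toSubfield.toSubring fun c =>
        IntermediateField.subset_adjoin L _ ⟨c, rfl⟩
      commutes' := fun a => Subtype.ext (j.commutes a) }
  let θ : (L ⊗[A] C) →ₐ[L] K₀ :=
    Algebra.TensorProduct.lift (Algebra.ofId L K₀) j₀ fun _ _ => Commute.all _ _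
  have hθ : Function.Surjective θ := by
    rintro ⟨x, hx⟩
    have hx' : x ∈ Algebra.adjoin L (Set.range j) := by
      have h : x ∈ K₀.toSubalgebra := hx
      rwa [IntermediateField.adjoin_toSubalgebra_of_isAlgebraic halg] at h
    have hle : Algebra.adjoin L (Set.range j) ≤ (K₀.val.comp θ).range :=
      Algebra.adjoin_le (by
        rintro _ ⟨c, rfl⟩
        exact ⟨1 ⊗ₜ c, by simp [θ, j₀]⟩)
    obtain ⟨z, hz⟩ := hle hx'
    exact ⟨z, Subtype.ext hz⟩
  haveI : Algebra.FormallyUnramified L K₀ := Algebra.FormallyUnramified.of_surjective θ hθ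
  haveI : FiniteDimensional L K₀ := Module.Finite.of_surjective θ.toLinearMap hθ
  haveI : Algebra.IsSeparable L K₀ := Algebra.FormallyUnramified.isSeparable L K₀
  let Ω := AlgebraicClosure K₀
  let ι : K₀ →ₐ[A] Ω := IsScalarTower.toAlgHom A K₀ Ω
  let Φ : G → (C →ₐ[A] Ω) := fun g => (ι.comp j₀).comp (σ g)
  have hΦ : Function.Injective Φ := fun a b hab => hinj (by
    have := eq_of_comp_eq (σ a) (σ b) (ι.comp j₀).toRingHom (AlgHom.congr_fun hab)
    simp only [this])
  haveI : Fintype (C →ₐ[A] Ω) :=
    @Fintype.ofFinite _ ((linearIndependent_toLinearMap A C Ω).finite_of_isNoetherian)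
  have hbij : Function.Bijective Φ := (Fintype.bijective_iff_injective_and_card Φ).mpr
    ⟨hΦ, le_antisymm (Fintype.card_le_of_injective Φ hΦ)
      (hcard ▸ card_algHom_le_finrank A C Ω)⟩
  let e : (K₀ →ₐ[L] Ω) → G := fun τ =>
    Function.surjInv hbij.2 ((τ.restrictScalars A).comp j₀)
  have he : ∀ τ c, ι (j₀ (σ (e τ) c)) = τ (j₀ c) := fun τ c =>
    AlgHom.congr_fun (Function.surjInv_eq hbij.2 ((τ.restrictScalars A).comp j₀)) c
  have heinj : Function.Injective e := fun τ τ' h => by
    have h1 : τ.comp θ = τ'.comp θ := Algebra.TensorProduct.ext (Subsingleton.elim _ _)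
      (AlgHom.ext fun c => by
        show τ (θ (1 ⊗ₜ c)) = τ' (θ (1 ⊗ₜ c))
        simp only [θ, Algebra.TensorProduct.lift_tmul, map_one, one_mul]
        rw [← he, ← he, h])
    exact AlgHom.ext fun x => by
      obtain ⟨z, rfl⟩ := hθ x
      exact AlgHom.congr_fun h1 z
  let T : C →ₗ[A] C := ∑ τ : K₀ →ₐ[L] Ω, (σ (e τ)).toLinearMap
  have hT : ∀ c, j₀ (T c) = algebraMap L K₀ (Algebra.trace L K₀ (j₀ c)) := fun c => by
    apply (algebraMap K₀ Ω).injective
    rw [← IsScalarTower.algebraMap_apply, trace_eq_sum_embeddings (E := Ω)]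
    show ι (j₀ (T c)) = _
    simp only [T, LinearMap.sum_apply, map_sum, AlgHom.toLinearMap_apply, he]
  refine ⟨T, fun c => ?_, ?_, fun d c hd => ?_⟩
  · rw [show j (T c) = (j₀ (T c) : K) from rfl, hT]
    exact (Algebra.trace L K₀ (j₀ c)).2
  · by_contra hcon
    push Not at hcon
    let r : (K₀ →ₐ[L] Ω) → C →* ResidueField C := fun τ =>
      ((residue C).comp (σ (e τ)).toRingHom).toMonoidHom
    have hr : Function.Injective r := fun a b h =>
      heinj (hinj (RingHom.ext fun c => DFunLike.congr_fun h c))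
    have hli : LinearIndependent (ResidueField C) (fun τ => (r τ : C → ResidueField C)) :=
      (linearIndependent_monoidHom C (ResidueField C)).comp r hr
    obtain ⟨τ₀⟩ : Nonempty (K₀ →ₐ[L] Ω) := ⟨IsAlgClosed.lift⟩
    refine one_ne_zero (Fintype.linearIndependent_iff.mp hli (fun _ => 1) (funext fun c => ?_) τ₀)
    have h0 : residue C (T c) = 0 := (residue_eq_zero_iff _).mpr ((mem_maximalIdeal _).mpr (hcon c))
    simp only [T, LinearMap.sum_apply, map_sum] at h0
    simpa [r] using h0
  · let d₀ : L := ⟨j d, hd⟩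
    have h1 : j₀ (d * c) = d₀ • j₀ c := by
      rw [map_mul, Algebra.smul_def]
      rfl
    rw [show j (T (d * c)) = (j₀ (T (d * c)) : K) from rfl, hT, h1, map_smul, smul_eq_mul,
      map_mul, ← hT]
    rfl

/-- The preimage of a subfield in a domain which it only meets inside the image of a Galois
cover. -/
theorem inter_subfield {A C R K : Type u} [CommRing A] [IsLocalRing A] [IsNoetherianRing A]
    [CommRing C] [IsLocalRing C]
    [Algebra A C] [Module.Finite A C] [Module.Free A C] [Algebra.FormallyUnramified A C]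
    [IsLocalHom (algebraMap A C)] [CommRing R]
    [IsDomain R] [IsLocalRing R] [Algebra A R] [IsLocalHom (algebraMap A R)] [Field K] [Algebra A K] [Algebra R K] [IsScalarTower A R K]
    [FaithfulSMul R K]
    (j : C →ₐ[A] R) (L : Subfield K) (hAL : ∀ a, algebraMap A K a ∈ L)
    (hmem : ∀ x : R, algebraMap R K x ∈ L → x ∈ Set.range j)
    (hfrac : ∀ l ∈ L, ∃ a b, algebraMap R K (j b) ≠ 0 ∧
      l * algebraMap R K (j b) = algebraMap R K (j a))
    (hm : (maximalIdeal A).map (algebraMap A C) = maximalIdeal C)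
    {G : Type u} [Fintype G] (σ : G → C →ₐ[A] C)
    (hcard : Fintype.card G = Module.finrank A C)
    (hinj : Function.Injective fun g => (residue C).comp (σ g).toRingHom) :
    ∃ D : Subalgebra A R, (D : Set R) = algebraMap R K ⁻¹' (L : Set K) ∧ Module.Finite A D ∧
      Algebra.FormallyUnramified A D ∧
      (∃ _ : IsLocalRing D, (maximalIdeal A).map (algebraMap A D) = maximalIdeal D ∧
        ∀ d : D, IsUnit (d : R) → IsUnit d) ∧
      ∀ l ∈ L, ∃ a ∈ D, ∃ b ∈ D, algebraMap R K b ≠ 0 ∧ l * algebraMap R K b = algebraMap R K a := by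
  obtain ⟨T, hT, ⟨c₀, hc₀⟩, hTmul⟩ := exists_trace_map
    ((IsScalarTower.toAlgHom A R K).comp j) L hAL σ hcard hinj
  let D : Subalgebra A R :=
    { L.toSubring.toSubsemiring.comap (algebraMap R K) with
      algebraMap_mem' := fun a => by
        show algebraMap R K (algebraMap A R a) ∈ L
        rw [← IsScalarTower.algebraMap_apply]
        exact hAL a }
  have hD : ∀ x, x ∈ D ↔ algebraMap R K x ∈ L := fun x => Iff.rfl
  have hinjK := FaithfulSMul.algebraMap_injective R K
  have hDj : D ≤ j.range := fun x hx => hmem x hx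
  haveI : Module.Finite A j.range := Module.Finite.range j.toLinearMap
  haveI hDfin : Module.Finite A D :=
    Module.Finite.of_injective (Subalgebra.inclusion hDj).toLinearMap
      (Subalgebra.inclusion_injective hDj)
  -- units of `D` are the elements which are images of units
  have hunit : ∀ d : D, IsUnit d ↔ ∃ c, j c = (d : R) ∧ IsUnit c := by
    intro d
    constructor
    · intro hd
      obtain ⟨c, hc⟩ := hDj d.2
      obtain ⟨d', hd'⟩ := hd.exists_right_inv
      obtain ⟨c', hc'⟩ := hDj d'.2
      refine ⟨c, hc, ?_⟩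
      by_contra hcu
      have h1 : j (c * c') = j 1 := by
        rw [map_mul, map_one]
        show j.toRingHom c * _ = _
        exact (congrArg₂ (· * ·) hc hc').trans (congrArg Subtype.val hd')
      have h2 : IsUnit (1 - c * c') := IsLocalRing.isUnit_one_sub_self_of_mem_nonunits _
        fun hu => hcu (isUnit_of_mul_isUnit_left hu)
      have h3 := h2.map j
      rw [map_sub, h1, map_one, sub_self] at h3
      exact not_isUnit_zero h3
    · rintro ⟨c, hc, hcu⟩
      obtain ⟨c', hc'⟩ := hcu.exists_right_inv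
      have h1 : (d : R) * j c' = 1 := by rw [← hc, ← map_mul, hc', map_one]
      have h2 : j c' ∈ D := by
        rw [hD]
        have h3 := congrArg (algebraMap R K) h1
        rw [map_mul, map_one] at h3
        rw [← inv_eq_of_mul_eq_one_right h3]
        exact L.inv_mem d.2
      exact IsUnit.of_mul_eq_one _ (Subtype.ext h1 : d * (⟨j c', h2⟩ : D) = 1)
  haveI : IsLocalRing D := IsLocalRing.of_nonunits_add fun a b ha hb hab => by
    obtain ⟨ca, hca⟩ := hDj a.2
    obtain ⟨cb, hcb⟩ := hDj b.2
    obtain ⟨c, hc, hcu⟩ := (hunit _).mp hab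
    have hna : ca ∈ maximalIdeal C := fun h => ha ((hunit a).mpr ⟨ca, hca, h⟩)
    have hnb : cb ∈ maximalIdeal C := fun h => hb ((hunit b).mpr ⟨cb, hcb, h⟩)
    have h2 : j (c - (ca + cb)) = 0 := by
      rw [map_sub, map_add, hc]
      rw [show j ca = (a : R) from hca, show j cb = (b : R) from hcb]
      simp
    have h3 : IsUnit (c - (ca + cb)) := by
      by_contra h
      exact ((maximalIdeal C).add_mem h ((maximalIdeal C).add_mem hna hnb)) (by simpa using hcu)
    exact not_isUnit_zero (h2 ▸ h3.map j)
  -- the trace map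
  let TD : C →ₗ[A] D := (j.toLinearMap.comp T).codRestrict D.toSubmodule fun c => (hD _).mpr (hT c)
  have hmD : (maximalIdeal A).map (algebraMap A D) = maximalIdeal D := by
    refine le_antisymm (Ideal.map_le_iff_le_comap.mpr fun a ha hu => ?_) fun x hx => ?_
    · obtain ⟨c, hc, hcu⟩ := (hunit _).mp hu
      have h1 : j (c - algebraMap A C a) = 0 := by rw [map_sub, hc, j.commutes]; exact sub_self _
      have h2 : algebraMap A C a ∈ maximalIdeal C := hm ▸ Ideal.mem_map_of_mem _ ha
      have h3 : IsUnit (c - algebraMap A C a) := by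
        by_contra h
        exact (sub_add_cancel c (algebraMap A C a) ▸ (maximalIdeal C).add_mem h h2 :) hcu
      exact not_isUnit_zero (h1 ▸ h3.map j)
    · obtain ⟨c, hc⟩ := hDj x.2
      have hcm : c ∈ maximalIdeal C := fun h => hx ((hunit x).mpr ⟨c, hc, h⟩)
      have hsmul : ∀ y ∈ (maximalIdeal A) • (⊤ : Submodule A C),
          TD y ∈ (maximalIdeal A).map (algebraMap A D) := by
        intro y hy
        induction hy using Submodule.smul_induction_on' with
        | smul a ha z _ =>
          rw [map_smul, Algebra.smul_def]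
          exact Ideal.mul_mem_right _ _ (Ideal.mem_map_of_mem _ ha)
        | add y _ z _ hy hz => rw [map_add]; exact Ideal.add_mem _ hy hz
      have hmem' : c * c₀ ∈ (maximalIdeal A) • (⊤ : Submodule A C) := by
        rw [Ideal.smul_top_eq_map, Submodule.restrictScalars_mem, hm]
        exact Ideal.mul_mem_right _ _ hcm
      have hu : IsUnit (TD c₀) := (hunit _).mpr ⟨T c₀, rfl, hc₀⟩
      have heq : x * TD c₀ = TD (c * c₀) := Subtype.ext (hinjK (by
        show algebraMap R K ((x : R) * j (T c₀)) = algebraMap R K (j (T (c * c₀)))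
        rw [← hc, map_mul]
        exact (hTmul c c₀ (show algebraMap R K (j.toRingHom c) ∈ L from hc ▸ (hD _).mp x.2)).symm))
      exact (Ideal.mul_unit_mem_iff_mem _ hu).mp (heq ▸ hsmul _ hmem')
  haveI : IsLocalHom (algebraMap A D) := ((local_hom_TFAE _).out 0 2 rfl rfl).mpr hmD.le
  haveI : IsLocalRing j.range :=
    IsLocalRing.of_surjective' j.rangeRestrict.toRingHom j.rangeRestrict_surjective
  haveI : Algebra.FormallyUnramified A j.range :=
    Algebra.FormallyUnramified.of_surjective j.rangeRestrict j.rangeRestrict_surjective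
  haveI : IsLocalHom (algebraMap A j.range) := ⟨fun a ha => by
    by_contra hna
    have h2 : algebraMap A C a ∈ maximalIdeal C :=
      hm ▸ Ideal.mem_map_of_mem _ ((mem_maximalIdeal _).mpr hna)
    obtain ⟨y, hy⟩ := ha.exists_right_inv
    obtain ⟨c, hc⟩ := j.rangeRestrict_surjective y
    have h3 := (IsLocalRing.isUnit_one_sub_self_of_mem_nonunits _
      ((maximalIdeal C).mul_mem_right c h2)).map j.rangeRestrict
    rw [map_sub, map_one, map_mul, AlgHom.commutes, hc, hy, sub_self] at h3
    exact not_isUnit_zero h3⟩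
  haveI hincl : IsLocalHom (Subalgebra.inclusion hDj).toRingHom := ⟨fun d hd => by
    obtain ⟨c, hc⟩ := hDj d.2
    refine (hunit d).mpr ⟨c, hc, ?_⟩
    by_contra hcu
    obtain ⟨y, hy⟩ := hd.exists_right_inv
    obtain ⟨c', hc'⟩ := j.rangeRestrict_surjective y
    have h3 := (IsLocalRing.isUnit_one_sub_self_of_mem_nonunits (c * c') fun h =>
      hcu (isUnit_of_mul_isUnit_left h)).map j.rangeRestrict
    rw [map_sub, map_one, map_mul, hc',
      show j.rangeRestrict c = (Subalgebra.inclusion hDj) d from Subtype.ext hc] at h3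
    exact not_isUnit_zero (by rwa [show (Subalgebra.inclusion hDj) d * y = 1 from hy, sub_self] at h3)⟩
  let ρ : ResidueField D →ₐ[ResidueField A] ResidueField j.range :=
    { ResidueField.map (Subalgebra.inclusion hDj).toRingHom with
      commutes' := fun x => by
        obtain ⟨a, rfl⟩ := residue_surjective x
        rfl }
  haveI : Algebra.IsSeparable (ResidueField A) (ResidueField D) :=
    Algebra.IsSeparable.of_algHom (ResidueField A) (ResidueField j.range) ρ
  haveI : Algebra.FormallyUnramified A D :=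
    Algebra.FormallyUnramified.iff_map_maximalIdeal_eq.mpr ⟨inferInstance, hmD⟩
  refine ⟨D, rfl, hDfin, inferInstance, ⟨inferInstance, hmD, fun d hd => ?_⟩, fun l hl => ?_⟩
  · obtain ⟨c, hc⟩ := hDj d.2
    refine (hunit d).mpr ⟨c, hc, ?_⟩
    by_contra hcu
    have h1 : j c ∈ (maximalIdeal A).map (algebraMap A R) := by
      rw [show algebraMap A R = j.toRingHom.comp (algebraMap A C) from j.comp_algebraMap.symm,
        ← Ideal.map_map, hm]
      exact Ideal.mem_map_of_mem _ hcu
    exact ((local_hom_TFAE (algebraMap A R)).out 0 2 rfl rfl).mp ‹_› h1 (hc ▸ hd)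
  · obtain ⟨a, b, hb, hab⟩ := hfrac l hl
    have hb0 : (⟨j b, b, rfl⟩ : j.range) ≠ 0 := fun h =>
      hb (by rw [show j b = 0 from congrArg Subtype.val h, map_zero])
    haveI : IsDomain j.range := inferInstance
    haveI : Algebra.IsIntegral (⊥ : Subalgebra A j.range) j.range :=
      Algebra.IsIntegral.tower_top (R := A)
    obtain ⟨⟨a', ha'⟩, ha'mem, ha'0⟩ : ∃ a' : (⊥ : Subalgebra A j.range),
        algebraMap _ j.range a' ∈ Ideal.span {(⟨j b, b, rfl⟩ : j.range)} ∧ a' ≠ 0 := by
      by_contra h
      push Not at h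
      exact hb0 (Ideal.span_singleton_eq_bot.mp (Ideal.eq_bot_of_comap_eq_bot
        (R := (⊥ : Subalgebra A j.range)) (le_bot_iff.mp fun z hz => (h z hz : z = 0))))
    obtain ⟨a₁, rfl⟩ := Algebra.mem_bot.mp ha'
    obtain ⟨⟨r, c, rfl⟩, hr⟩ := Ideal.mem_span_singleton'.mp ha'mem
    have hr' : j c * j b = algebraMap A R a₁ := congrArg Subtype.val hr
    have hne : algebraMap R K (algebraMap A R a₁) ≠ 0 := fun h => ha'0 (Subtype.ext (Subtype.ext
      (hinjK (by rw [map_zero]; exact h) : algebraMap A R a₁ = 0)))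
    have key : algebraMap R K (j (a * c)) = l * algebraMap R K (algebraMap A R a₁) := by
      rw [← hr', map_mul, map_mul, map_mul, ← hab]
      ring
    refine ⟨j (a * c), (hD _).mpr ?_, algebraMap A R a₁, D.algebraMap_mem _, hne, key.symm⟩
    rw [key]
    exact L.mul_mem hl (D.algebraMap_mem a₁ : algebraMap A R a₁ ∈ D)

end GrothLib.EssEtLoc
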