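import Groth.Agent.Lib.EssEtLoc.Transport

/-!
# Essentially étale subalgebras of a strict henselization through their normalization
-/

universe u

open IsLocalRing TensorProduct

noncomputable section

namespace GrothLib.EssEtLoc

variable {A S : Type u} [CommRing A] [IsLocalRing A] [IsReduced A] [IsNoetherianRing A] [CommRing S]
  [IsLocalRing S] [Algebra A S] [IsLocalHom (algebraMap A S)]
  [hS : _root_.Hensel.IsStrictHenselization A S]
  (D : Subalgebra A S) [IsLocalRing D] [IsLocalHom (algebraMap D S)]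
  {A' D' : Subalgebra A (FractionRing S)} (hle : A' ≤ D') (ι : D →ₐ[A] D')
  (hA' : ∀ x : (FractionRing S), x ∈ A' ↔ (IsIntegral A x ∧
    ∃ a ∈ nonZeroDivisors A, ∃ b : A, algebraMap A (FractionRing S) a * x = algebraMap A (FractionRing S) b))
  (hD' : ∀ x : (FractionRing S), x ∈ D' ↔ (IsIntegral D x ∧
    ∃ a ∈ nonZeroDivisors A, ∃ d ∈ D, algebraMap A (FractionRing S) a * x = algebraMap S (FractionRing S) d))
  (hι : ∀ d : D, (ι d : (FractionRing S)) = algebraMap S (FractionRing S) d)

include hA' hD' hι in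
theorem isEssentiallyEtale_of_conditions (hN : CAlg.IsNagata A) (E : Subalgebra A S) [IsLocalRing E]
    (hDE : D ≤ E) (hE : EGA4loc.IsEssentiallyEtale A E)
    (hfin : {N : Ideal D' | N.IsMaximal}.Finite)
    (hsurj : Function.Surjective ((Ideal.Quotient.mkₐ A (Ideal.jacobson (⊥ : Ideal D'))).comp
      (Algebra.TensorProduct.productMap (Subalgebra.inclusion hle) ι))) :
    EGA4loc.IsEssentiallyEtale A D := by
  classical
  obtain ⟨ρ, hρ, -, hρinj⟩ := exists_fracMap E hE
  haveI := isReduced_of_isEssentiallyEtale hE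
  haveI := finite_normBase hN hE
  let D₀ : Subalgebra A E := D.comap E.val
  let eD : D₀ ≃ₐ[A] D :=
    { toFun := fun d => ⟨((d : E) : S), d.2⟩
      invFun := fun d => ⟨⟨d, hDE d.2⟩, d.2⟩
      left_inv := fun _ => rfl
      right_inv := fun _ => rfl
      map_mul' := fun _ _ => rfl
      map_add' := fun _ _ => rfl
      commutes' := fun _ => rfl }
  haveI : IsLocalRing D₀ := eD.symm.toRingEquiv.isLocalRing
  haveI : IsLocalHom (algebraMap D₀ E) := ⟨fun d hd => by
    have h1 : IsUnit ((eD d : D) : S) := hd.map (algebraMap E S)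
    have h2 : IsUnit (eD d) := IsLocalHom.map_nonunit (f := algebraMap D S) (eD d) h1
    simpa using h2.map eD.symm⟩
  -- the normalizations correspond
  have hmem : ∀ y : normSub D₀, ρ y ∈ D' := fun y =>
    (hD' _).mpr ((mem_range_normSub hE ρ hρ hρinj hDE _).mpr ⟨y, y.2, rfl⟩)
  let f : normSub D₀ →ₐ[A] D' := (ρ.comp (normSub D₀).val).codRestrict D' hmem
  have hf : Function.Bijective f := by
    refine ⟨fun x y h => Subtype.ext (hρinj (congrArg Subtype.val h :)), fun x => ?_⟩
    obtain ⟨y, hy, hyx⟩ := (mem_range_normSub hE ρ hρ hρinj hDE _).mp ((hD' _).mp x.2)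
    exact ⟨⟨y, hy⟩, Subtype.ext hyx⟩
  let eN : normSub D₀ ≃ₐ[A] D' := AlgEquiv.ofBijective f hf
  have hfin' : {N : Ideal (normSub D₀) | N.IsMaximal}.Finite := by
    refine (hfin.image (fun N : Ideal D' => N.comap eN.toAlgHom.toRingHom)).subset fun N hN' => ?_
    haveI : N.IsMaximal := hN'
    refine ⟨N.comap eN.symm.toAlgHom.toRingHom,
      Ideal.comap_isMaximal_of_surjective _ eN.symm.surjective, ?_⟩
    ext x
    show eN.symm (eN x) ∈ N ↔ x ∈ N
    rw [eN.symm_apply_apply]
  have hgen : ∀ x : normSub D₀, ∃ z ∈ Algebra.adjoin A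
      ({y : normSub D₀ | (y : FractionRing E) ∈ normBase A E} ∪ Set.range (toNormSub D₀)),
      x - z ∈ Ideal.jacobson (⊥ : Ideal (normSub D₀)) := by
    intro x
    obtain ⟨t, ht⟩ := hsurj (Ideal.Quotient.mk _ (eN x))
    rw [AlgHom.comp_apply, Ideal.Quotient.mkₐ_eq_mk, Ideal.Quotient.eq] at ht
    refine ⟨eN.symm (Algebra.TensorProduct.productMap (Subalgebra.inclusion hle) ι t), ?_, ?_⟩
    · clear ht
      induction t using TensorProduct.induction_on with
      | zero => rw [map_zero, map_zero]; exact zero_mem _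
      | tmul a d =>
        rw [Algebra.TensorProduct.productMap_apply_tmul, map_mul]
        obtain ⟨y, hy, hya⟩ := (mem_range_normBase hE ρ hρinj _).mp ((hA' _).mp a.2)
        refine mul_mem (Algebra.subset_adjoin (Or.inl ?_)) (Algebra.subset_adjoin (Or.inr ⟨eD.symm d, ?_⟩))
        · have : eN.symm (Subalgebra.inclusion hle a) = ⟨y, normBase_le_normSub _ hy⟩ :=
            eN.injective (by rw [eN.apply_symm_apply]; exact Subtype.ext hya.symm)
          rw [this]
          exact hy
        · refine eN.injective ?_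
          rw [eN.apply_symm_apply]
          exact Subtype.ext ((hρ _).trans (hι d).symm)
      | add t t' h h' => rw [map_add, map_add]; exact add_mem h h'
    · refine Submodule.mem_sInf.mpr ?_
      rintro (N : Ideal (normSub D₀)) ⟨-, hN'⟩
      haveI := hN'
      have hN'' : (N.comap eN.symm.toAlgHom.toRingHom).IsMaximal :=
        Ideal.comap_isMaximal_of_surjective _ eN.symm.surjective
      have h1 := (sInf_le ⟨bot_le, hN''⟩ : Ideal.jacobson (⊥ : Ideal D') ≤ _) ht
      have h2 : eN.symm (Algebra.TensorProduct.productMap (Subalgebra.inclusion hle) ι t - eN x) ∈ N := h1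
      rw [map_sub, eN.symm_apply_apply] at h2
      simpa using N.neg_mem h2
  obtain ⟨hEFT, ⟨s, hs⟩, hRad, n, htop⟩ := normSub_structure hN hE D₀ hfin' hgen
  haveI := hEFT
  have hm := map_maximalIdeal_of_residual E hE D₀ s hs hRad hgen htop
  haveI : Algebra.EssFiniteType A D := (Algebra.EssFiniteType.iff_of_algEquiv eD).mp inferInstance
  haveI : IsLocalHom (algebraMap A D) := ⟨fun a ha => by
    have h := ha.map (algebraMap D S)
    rw [← IsScalarTower.algebraMap_apply] at h
    exact IsLocalHom.map_nonunit a h⟩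
  refine isEssentiallyEtale_of_map_maximalIdeal D (le_antisymm
    (Ideal.map_le_iff_le_comap.mpr fun a ha hu => ha (IsLocalHom.map_nonunit a hu)) fun d hd => ?_)
  have h1 : eD.symm d ∈ maximalIdeal D₀ := fun hu => hd (by simpa using hu.map eD)
  rw [← hm] at h1
  have h2 := Ideal.mem_map_of_mem eD.toAlgHom.toRingHom h1
  rw [Ideal.map_map] at h2
  rw [show eD.toAlgHom.toRingHom.comp (algebraMap A D₀) = algebraMap A D from
    eD.toAlgHom.comp_algebraMap] at h2
  simpa using h2

set_option maxHeartbeats 800000 in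
-- several equivalences between subalgebras of total fraction rings
include hA' hD' hι in
theorem conditions_of_isEssentiallyEtale (hN : CAlg.IsNagata A) (hE : EGA4loc.IsEssentiallyEtale A D) :
    {N : Ideal D' | N.IsMaximal}.Finite ∧
      Function.Surjective ((Ideal.Quotient.mkₐ A (Ideal.jacobson (⊥ : Ideal D'))).comp
        (Algebra.TensorProduct.productMap (Subalgebra.inclusion hle) ι)) ∧
      RingHom.ker ((Ideal.Quotient.mkₐ A (Ideal.jacobson (⊥ : Ideal D'))).comp
        (Algebra.TensorProduct.productMap (Subalgebra.inclusion hle) ι)) =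
        (Ideal.jacobson (⊥ : Ideal A')).map
            (Algebra.TensorProduct.includeLeft : A' →ₐ[A] A' ⊗[A] D) ⊔
          (maximalIdeal D).map
            (Algebra.TensorProduct.includeRight : D →ₐ[A] A' ⊗[A] D) := by
  classical
  obtain ⟨ρ, hρ, -, hρinj⟩ := exists_fracMap D hE
  haveI := isReduced_of_isEssentiallyEtale hE
  haveI := finite_normBase hN hE
  haveI := essFiniteType hE
  haveI : IsNoetherianRing D := Algebra.EssFiniteType.isNoetherianRing A D
  have hmin := minimalPrimes.finite_of_isNoetherianRing A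
  obtain ⟨hloc, -⟩ := fractionRing_structure hmin hE
  let T := integralClosure D (FractionRing D)
  have hρD : ρ.toRingHom.comp (algebraMap D (FractionRing D)) = algebraMap D (FractionRing S) :=
    RingHom.ext hρ
  have hmem : ∀ y : T, ρ (y : FractionRing D) ∈ D' := by
    intro y
    refine (hD' _).mpr ⟨?_, ?_⟩
    · obtain ⟨p, hp, hpy⟩ := y.2
      refine ⟨p, hp, ?_⟩
      rw [← hρD]
      show Polynomial.eval₂ _ (ρ.toRingHom (y : FractionRing D)) p = 0
      rw [← Polynomial.hom_eval₂, hpy, map_zero]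
    · obtain ⟨⟨d, ⟨_, a, ha, rfl⟩⟩, h⟩ :=
        IsLocalization.surj ((nonZeroDivisors A).map (algebraMap A D)) (y : FractionRing D)
      refine ⟨a, ha, d, d.2, ?_⟩
      rw [← ρ.commutes, ← map_mul, mul_comm, IsScalarTower.algebraMap_apply A D (FractionRing D)]
      exact (congrArg ρ h).trans (hρ d)
  let f : T →ₐ[A] D' := (ρ.comp (T.val.restrictScalars A)).codRestrict D' hmem
  have hf : Function.Bijective f := by
    refine ⟨fun x y h => Subtype.ext (hρinj (congrArg Subtype.val h :)), fun x => ?_⟩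
    obtain ⟨⟨p, hp, hpx⟩, a, ha, d, hd, had⟩ := (hD' _).mp x.2
    obtain ⟨v, hv⟩ := (isUnit_algebraMap_fractionRing hE ha).exists_right_inv
    have hρy : ρ (algebraMap D (FractionRing D) ⟨d, hd⟩ * v) = x := by
      have h1 : algebraMap A (FractionRing S) a * ρ v = 1 := by
        rw [← ρ.commutes, ← map_mul, hv, map_one]
      rw [map_mul, hρ, ← had, mul_right_comm, h1, one_mul]
    obtain ⟨y, hy⟩ : ∃ y, ρ y = (x : FractionRing S) := ⟨_, hρy⟩
    refine ⟨⟨y, p, hp, hρinj ?_⟩, Subtype.ext hy⟩
    show ρ.toRingHom _ = ρ _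
    rw [map_zero, Polynomial.hom_eval₂, hρD]
    rw [← hy] at hpx
    exact hpx
  obtain ⟨eT, heT⟩ : ∃ e : T ≃ₐ[A] D', ∀ y, (e y : FractionRing S) = ρ (y : FractionRing D) :=
    ⟨AlgEquiv.ofBijective f hf, fun _ => rfl⟩
  -- the base normalizations
  have hψmem : ∀ y : normBase A D, ρ (y : FractionRing D) ∈ A' := fun y =>
    (hA' _).mpr ((mem_range_normBase hE ρ hρinj _).mpr ⟨y, y.2, rfl⟩)
  obtain ⟨ψ, hψ⟩ : ∃ e : normBase A D ≃ₐ[A] A', ∀ y, (e y : FractionRing S) = ρ (y : FractionRing D) :=
    ⟨AlgEquiv.ofBijective ((ρ.comp (normBase A D).val).codRestrict A' hψmem) (by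
      refine ⟨fun x y h => Subtype.ext (hρinj (congrArg Subtype.val h :)), fun x => ?_⟩
      obtain ⟨y, hy, hyx⟩ := (mem_range_normBase hE ρ hρinj _).mp ((hA' _).mp x.2)
      exact ⟨⟨y, hy⟩, Subtype.ext hyx⟩), fun _ => rfl⟩
  obtain ⟨c, hc⟩ : ∃ c : normBase A D ⊗[A] D ≃ₐ[A] A' ⊗[A] D,
      ∀ x e, c (x ⊗ₜ[A] e) = ψ x ⊗ₜ[A] e :=
    ⟨Algebra.TensorProduct.congr ψ AlgEquiv.refl, fun _ _ => rfl⟩
  let pm := Algebra.TensorProduct.productMap (Subalgebra.inclusion hle) ι
  have hcomm : ∀ t, pm (c t) = eT (normMul t) := by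
    intro t
    induction t using TensorProduct.induction_on with
    | zero => simp only [map_zero]
    | tmul x e =>
      refine Subtype.ext ?_
      rw [heT, hc, Algebra.TensorProduct.productMap_apply_tmul, coe_normMul, map_mul, hρ]
      show (ψ x : FractionRing S) * (ι e : FractionRing S) = _
      rw [hι, hψ]
    | add t t' h h' => rw [map_add c, map_add pm, h, h', map_add normMul, map_add eT]
  have hbij := normMul_bijective hmin hE
  have hpm_surj : Function.Surjective pm := fun x => by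
    obtain ⟨t, ht⟩ := hbij.2 (eT.symm x)
    exact ⟨c t, (hcomm t).trans ((congrArg eT ht).trans (eT.apply_symm_apply x))⟩
  haveI := finite_maximalSpectrum_integralClosure D
  refine ⟨?_, ?_, le_antisymm ?_ ?_⟩
  · refine ((Set.finite_range fun M : MaximalSpectrum T =>
      Ideal.comap eT.symm.toAlgHom.toRingHom M.asIdeal)).subset
      fun N hN' => ?_
    haveI : N.IsMaximal := hN'
    refine ⟨⟨N.comap eT.toAlgHom.toRingHom, Ideal.comap_isMaximal_of_surjective _ eT.surjective⟩, ?_⟩
    ext x
    show eT (eT.symm x) ∈ N ↔ x ∈ N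
    rw [eT.apply_symm_apply]
  · exact (Ideal.Quotient.mkₐ_surjective A _).comp hpm_surj
  · intro t ht
    rw [RingHom.mem_ker, AlgHom.comp_apply, Ideal.Quotient.mkₐ_eq_mk,
      Ideal.Quotient.eq_zero_iff_mem] at ht
    obtain ⟨t, rfl⟩ := c.surjective t
    refine Ideal.mem_sup_left ?_
    have hz : ∀ M : Ideal T, M.IsMaximal → normMul t ∈ M := fun M hM => by
      haveI := hM
      have hN' : (Ideal.comap eT.symm.toAlgHom.toRingHom M).IsMaximal :=
        Ideal.comap_isMaximal_of_surjective _ eT.symm.surjective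
      have h1 := (sInf_le ⟨bot_le, hN'⟩ : Ideal.jacobson (⊥ : Ideal D') ≤ _) ht
      have h2 : eT.symm (pm (c t)) ∈ M := h1
      rw [hcomm, eT.symm_apply_apply] at h2
      exact h2
    have hmem' := mem_map_jacobson_normBase hE (normMul t) hz
    rw [← Ideal.map_map] at hmem'
    obtain ⟨t', ht', htt'⟩ := (Ideal.mem_map_iff_of_surjective _ hbij.2).mp hmem'
    rw [show t = t' from hbij.1 htt'.symm]
    have h3 := Ideal.mem_map_of_mem c.toAlgHom.toRingHom ht'
    rw [Ideal.map_map] at h3
    refine (Ideal.map_le_iff_le_comap.mpr (fun x hx => ?_) : _ ≤ _) h3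
    rw [Ideal.mem_comap, show c.toAlgHom.toRingHom.comp
      (Algebra.TensorProduct.includeLeft : normBase A D →ₐ[A] normBase A D ⊗[A] D).toRingHom x =
        (Algebra.TensorProduct.includeLeft : A' →ₐ[A] A' ⊗[A] D) (ψ x) from hc x 1]
    refine Ideal.mem_map_of_mem _ (Submodule.mem_sInf.mpr ?_)
    rintro (P : Ideal A') ⟨-, hP⟩
    haveI := hP
    exact (sInf_le ⟨bot_le, Ideal.comap_isMaximal_of_surjective ψ.toAlgHom.toRingHom ψ.surjective (K := P)⟩ :
      Ideal.jacobson (⊥ : Ideal (normBase A D)) ≤ _) hx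
  · exact sup_le_ker D hle ι hι (fun x => ((hD' _).mp x.2).1) (fun x => ((hA' _).mp x.2).1)

end GrothLib.EssEtLoc
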