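import Mathlib.RingTheory.EssentialFiniteness
import Mathlib.RingTheory.QuasiFinite.Basic
import Mathlib.RingTheory.Localization.BaseChange
import Mathlib.RingTheory.LocalRing.RingHom.Basic
import Mathlib.RingTheory.FiniteType

/-!
# Local subalgebras essentially of finite type
-/

universe u

open IsLocalRing Polynomial

noncomputable section

namespace GrothLib.EssEtLoc

/-- The fractions of a finitely generated subalgebra inside a local algebra. -/
def locSub (A : Type u) {D : Type u} [CommRing A] [CommRing D] [Algebra A D] (G : Set D) :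
    Subalgebra A D where
  carrier := {d | ∃ u ∈ Algebra.adjoin A G, IsUnit u ∧ d * u ∈ Algebra.adjoin A G}
  mul_mem' := by
    rintro a b ⟨u, hu, hu', ha⟩ ⟨w, hw, hw', hb⟩
    exact ⟨u * w, mul_mem hu hw, hu'.mul hw', by rw [mul_mul_mul_comm]; exact mul_mem ha hb⟩
  add_mem' := by
    rintro a b ⟨u, hu, hu', ha⟩ ⟨w, hw, hw', hb⟩
    refine ⟨u * w, mul_mem hu hw, hu'.mul hw', ?_⟩
    rw [show (a + b) * (u * w) = a * u * w + b * w * u by ring]
    exact add_mem (mul_mem ha hw) (mul_mem hb hu)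
  algebraMap_mem' a := ⟨1, one_mem _, isUnit_one, by rw [mul_one]; exact Subalgebra.algebraMap_mem _ a⟩

variable {A D : Type u} [CommRing A] [CommRing D] [Algebra A D]

theorem adjoin_le_locSub (G : Set D) : Algebra.adjoin A G ≤ locSub A G := fun x hx =>
  ⟨1, one_mem _, isUnit_one, by rwa [mul_one]⟩

theorem subset_locSub (G : Set D) : G ⊆ locSub A G :=
  Algebra.subset_adjoin.trans (adjoin_le_locSub G)

theorem locSub_mono {G G' : Set D} (h : G ⊆ G') : locSub A G ≤ locSub A G' :=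
  fun _ ⟨u, hu, hu', hx⟩ => ⟨u, Algebra.adjoin_mono h hu, hu', Algebra.adjoin_mono h hx⟩

theorem isUnit_of_isUnit_coe_locSub {G : Set D} (x : locSub A G) (hx : IsUnit (x : D)) : IsUnit x := by
  obtain ⟨y, hy⟩ := hx.exists_right_inv
  obtain ⟨u, hu, hu', hxu⟩ := x.2
  refine IsUnit.of_mul_eq_one ⟨y, (x : D) * u, hxu, hx.mul hu', ?_⟩ (Subtype.ext hy)
  rw [← mul_assoc, mul_comm y, hy, one_mul]
  exact hu

theorem isLocalHom_val_locSub (G : Set D) : IsLocalHom (algebraMap (locSub A G) D) :=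
  ⟨fun x hx => isUnit_of_isUnit_coe_locSub x hx⟩

theorem isLocalRing_locSub [IsLocalRing D] (G : Set D) : IsLocalRing (locSub A G) :=
  haveI := isLocalHom_val_locSub (A := A) G
  RingHom.domain_isLocalRing (algebraMap (locSub A G) D)

theorem essFiniteType_locSub (G : Finset D) : Algebra.EssFiniteType A (locSub A (G : Set D)) := by
  classical
  refine (Algebra.essFiniteType_iff A _).mpr
    ⟨Finset.univ.image fun g : G => (⟨g.1, subset_locSub _ g.2⟩ : locSub A (G : Set D)), fun x => ?_⟩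
  set S : Set (locSub A (G : Set D)) := ↑(Finset.univ.image fun g : G =>
    (⟨g.1, subset_locSub _ g.2⟩ : locSub A (G : Set D)))
  have hS : ∀ y ∈ Algebra.adjoin A (G : Set D), ∃ h, (⟨y, h⟩ : locSub A (G : Set D)) ∈
      Algebra.adjoin A S := by
    intro y hy
    refine ⟨adjoin_le_locSub _ hy, ?_⟩
    have h : y ∈ (Algebra.adjoin A S).map (locSub A (G : Set D)).val := by
      refine Algebra.adjoin_le (fun g hg => ?_) hy
      exact ⟨⟨g, subset_locSub _ hg⟩,
        Algebra.subset_adjoin (Finset.mem_image.mpr ⟨⟨g, hg⟩, Finset.mem_univ _, rfl⟩), rfl⟩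
    obtain ⟨z, hz, hzy⟩ := h
    have hzeq : (⟨y, adjoin_le_locSub _ hy⟩ : locSub A (G : Set D)) = z := Subtype.ext hzy.symm
    rw [hzeq]
    exact hz
  obtain ⟨u, hu, hu', hxu⟩ := x.2
  obtain ⟨h1, h1'⟩ := hS u hu
  obtain ⟨h2, h2'⟩ := hS _ hxu
  exact ⟨⟨u, h1⟩, h1', isUnit_of_isUnit_coe_locSub _ hu', h2'⟩

/-- Finitely many inverses detect the units of a finite subalgebra. -/
theorem exists_finset_inverses {D₁ D' : Type u} [CommRing D₁] [IsLocalRing D₁] [CommRing D']
    [Algebra D₁ D'] (R₁ : Subalgebra D₁ D') [Module.Finite D₁ R₁] :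
    ∃ U : Finset D', ∀ Q : Ideal R₁, Q ∈ (maximalIdeal D₁).primesOver R₁ →
      (∃ u ∈ Q, IsUnit (u : D')) → ∃ w ∈ Q, ∃ v ∈ U, (w : D') * v = 1 := by
  classical
  let Bad : Set (Ideal R₁) :=
    {Q | Q ∈ (maximalIdeal D₁).primesOver R₁ ∧ ∃ u ∈ Q, IsUnit (u : D')}
  have hBad : Bad.Finite :=
    (Algebra.QuasiFinite.finite_primesOver (maximalIdeal D₁)).subset fun Q hQ => hQ.1
  haveI := hBad.fintype
  choose w hwQ hwu using fun Q : Bad => Q.2.2
  refine ⟨Finset.univ.image fun Q : Bad => (((hwu Q).unit⁻¹ : D'ˣ) : D'), fun Q hQ hu => ?_⟩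
  let Q' : Bad := ⟨Q, hQ, hu⟩
  exact ⟨w Q', hwQ Q', _, Finset.mem_image_of_mem _ (Finset.mem_univ Q'), (hwu Q').mul_val_inv⟩

/-- A unit of the small subalgebra has its inverse in the large one. -/
theorem exists_inverse_mem {D₁ D₂ D' : Type u} [CommRing D₁] [IsLocalRing D₁] [CommRing D₂]
    [IsLocalRing D₂] [CommRing D'] [Algebra D₁ D'] [Algebra D₂ D'] (φ : D₁ →+* D₂) [IsLocalHom φ]
    (hφ : ∀ d, algebraMap D₂ D' (φ d) = algebraMap D₁ D' d) (R₁ : Subalgebra D₁ D')
    (R₂ : Subalgebra D₂ D') [Algebra.IsIntegral D₂ R₂] (hR : ∀ z ∈ R₁, z ∈ R₂) (U : Finset D')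
    (hUR : ∀ v ∈ U, v ∈ R₂)
    (hU : ∀ Q : Ideal R₁, Q ∈ (maximalIdeal D₁).primesOver R₁ →
      (∃ u ∈ Q, IsUnit (u : D')) → ∃ w ∈ Q, ∃ v ∈ U, (w : D') * v = 1)
    (u : R₁) (hu : IsUnit (u : D')) : ∃ v ∈ R₂, (u : D') * v = 1 := by
  let j : R₁ →+* R₂ :=
    { toFun := fun z => ⟨z, hR z z.2⟩
      map_one' := rfl
      map_mul' := fun _ _ => rfl
      map_zero' := rfl
      map_add' := fun _ _ => rfl }
  suffices h : IsUnit (j u) by
    obtain ⟨v, hv⟩ := h.exists_right_inv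
    exact ⟨v, v.2, congrArg Subtype.val hv⟩
  by_contra hn
  obtain ⟨M, hM, huM⟩ := exists_max_ideal_of_mem_nonunits (a := j u) hn
  haveI := hM
  have hMm : M.comap (algebraMap D₂ R₂) = maximalIdeal D₂ :=
    IsLocalRing.eq_maximalIdeal (Ideal.isMaximal_comap_of_isIntegral_of_isMaximal (R := D₂) M)
  have hover : (M.comap j).comap (algebraMap D₁ R₁) = maximalIdeal D₁ := by
    have hcomp : j.comp (algebraMap D₁ R₁) = (algebraMap D₂ R₂).comp φ :=
      RingHom.ext fun d => Subtype.ext (hφ d).symm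
    rw [Ideal.comap_comap, hcomp, ← Ideal.comap_comap, hMm]
    exact ((local_hom_TFAE φ).out 0 4 rfl rfl).mp ‹_›
  haveI := hM.isPrime.comap j
  obtain ⟨w, hw, v, hv, hwv⟩ := hU (M.comap j) ⟨inferInstance, ⟨hover.symm⟩⟩ ⟨u, huM, hu⟩
  exact hM.ne_top (Ideal.eq_top_of_isUnit_mem _ (hw : j w ∈ M)
    (IsUnit.of_mul_eq_one ⟨v, hUR v hv⟩ (Subtype.ext hwv)))

/-- The covering by the enlarged finite algebra. -/
theorem mem_adjoin_of_denominators {D' : Type u} [CommRing D'] [Algebra A D'] [Algebra D D']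
    [IsScalarTower A D D'] (D₁ D₂ : Subalgebra A D) [IsLocalRing D₁] [IsLocalRing D₂] (h12 : D₁ ≤ D₂)
    (hu : ∀ x : D₁, IsUnit (x : D) → IsUnit x) (s U : Set D')
    [Algebra.IsIntegral D₂ (Algebra.adjoin D₂ (s ∪ U))]
    (hU : ∀ Q : Ideal (Algebra.adjoin D₁ s), Q ∈ (maximalIdeal D₁).primesOver (Algebra.adjoin D₁ s) →
      (∃ u ∈ Q, IsUnit (u : D')) → ∃ w ∈ Q, ∃ v ∈ U, (w : D') * v = 1)
    (hden : ∀ y : D', ∃ u ∈ Algebra.adjoin A s, IsUnit u ∧ u * y ∈ Algebra.adjoin A s)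
    (Ufin : Finset D') (hUfin : (Ufin : Set D') = U) (y : D') :
    y ∈ Algebra.adjoin D₂ (s ∪ U) := by
  subst hUfin
  have hR : ∀ z ∈ Algebra.adjoin D₁ s, z ∈ Algebra.adjoin D₂ (s ∪ Ufin) := fun z hz => by
    refine Algebra.adjoin_induction (p := fun z _ => z ∈ Algebra.adjoin D₂ (s ∪ Ufin))
      (fun y hy => Algebra.subset_adjoin (Or.inl hy)) (fun d => ?_)
      (fun y y' _ _ h h' => add_mem h h') (fun y y' _ _ h h' => mul_mem h h') hz
    exact (Algebra.adjoin D₂ (s ∪ (Ufin : Set D'))).algebraMap_mem ⟨_, h12 d.2⟩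
  let φ : D₁ →+* D₂ := (Subalgebra.inclusion h12).toRingHom
  haveI : IsLocalHom φ := ⟨fun d hd => hu d (hd.map D₂.val)⟩
  obtain ⟨u, hu', huu, huy⟩ := hden y
  have h1 : ∀ z ∈ Algebra.adjoin A s, z ∈ Algebra.adjoin D₁ s := fun z hz => by
    refine Algebra.adjoin_induction (p := fun z _ => z ∈ Algebra.adjoin D₁ s)
      (fun y hy => Algebra.subset_adjoin hy) (fun a => ?_) (fun y y' _ _ h h' => add_mem h h')
      (fun y y' _ _ h h' => mul_mem h h') hz
    rw [IsScalarTower.algebraMap_apply A D₁ D']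
    exact (Algebra.adjoin D₁ s).algebraMap_mem _
  obtain ⟨v, hv, hv'⟩ := exists_inverse_mem φ (fun _ => rfl) _ _ hR Ufin
    (fun v hv => Algebra.subset_adjoin (Or.inr hv)) hU ⟨u, h1 _ hu'⟩ huu
  rw [show y = u * y * v by rw [mul_right_comm, show u * v = 1 from hv', one_mul]]
  exact mul_mem (hR _ (h1 _ huy)) hv

/-- An algebra covered by units-denominators over finitely many integral elements is finite over a
local subalgebra essentially of finite type. -/
theorem essFiniteType_of_denominators [IsLocalRing D] [IsNoetherianRing A] {D' : Type u}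
    [CommRing D'] [Algebra A D'] [Algebra D D'] [IsScalarTower A D D'] [Algebra.IsIntegral D D']
    (hinj : Function.Injective (algebraMap D D')) (s : Finset D')
    (hden : ∀ y : D', ∃ u ∈ Algebra.adjoin A (s : Set D'), IsUnit u ∧
      u * y ∈ Algebra.adjoin A (s : Set D')) :
    Algebra.EssFiniteType A D := by
  classical
  choose p hp hpz using fun z : D' => Algebra.IsIntegral.isIntegral (R := D) z
  -- integrality over the local subalgebra of coefficients
  have key : ∀ G : Finset D, ∃ (D₁ : Subalgebra A D) (_ : IsLocalRing D₁),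
      Algebra.EssFiniteType A D₁ ∧ (∀ x : D₁, IsUnit (x : D) → IsUnit x) ∧
      D₁ = locSub A (G : Set D) ∧
      ∀ z : D', (p z).coeffs ⊆ G → IsIntegral D₁ z := by
    intro G
    haveI := isLocalRing_locSub (A := A) (G : Set D)
    refine ⟨_, inferInstance, essFiniteType_locSub G, fun x => isUnit_of_isUnit_coe_locSub x, rfl,
      fun z hz => ?_⟩
    have hl : p z ∈ lifts (algebraMap (locSub A (G : Set D)) D) :=
      (lifts_iff_coeff_lifts _).mpr fun n => by
        by_cases h0 : (p z).coeff n = 0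
        · exact ⟨0, by rw [map_zero, h0]⟩
        · exact ⟨⟨_, subset_locSub _ (hz (coeff_mem_coeffs h0))⟩, rfl⟩
    obtain ⟨q, hq, -, hqm⟩ := lifts_and_degree_eq_and_monic hl (hp z)
    refine ⟨q, hqm, ?_⟩
    rw [IsScalarTower.algebraMap_eq (locSub A (G : Set D)) D D', ← eval₂_map, hq]
    exact hpz z
  obtain ⟨D₁, _, hD₁e, hD₁u, hD₁, hint₁⟩ := key (s.biUnion fun z => (p z).coeffs)
  haveI : Module.Finite D₁ (Algebra.adjoin D₁ (s : Set D')) :=
    Module.Finite.iff_fg.mpr (fg_adjoin_of_finite s.finite_toSet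
      fun z hz => hint₁ z (Finset.subset_biUnion_of_mem (fun z => (p z).coeffs) hz))
  obtain ⟨U, hU⟩ := exists_finset_inverses (Algebra.adjoin D₁ (s : Set D'))
  obtain ⟨D₂, _, hD₂e, -, hD₂, hint₂⟩ := key ((s ∪ U).biUnion fun z => (p z).coeffs)
  have h12 : D₁ ≤ D₂ := by
    rw [hD₁, hD₂]
    exact locSub_mono (Finset.biUnion_subset_biUnion_of_subset_left _ Finset.subset_union_left)
  haveI : Module.Finite D₂ (Algebra.adjoin D₂ ((s : Set D') ∪ U)) :=
    Module.Finite.iff_fg.mpr (fg_adjoin_of_finite (s.finite_toSet.union U.finite_toSet)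
      fun z hz => hint₂ z (Finset.subset_biUnion_of_mem (fun z => (p z).coeffs)
        (Finset.mem_union.mpr hz)))
  haveI : Algebra.IsIntegral D₂ (Algebra.adjoin D₂ ((s : Set D') ∪ U)) :=
    Algebra.IsIntegral.of_finite _ _
  have hall := mem_adjoin_of_denominators D₁ D₂ h12 hD₁u (s : Set D') (U : Set D') hU hden U rfl
  haveI := hD₂e
  haveI : IsNoetherianRing D₂ := Algebra.EssFiniteType.isNoetherianRing A D₂
  haveI : Module.Finite D₂ D := by
    haveI : IsNoetherian D₂ (Algebra.adjoin D₂ ((s : Set D') ∪ U)) :=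
      isNoetherian_of_isNoetherianRing_of_finite _ _
    refine Module.Finite.of_injective
      ((IsScalarTower.toAlgHom D₂ D D').codRestrict _ fun d => hall _).toLinearMap ?_
    exact fun a b h => hinj (congrArg Subtype.val h)
  exact Algebra.EssFiniteType.comp A D₂ D

end GrothLib.EssEtLoc
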