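import Groth.Agent.Lib.EssEtLoc.Standard
import Mathlib.RingTheory.Flat.EquationalCriterion
import Mathlib.Algebra.Polynomial.Lifts
import Mathlib.RingTheory.Polynomial.Basic
import Mathlib.RingTheory.EssentialFiniteness

/-!
# Noetherian intermediate rings of essentially étale algebras
-/

universe u

open IsLocalRing Polynomial

noncomputable section

namespace GrothLib.EssEtLoc

/-- A surjection onto a flat algebra whose kernel lies in the extended maximal ideal is injective. -/
theorem injective_of_flat_of_maximalIdeal_map {A T E : Type u} [CommRing A] [IsNoetherianRing A]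
    [IsLocalRing A] [CommRing T] [IsLocalRing T] [IsNoetherianRing T] [CommRing E] [Nontrivial E]
    [Algebra A E] [Module.Flat A E] (η : A →+* T) (θ : T →+* E) (hθ : Function.Surjective θ)
    (hc : ∀ a, θ (η a) = algebraMap A E a) (hm : (maximalIdeal A).map η = maximalIdeal T) :
    Function.Injective θ := by
  rw [RingHom.injective_iff_ker_eq_bot]
  obtain ⟨G, hG⟩ := IsNoetherian.noetherian (maximalIdeal A)
  refine Submodule.eq_bot_of_le_smul_of_le_jacobson_bot (maximalIdeal T) _
    (IsNoetherian.noetherian _) (fun z hz => ?_) (maximalIdeal_le_jacobson ⊥)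
  have hzm : z ∈ Ideal.span (Set.range fun g : G => η g.1) := by
    have h := le_maximalIdeal (RingHom.ker_ne_top θ) hz
    rw [← hm, ← hG, Ideal.submodule_span_eq, Ideal.map_span] at h
    convert h using 2
    congr 1
    ext y
    simp
  obtain ⟨c, hcz⟩ := Submodule.mem_span_range_iff_exists_fun T |>.mp hzm
  have h0 : ∑ g : G, (g : A) • θ (c g) = 0 := by
    rw [← RingHom.mem_ker.mp hz, ← hcz, map_sum]
    refine Finset.sum_congr rfl fun g _ => ?_
    rw [smul_eq_mul, map_mul, hc, Algebra.smul_def, mul_comm]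
  obtain ⟨k, a, y, hy, ha⟩ :=
    Module.Flat.isTrivialRelation_of_sum_smul_eq_zero (R := A) h0
  choose Y hY using fun l => hθ (y l)
  have hmem : ∀ g : G, c g - ∑ l, η (a g l) * Y l ∈ RingHom.ker θ := fun g => by
    rw [RingHom.mem_ker, map_sub, map_sum, sub_eq_zero]
    refine (hy g).trans (Finset.sum_congr rfl fun l _ => ?_)
    rw [map_mul, hc, hY, Algebra.smul_def]
  have hz' : z = ∑ g : G, η g.1 * (c g - ∑ l, η (a g l) * Y l) := by
    have h2 : ∑ g : G, η g.1 * ∑ l, η (a g l) * Y l = 0 := by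
      simp only [Finset.mul_sum, ← mul_assoc, ← map_mul]
      rw [Finset.sum_comm]
      refine Finset.sum_eq_zero fun l _ => ?_
      rw [← Finset.sum_mul, ← map_sum, ha l, map_zero, zero_mul]
    simp only [mul_sub, Finset.sum_sub_distrib, h2, sub_zero]
    rw [← hcz]
    exact Finset.sum_congr rfl fun g _ => by rw [smul_eq_mul, mul_comm]
  rw [hz']
  refine Ideal.sum_mem _ fun g _ => Submodule.smul_mem_smul ?_ (hmem g)
  rw [← hm, ← hG]
  exact Ideal.mem_map_of_mem η (Submodule.subset_span g.2)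

/-- An essentially étale algebra over a Noetherian intermediate ring is given by one monic
polynomial. -/
theorem exists_monogenic {A D E : Type u} [CommRing A] [IsLocalRing A] [IsNoetherianRing A]
    [CommRing D] [IsLocalRing D] [IsNoetherianRing D] [CommRing E] [IsLocalRing E]
    [Algebra A D] [Algebra A E] [Algebra D E] [IsScalarTower A D E]
    [IsLocalHom (algebraMap D E)] (hE : EGA4loc.IsEssentiallyEtale A E)
    (hm : (maximalIdeal A).map (algebraMap A D) = maximalIdeal D) :
    ∃ (x : E) (f : D[X]), f.Monic ∧ aeval x f = 0 ∧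
      (∀ e : E, ∃ u v : D[X], IsUnit (aeval x u) ∧ e * aeval x u = aeval x v) ∧
      ∀ z : D[X], aeval x z = 0 → ∃ w, IsUnit (aeval x w) ∧ f ∣ w * z := by
  haveI := flat hE
  haveI := formallyEtale hE
  haveI := essFiniteType hE
  haveI : Algebra.EssFiniteType D E := Algebra.EssFiniteType.of_comp A D E
  haveI : Algebra.FormallyUnramified D E := Algebra.FormallyUnramified.of_restrictScalars A D E
  obtain ⟨P, q, _, θ, hθ, hloc⟩ := exists_standardEtale_surjection (A := D) (D := E)
  haveI : IsNoetherianRing P.Ring := Algebra.FiniteType.isNoetherianRing D P.Ring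
  haveI : IsNoetherianRing (Localization.AtPrime q) :=
    IsLocalization.isNoetherianRing q.primeCompl (Localization.AtPrime q) inferInstance
  haveI : Algebra.FormallyUnramified D (Localization.AtPrime q) :=
    Algebra.FormallyUnramified.comp D P.Ring _
  haveI : Algebra.EssFiniteType P.Ring (Localization.AtPrime q) :=
    Algebra.EssFiniteType.of_isLocalization _ q.primeCompl
  haveI : Algebra.EssFiniteType D (Localization.AtPrime q) :=
    Algebra.EssFiniteType.comp D P.Ring _
  haveI : IsLocalHom (algebraMap D (Localization.AtPrime q)) := ⟨fun d hd => by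
    have h := hd.map θ
    rw [θ.commutes] at h
    exact IsLocalHom.map_nonunit d h⟩
  have hinjθ : Function.Injective θ := by
    refine injective_of_flat_of_maximalIdeal_map
      ((algebraMap D (Localization.AtPrime q)).comp (algebraMap A D)) θ.toRingHom hθ (fun a => ?_) ?_
    · show θ (algebraMap D _ (algebraMap A D a)) = _
      rw [θ.commutes, ← IsScalarTower.algebraMap_apply]
    · rw [← Ideal.map_map, hm, Algebra.FormallyUnramified.map_maximalIdeal]
  let θ' : P.Ring →ₐ[D] E := θ.comp (IsScalarTower.toAlgHom D P.Ring (Localization.AtPrime q))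
  let e := P.equivAwayAdjoinRoot
  let χ' : AdjoinRoot P.f →ₐ[D] E := (θ'.comp e.symm.toAlgHom).comp
    (IsScalarTower.toAlgHom D (AdjoinRoot P.f) (Localization.Away (AdjoinRoot.mk P.f P.g)))
  let x := χ' (AdjoinRoot.root P.f)
  have hχ : ∀ z, aeval x z = χ' (AdjoinRoot.mk P.f z) := fun z => by
    rw [aeval_algHom_apply, AdjoinRoot.aeval_eq]
  have hχL : ∀ z, θ' (e.symm (algebraMap (AdjoinRoot P.f) _ (AdjoinRoot.mk P.f z))) = aeval x z :=
    fun z => (hχ z).symm
  have hgu : ∀ k : ℕ, IsUnit (aeval x (P.g ^ k)) := fun k => by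
    rw [map_pow, ← hχL]
    exact (((IsLocalization.Away.algebraMap_isUnit _).map e.symm).map θ').pow k
  have hrep : ∀ c : P.Ring, ∃ (z : D[X]) (k : ℕ),
      e c * algebraMap (AdjoinRoot P.f) _ (AdjoinRoot.mk P.f (P.g ^ k)) =
        algebraMap (AdjoinRoot P.f) _ (AdjoinRoot.mk P.f z) := fun c => by
    obtain ⟨k, a, hk⟩ := IsLocalization.Away.surj (AdjoinRoot.mk P.f P.g) (e c)
    obtain ⟨z, rfl⟩ := AdjoinRoot.mk_surjective a
    exact ⟨z, k, by rw [map_pow, map_pow]; exact hk⟩
  have hrep' : ∀ c : P.Ring, ∃ (z : D[X]) (k : ℕ), θ' c * aeval x (P.g ^ k) = aeval x z := fun c => by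
    obtain ⟨z, k, hk⟩ := hrep c
    refine ⟨z, k, ?_⟩
    rw [← hχL, ← hχL, ← hk, map_mul, e.symm_apply_apply, map_mul]
  refine ⟨x, P.f, P.monic_f, by rw [hχ, AdjoinRoot.mk_self, map_zero], fun ε => ?_, fun z hz => ?_⟩
  · obtain ⟨t, rfl⟩ := hθ ε
    obtain ⟨c, y, rfl⟩ := IsLocalization.exists_mk'_eq q.primeCompl t
    obtain ⟨v, k, hv⟩ := hrep' c
    obtain ⟨u, l, hu⟩ := hrep' y
    refine ⟨u * P.g ^ k, v * P.g ^ l, ?_, ?_⟩
    · rw [map_mul, ← hu]
      exact ((((IsLocalization.map_units (Localization.AtPrime q) y).map θ).mul (hgu l))).mul (hgu k)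
    · have hmk : θ (IsLocalization.mk' _ c y) * θ' y = θ' c := by
        show θ _ * θ (algebraMap P.Ring _ (y : P.Ring)) = θ (algebraMap P.Ring _ c)
        rw [← map_mul, IsLocalization.mk'_spec]
      rw [map_mul, map_mul, ← hu, ← hv, ← hmk]
      ring
  · have h0 : algebraMap P.Ring (Localization.AtPrime q)
        (e.symm (algebraMap (AdjoinRoot P.f) _ (AdjoinRoot.mk P.f z))) = 0 :=
      hinjθ (((hχL z).trans hz).trans (map_zero θ).symm)
    obtain ⟨y, hy⟩ := (IsLocalization.map_eq_zero_iff q.primeCompl _ _).mp h0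
    obtain ⟨w, k, hw⟩ := hrep (y : P.Ring)
    have h1 : algebraMap (AdjoinRoot P.f) (Localization.Away (AdjoinRoot.mk P.f P.g))
        (AdjoinRoot.mk P.f (w * z)) = 0 := by
      rw [map_mul, map_mul, ← hw, mul_right_comm,
        ← e.apply_symm_apply (algebraMap (AdjoinRoot P.f) _ (AdjoinRoot.mk P.f z)), ← map_mul, hy,
        map_zero, zero_mul]
    obtain ⟨⟨_, n, rfl⟩, hn⟩ :=
      (IsLocalization.map_eq_zero_iff (Submonoid.powers (AdjoinRoot.mk P.f P.g))
        (Localization.Away (AdjoinRoot.mk P.f P.g)) _).mp h1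
    simp only at hn
    rw [← map_pow, ← map_mul, AdjoinRoot.mk_eq_zero] at hn
    refine ⟨P.g ^ n * w, ?_, by rw [mul_assoc]; exact hn⟩
    rw [map_mul]
    refine (hgu n).mul ?_
    have hwu : θ' y * aeval x (P.g ^ k) = aeval x w := by
      rw [← hχL, ← hχL, ← hw, map_mul, e.symm_apply_apply, map_mul]
    rw [← hwu]
    exact ((IsLocalization.map_units (Localization.AtPrime q) y).map θ).mul (hgu k)

/-- One unit denominator annihilates all relations with coefficients in a Noetherian ring. -/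
theorem exists_uniform_annihilator {R D E : Type*} [CommRing R] [IsNoetherianRing R] [CommRing D]
    [CommRing E] [Algebra D E] (x : E) (f : D[X]) (i : R →+* D)
    (h : ∀ z : D[X], aeval x z = 0 → ∃ w, IsUnit (aeval x w) ∧ f ∣ w * z) :
    ∃ W : D[X], IsUnit (aeval x W) ∧ ∀ z : R[X], aeval x (z.map i) = 0 → f ∣ W * z.map i := by
  classical
  obtain ⟨Z, hZ⟩ := IsNoetherian.noetherian
    (RingHom.ker ((aeval x).toRingHom.comp (mapRingHom i)))
  have hZJ : ∀ z : Z, aeval x ((z : R[X]).map i) = 0 := fun z => by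
    have : (z : R[X]) ∈ RingHom.ker ((aeval x).toRingHom.comp (mapRingHom i)) :=
      hZ ▸ Submodule.subset_span z.2
    exact this
  choose w hwu hwz using fun z : Z => h _ (hZJ z)
  refine ⟨∏ z : Z, w z, ?_, fun z hz => ?_⟩
  · rw [map_prod]
    exact IsUnit.prod_iff.mpr fun z _ => hwu z
  · have hz' : z ∈ RingHom.ker ((aeval x).toRingHom.comp (mapRingHom i)) := hz
    rw [← hZ] at hz'
    refine Submodule.span_induction (fun y hy => ?_) ?_ (fun y y' _ _ h h' => ?_)
      (fun c y _ h => ?_) hz'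
    · exact (hwz ⟨y, hy⟩).trans (mul_dvd_mul_right
        (Finset.dvd_prod_of_mem w (Finset.mem_univ _)) _)
    · rw [Polynomial.map_zero, mul_zero]; exact dvd_zero f
    · rw [Polynomial.map_add, mul_add]; exact dvd_add h h'
    · rw [smul_eq_mul, Polynomial.map_mul, mul_left_comm]; exact dvd_mul_of_dvd_right h _

/-- Solving for an element from a relation with a regular multiplier. -/
theorem exists_unit_mul_mem_range {R D E : Type*} [CommRing R] [CommRing D] [CommRing E]
    [IsLocalRing E] [Algebra D E] [IsLocalHom (algebraMap D E)] (x : E) (f : D[X]) (hf : f.Monic)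
    (hfx : aeval x f = 0) (i : R →+* D) (hfi : f ∈ lifts i) (p r : D[X]) (hp : p ∈ lifts i)
    (hr : r ∈ lifts i) (hpu : IsUnit (aeval x p)) (a d : D) (ha : IsSMulRegular D a)
    (h : f ∣ a • (d • p - r)) : ∃ t ∈ i.range, IsUnit t ∧ d * t ∈ i.range := by
  haveI : Nontrivial D := (algebraMap D E).domain_nontrivial
  obtain ⟨f₁, hf₁, -, hf₁m⟩ := lifts_and_degree_eq_and_monic hfi hf
  have hmod : ∀ g ∈ lifts i, ∀ n, (g %ₘ f).coeff n ∈ i.range := fun g hg n => by
    obtain ⟨g₁, rfl⟩ := (mem_lifts g).mp hg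
    rw [← hf₁, ← map_modByMonic _ hf₁m, coeff_map]
    exact ⟨_, rfl⟩
  rw [← modByMonic_eq_zero_iff_dvd hf, smul_modByMonic] at h
  have h3 : ∀ n, d * (p %ₘ f).coeff n = (r %ₘ f).coeff n := fun n => by
    have := congrArg (fun q => coeff q n) h
    simp only [coeff_smul, coeff_zero] at this
    have h' := ha (this.trans (smul_zero a).symm)
    rwa [sub_modByMonic, smul_modByMonic, coeff_sub, coeff_smul, smul_eq_mul, sub_eq_zero] at h'
  obtain ⟨n, hn⟩ : ∃ n, IsUnit ((p %ₘ f).coeff n) := by
    by_contra hall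
    rw [not_exists] at hall
    have hu' : IsUnit (aeval x (p %ₘ f)) := by
      have := congrArg (aeval x) (modByMonic_add_div p f)
      rw [map_add, map_mul (aeval x) f, hfx, zero_mul, add_zero] at this
      rwa [this]
    refine (maximalIdeal.isMaximal E).ne_top (Ideal.eq_top_of_isUnit_mem _ ?_ hu')
    rw [aeval_eq_sum_range]
    refine Ideal.sum_mem _ fun j _ => ?_
    rw [Algebra.smul_def]
    exact Ideal.mul_mem_right _ _ fun h => hall j (IsLocalHom.map_nonunit _ h)
  exact ⟨_, hmod p hp n, hn, h3 n ▸ hmod r hr n⟩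

/-- A Noetherian intermediate ring with unramified closed point is essentially of finite type. -/
theorem essFiniteType_of_le_essentiallyEtale {A D E : Type u} [CommRing A] [IsLocalRing A]
    [IsNoetherianRing A]
    [CommRing D] [IsLocalRing D] [IsNoetherianRing D] [CommRing E] [IsLocalRing E]
    [Algebra A D] [Algebra A E] [Algebra D E] [IsScalarTower A D E]
    [IsLocalHom (algebraMap D E)] (hE : EGA4loc.IsEssentiallyEtale A E)
    (hm : (maximalIdeal A).map (algebraMap A D) = maximalIdeal D)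
    (hreg : ∀ a ∈ nonZeroDivisors A, IsSMulRegular D a)
    (G : Finset D) (hG : ∀ d : D, ∃ a ∈ nonZeroDivisors A,
      algebraMap A D a * d ∈ Algebra.adjoin A (G : Set D)) :
    Algebra.EssFiniteType A D := by
  classical
  haveI := essFiniteType hE
  obtain ⟨x, f, hf, hfx, hrep, hker⟩ := exists_monogenic (D := D) hE hm
  let s := Algebra.EssFiniteType.finset A E
  choose u v hu huv using hrep
  let G₀ : Finset D := G ∪ f.coeffs ∪ s.biUnion fun e => (u e).coeffs ∪ (v e).coeffs
  let D₀ := Algebra.adjoin A (G₀ : Set D)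
  have hco : ∀ p : D[X], p.coeffs ⊆ G₀ → p ∈ lifts (algebraMap D₀ D) := fun p hp => by
    rw [lifts_iff_coeff_lifts]
    intro n
    by_cases h0 : p.coeff n = 0
    · exact ⟨0, by rw [map_zero, h0]⟩
    · exact ⟨⟨_, Algebra.subset_adjoin (hp (coeff_mem_coeffs h0))⟩, rfl⟩
  let M : Subalgebra A E :=
    { carrier := {e | ∃ p ∈ lifts (algebraMap D₀ D), ∃ r ∈ lifts (algebraMap D₀ D),
        IsUnit (aeval x p) ∧ e * aeval x p = aeval x r}
      mul_mem' := by
        rintro a b ⟨p, hp, r, hr, hu, he⟩ ⟨p', hp', r', hr', hu', he'⟩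
        refine ⟨p * p', mul_mem hp hp', r * r', mul_mem hr hr', by rw [map_mul]; exact hu.mul hu', ?_⟩
        rw [map_mul, map_mul, ← he, ← he']; ring
      add_mem' := by
        rintro a b ⟨p, hp, r, hr, hu, he⟩ ⟨p', hp', r', hr', hu', he'⟩
        refine ⟨p * p', mul_mem hp hp', r * p' + r' * p, add_mem (mul_mem hr hp') (mul_mem hr' hp),
          by rw [map_mul]; exact hu.mul hu', ?_⟩
        rw [map_mul, map_add, map_mul, map_mul, ← he, ← he']; ring
      algebraMap_mem' := fun a => ⟨1, one_mem _, C (algebraMap A D a),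
        C_mem_lifts (algebraMap D₀ D) (algebraMap A D₀ a), by rw [map_one]; exact isUnit_one,
        by rw [map_one, mul_one, aeval_C, ← IsScalarTower.algebraMap_apply]⟩ }
  have hsM : Algebra.EssFiniteType.subalgebra A E ≤ M := Algebra.adjoin_le fun e he => by
    have h1 : (u e).coeffs ∪ (v e).coeffs ⊆ G₀ := fun c hc =>
      Finset.mem_union_right _ (Finset.mem_biUnion.mpr ⟨e, he, hc⟩)
    exact ⟨u e, hco _ (Finset.union_subset_left h1), v e, hco _ (Finset.union_subset_right h1),
      hu e, huv e⟩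
  have hM : ∀ e : E, e ∈ M := fun e => by
    obtain ⟨⟨a, b⟩, hab⟩ := IsLocalization.surj (Algebra.EssFiniteType.submonoid A E) e
    obtain ⟨p, hp, r, hr, hpu, hpr⟩ := hsM a.2
    obtain ⟨p', hp', r', hr', hp'u, hp'r⟩ := hsM b.1.2
    have hb : IsUnit ((b : Algebra.EssFiniteType.subalgebra A E) : E) := b.2
    refine ⟨r' * p, mul_mem hr' hp, r * p', mul_mem hr hp',
      by rw [map_mul, ← hp'r]; exact (hb.mul hp'u).mul hpu, ?_⟩
    rw [map_mul, map_mul, ← hp'r, ← hpr]
    have hab' : e * ((b : Algebra.EssFiniteType.subalgebra A E) : E) =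
        (a : E) := hab
    rw [← hab']
    ring
  -- the relations
  haveI : Algebra.FiniteType A D₀ := 
    ⟨(Subalgebra.fg_top D₀).mpr ⟨G₀, rfl⟩⟩
  haveI : IsNoetherianRing D₀ := Algebra.FiniteType.isNoetherianRing A D₀
  obtain ⟨W, hWu, hW⟩ := exists_uniform_annihilator x f (algebraMap D₀ D) hker
  let σ : Finset D := G₀ ∪ W.coeffs
  let D₁ := Algebra.adjoin A (σ : Set D)
  refine (Algebra.essFiniteType_iff A D).mpr ⟨σ, fun d => ?_⟩
  obtain ⟨p, hp, r, hr, hpu, hpr⟩ := hM (algebraMap D E d)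
  obtain ⟨a, ha, had⟩ := hG d
  have had' : algebraMap A D a * d ∈ D₀ := Algebra.adjoin_mono
    (fun c hc => Finset.mem_union_left _ (Finset.mem_union_left _ hc)) had
  obtain ⟨p₀, rfl⟩ := (mem_lifts _).mp hp
  obtain ⟨r₀, rfl⟩ := (mem_lifts _).mp hr
  let c : D₀ := ⟨algebraMap A D a * d, had'⟩
  let b : D₀ := algebraMap A D₀ a
  have hc : algebraMap D₀ D c = algebraMap A D a * d := rfl
  have hb : algebraMap D₀ D b = algebraMap A D a := rfl
  have h1 := hW (p₀ * C c - C b * r₀) (by
    rw [Polynomial.map_sub, Polynomial.map_mul, Polynomial.map_mul, map_C, map_C, hc, hb,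
      map_sub]
    simp only [map_mul, aeval_C, ← hpr]
    ring)
  rw [Polynomial.map_sub, Polynomial.map_mul, Polynomial.map_mul, map_C, map_C, hc, hb] at h1
  have h2 : f ∣ algebraMap A D a •
      (d • (W * p₀.map (algebraMap D₀ D)) - W * r₀.map (algebraMap D₀ D)) := by
    convert h1 using 1
    rw [smul_eq_C_mul, smul_eq_C_mul, C_mul]
    ring
  let i : D₁ →+* D := D₁.val.toRingHom
  have hlift : ∀ g : D[X], (∀ n, g.coeff n ∈ D₁) → g ∈ lifts i := fun g hg =>
    (lifts_iff_coeff_lifts g).mpr fun n => ⟨⟨_, hg n⟩, rfl⟩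
  have hle : D₀ ≤ D₁ := Algebra.adjoin_mono fun c hc => Finset.mem_union_left _ hc
  have hfc : ∀ n, f.coeff n ∈ D₁ := fun n => by
    by_cases h0 : f.coeff n = 0
    · rw [h0]; exact zero_mem D₁
    · exact hle (Algebra.subset_adjoin (Finset.mem_union_left _
        (Finset.mem_union_right _ (coeff_mem_coeffs h0))))
  have hWc : ∀ n, W.coeff n ∈ D₁ := fun n => by
    by_cases h0 : W.coeff n = 0
    · rw [h0]; exact zero_mem D₁
    · exact Algebra.subset_adjoin (Finset.mem_union_right _ (coeff_mem_coeffs h0))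
  have hmap : ∀ g : D₀[X], g.map (algebraMap D₀ D) ∈ lifts i := fun g =>
    hlift _ fun n => by rw [coeff_map]; exact hle (g.coeff n).2
  have hreg' : IsSMulRegular D (algebraMap A D a) := fun y z hyz => hreg a ha (by
    show a • y = a • z
    rw [← algebraMap_smul D a y, ← algebraMap_smul D a z]; exact hyz)
  obtain ⟨t, ⟨t', ht⟩, htu, ⟨s', hs⟩⟩ := exists_unit_mul_mem_range x f hf hfx i (hlift f hfc) _ _
    (mul_mem (hlift W hWc) (hmap p₀)) (mul_mem (hlift W hWc) (hmap r₀))
    (by rw [map_mul]; exact hWu.mul hpu) _ d hreg' h2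
  exact ⟨t, ht ▸ t'.2, htu, hs ▸ s'.2⟩

end GrothLib.EssEtLoc
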