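import Mathlib.FieldTheory.PurelyInseparable.PerfectClosure
import Mathlib.RingTheory.TensorProduct.Basic

/-!
# Finiteness from the separable closure
-/

universe u

open IntermediateField

noncomputable section

namespace GrothLib.EssEtLoc

/-- A subextension of a separable extension of a finitely generated algebraic extension is finite once
its separable closure is. -/
theorem finiteDimensional_of_separableClosure {F κ L : Type u} [Field F] [Field κ] [Field L]
    [Algebra F κ] [Algebra F L] [Algebra κ L] [IsScalarTower F κ L] [Algebra.IsAlgebraic F L]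
    (T : Finset L) (hL : ∀ l : L, IsSeparable (adjoin F (T : Set L)) l)
    [hfin : FiniteDimensional F (separableClosure F κ)] : FiniteDimensional F κ := by
  classical
  haveI : Algebra.IsAlgebraic F κ :=
    ⟨fun x => (isAlgebraic_algebraMap_iff (algebraMap κ L).injective).mp (Algebra.IsAlgebraic.isAlgebraic _)⟩
  obtain ⟨G, hG⟩ : (⊤ : Submodule F (separableClosure F κ)).FG := Module.Finite.fg_top
  let U : Finset L := T ∪ G.image fun g : separableClosure F κ => algebraMap κ L (g : κ)
  let Λ := adjoin F (U : Set L)
  haveI : FiniteDimensional F Λ :=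
    IntermediateField.finiteDimensional_adjoin fun x _ => (Algebra.IsAlgebraic.isAlgebraic x).isIntegral
  have hsc : ∀ y ∈ separableClosure F κ, algebraMap κ L y ∈ Λ := by
    intro y hy
    refine Submodule.span_induction (p := fun (z : separableClosure F κ) _ => algebraMap κ L (z : κ) ∈ Λ)
      (fun z hz => IntermediateField.subset_adjoin F _ (by simp only [U, Finset.coe_union, Finset.coe_image]; exact Or.inr ⟨z, hz, rfl⟩))
      (by rw [ZeroMemClass.coe_zero, map_zero]; exact zero_mem _)
      (fun z z' _ _ h h' => by rw [AddMemClass.coe_add, map_add]; exact add_mem h h')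
      (fun c z _ h => by
        rw [show ((c • z : separableClosure F κ) : κ) = c • (z : κ) from rfl, Algebra.smul_def, map_mul,
          ← IsScalarTower.algebraMap_apply]
        exact mul_mem (Λ.algebraMap_mem c) h)
      (hG ▸ Submodule.mem_top : (⟨y, hy⟩ : separableClosure F κ) ∈ Submodule.span F (G : Set _))
  have hall : ∀ x : κ, algebraMap κ L x ∈ Λ := by
    intro x
    haveI : ExpChar κ (ringExpChar κ) := inferInstance
    haveI : ExpChar L (ringExpChar κ) := expChar_of_injective_ringHom (algebraMap κ L).injective _
    haveI : ExpChar Λ (ringExpChar κ) := RingHom.expChar Λ.val.toRingHom Λ.val.toRingHom.injective _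
    haveI : ExpChar (separableClosure F κ) (ringExpChar κ) :=
      RingHom.expChar (separableClosure F κ).val.toRingHom (separableClosure F κ).val.toRingHom.injective _
    obtain ⟨n, ⟨y, hy⟩, hyx⟩ := (isPurelyInseparable_iff_pow_mem (separableClosure F κ) (ringExpChar κ)).mp
      inferInstance x
    have hperf : algebraMap κ L x ∈ perfectClosure Λ L := by
      rw [mem_perfectClosure_iff_pow_mem (ringExpChar κ)]
      exact ⟨n, ⟨_, hsc y hy⟩, by rw [← map_pow, ← hyx]; rfl⟩
    have hsep : algebraMap κ L x ∈ separableClosure Λ L := by
      rw [mem_separableClosure_iff]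
      have hle : adjoin F (T : Set L) ≤ Λ := IntermediateField.adjoin.mono _ _ _ (by simp [U])
      letI := (IntermediateField.inclusion hle).toRingHom.toAlgebra
      haveI : IsScalarTower (adjoin F (T : Set L)) Λ L := IsScalarTower.of_algebraMap_eq fun _ => rfl
      exact IsSeparable.tower_top _ (hL _)
    have h : algebraMap κ L x ∈ (⊥ : IntermediateField Λ L) := by
      rw [← separableClosure_inf_perfectClosure]
      exact ⟨hsep, hperf⟩
    obtain ⟨z, hz⟩ := IntermediateField.mem_bot.mp h
    rw [← hz]
    exact z.2
  let f : κ →ₗ[F] Λ :=
    (IsScalarTower.toAlgHom F κ L).toLinearMap.codRestrict Λ.toSubalgebra.toSubmodule fun x => hall x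
  exact FiniteDimensional.of_injective f fun x y h => (algebraMap κ L).injective (congrArg Subtype.val h :)

end GrothLib.EssEtLoc
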