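import Groth.Agent.Lib.EssEtLoc.StrictIndMain
import Groth.Agent.Lib.EssEtLoc.EtaleExtensionNorm
import Groth.Agent.Lib.EssEtLoc.IntermediateTools
import Groth.Agent.Lib.EssEtLoc.SepFinite
import Groth.Agent.Lib.Hensel.CompletionHens

/-!
# Noetherian intermediate rings of a strict henselization
-/

universe u

open IsLocalRing TensorProduct

noncomputable section

namespace GrothLib.EssEtLoc

/-- An element congruent to a subring modulo all powers lies in it. -/
theorem mem_of_forall_sub_mem_pow {R S : Type u} [CommRing R] [IsLocalRing R] [IsNoetherianRing R]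
    [CommRing S] [Algebra R S] (E : Subalgebra R S) [Module.Finite R E] [Module.FaithfullyFlat E S]
    (N : Subalgebra R S) (hNE : N ≤ E) (d : S) (hd : d ∈ E)
    (h : ∀ n : ℕ, ∃ e ∈ N, d - e ∈ (maximalIdeal R ^ n).map (algebraMap R S)) : d ∈ N := by
  let P : Submodule R E := Subalgebra.toSubmodule (N.comap E.val)
  have hq : P.mkQ (⟨d, hd⟩ : E) ∈ (⨅ n : ℕ, maximalIdeal R ^ n • ⊤ : Submodule R (E ⧸ P)) := by
    rw [Submodule.mem_iInf]
    intro n
    obtain ⟨e, he, hde⟩ := h n
    have h1 : (⟨d, hd⟩ - ⟨e, hNE he⟩ : E) ∈ (maximalIdeal R ^ n).map (algebraMap R E) := by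
      rw [← Ideal.comap_map_eq_self_of_faithfullyFlat (B := S) ((maximalIdeal R ^ n).map (algebraMap R E)),
        Ideal.mem_comap, Ideal.map_map, ← IsScalarTower.algebraMap_eq]
      exact hde
    rw [show P.mkQ (⟨d, hd⟩ : E) = P.mkQ (⟨d, hd⟩ - ⟨e, hNE he⟩ : E) from by
      rw [map_sub, show P.mkQ (⟨e, hNE he⟩ : E) = 0 from (Submodule.Quotient.mk_eq_zero _).mpr he, sub_zero]]
    have h2 : (⟨d, hd⟩ - ⟨e, hNE he⟩ : E) ∈ maximalIdeal R ^ n • (⊤ : Submodule R E) := by
      rw [Ideal.smul_top_eq_map]; exact h1
    have h3 := Submodule.mem_map_of_mem (f := P.mkQ) h2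
    rw [Submodule.map_smul'', Submodule.map_top, Submodule.range_mkQ] at h3
    exact h3
  have h0 := Ideal.iInf_pow_smul_eq_bot_of_isLocalRing (M := E ⧸ P) (I := maximalIdeal R)
    (maximalIdeal.isMaximal R).ne_top
  rw [h0, Submodule.mem_bot, Submodule.mkQ_apply, Submodule.Quotient.mk_eq_zero] at hq
  exact hq

variable {A S : Type u} [CommRing A] [HenselianLocalRing A] [IsReduced A] [IsNoetherianRing A] [CommRing S]
  [IsLocalRing S] [Algebra A S] [IsLocalHom (algebraMap A S)]
  [hS : _root_.Hensel.IsStrictHenselization A S]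

/-- The normalization of the base in the total fraction ring of the strict henselization. -/
def baseNorm (A S : Type u) [CommRing A] [CommRing S] [Algebra A S] : Subalgebra A (FractionRing S) where
  carrier := {x | IsIntegral A x ∧ ∃ a ∈ nonZeroDivisors A, ∃ b : A,
    algebraMap A (FractionRing S) a * x = algebraMap A (FractionRing S) b}
  mul_mem' := by
    rintro x y ⟨hx, a, ha, b, h⟩ ⟨hy, a', ha', b', h'⟩
    exact ⟨hx.mul hy, a * a', mul_mem ha ha', b * b', by rw [map_mul, map_mul, ← h, ← h']; ring⟩
  add_mem' := by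
    rintro x y ⟨hx, a, ha, b, h⟩ ⟨hy, a', ha', b', h'⟩
    exact ⟨hx.add hy, a * a', mul_mem ha ha', a' * b + a * b', by
      rw [map_mul, map_add, map_mul, map_mul, ← h, ← h']; ring⟩
  algebraMap_mem' a := ⟨isIntegral_algebraMap, 1, one_mem _, a, by rw [map_one, one_mul]⟩

/-- The normalization of a subalgebra in the total fraction ring of the strict henselization. -/
def subNorm (D : Subalgebra A S) : Subalgebra A (FractionRing S) where
  carrier := {x | IsIntegral D x ∧ ∃ a ∈ nonZeroDivisors A, ∃ d ∈ D,
    algebraMap A (FractionRing S) a * x = algebraMap S (FractionRing S) d}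
  mul_mem' := by
    rintro x y ⟨hx, a, ha, b, hb, h⟩ ⟨hy, a', ha', b', hb', h'⟩
    exact ⟨hx.mul hy, a * a', mul_mem ha ha', b * b', mul_mem hb hb', by
      rw [map_mul, map_mul, ← h, ← h']; ring⟩
  add_mem' := by
    rintro x y ⟨hx, a, ha, b, hb, h⟩ ⟨hy, a', ha', b', hb', h'⟩
    refine ⟨hx.add hy, a * a', mul_mem ha ha', algebraMap A S a' * b + algebraMap A S a * b',
      add_mem (mul_mem (D.algebraMap_mem a') hb) (mul_mem (D.algebraMap_mem a) hb'), ?_⟩
    rw [map_mul, map_add, map_mul, map_mul, ← IsScalarTower.algebraMap_apply,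
      ← IsScalarTower.algebraMap_apply, ← h, ← h']
    ring
  algebraMap_mem' a := by
    refine ⟨?_, 1, one_mem _, algebraMap A S a, D.algebraMap_mem a, ?_⟩
    · rw [IsScalarTower.algebraMap_apply A D (FractionRing S)]
      exact isIntegral_algebraMap
    · rw [map_one, one_mul, ← IsScalarTower.algebraMap_apply]

theorem unramifiedPart_property (D : Subalgebra A S) :
    ∀ u ∈ unramifiedPart D, ∃ W, IsFiniteEtalePiece W ∧ W ≤ unramifiedPart D ∧ u ∈ W := by
  rintro u ⟨W, hW, hWD, huW⟩
  exact ⟨W, hW, fun x hx => ⟨W, hW, hWD, hx⟩, huW⟩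

/-- A Noetherian intermediate ring is finite over its unramified part. -/
theorem exists_piece_sup_of_isNoetherianRing (D : Subalgebra A S) [IsNoetherianRing D] :
    ∃ W₀ : Subalgebra A S, Module.Finite A W₀ ∧ IsFiniteEtalePiece W₀ ∧ D ≤ unramifiedPart D ⊔ W₀ := by
  classical
  obtain ⟨hDl, hDS⟩ := isLocalRing_intermediate D
  haveI := hDl
  haveI := hDS
  obtain ⟨G, hG⟩ : (maximalIdeal D).FG := IsNoetherian.noetherian _
  obtain ⟨W₀, hW₀f, -, hW₀, hGW⟩ := exists_cover_piece (A := A) (G.image fun g : D => (g : S))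
  refine ⟨W₀, hW₀f, hW₀, fun d hd => ?_⟩
  obtain ⟨hUh, hUS, -⟩ := henselianLocalRing_unramifiedPart D
  haveI := hUh
  haveI := hUS
  haveI := isStrictHenselization_unramifiedPart D
  haveI := isNoetherianRing_unramifiedPart D
  obtain ⟨C, _, _, _, φ, hCfin, hCet, -, -, hφ, -, hmC, hsub, -⟩ :=
    exists_galois_cover (unramifiedPart D) S (G.image (fun g : D => (g : S)) ∪ {d})
  haveI := hCfin
  haveI := hCet
  haveI := hφ
  obtain ⟨hloc, hlocS, hEC⟩ := range_of_finite_etale' φ hmC
  haveI := hloc
  haveI := hlocS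
  haveI : Module.Flat (unramifiedPart D) S :=
    GrothLib.Hensel.IsStrictHenselization.flat (R := unramifiedPart D) (S := S)
  haveI := formallyEtale hEC
  haveI := essFiniteType hEC
  have hEr := of_algEquiv hEC (AlgEquiv.ofInjective φ (injective_of_isLocalHom φ))
  haveI := formallyEtale hEr
  haveI := essFiniteType hEr
  haveI : Module.Finite (unramifiedPart D) φ.range :=
    Module.Finite.of_surjective φ.rangeRestrict.toLinearMap φ.rangeRestrict_surjective
  haveI : Module.Flat φ.range S := flat_of_formallyUnramified (A := unramifiedPart D)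
  haveI : Module.FaithfullyFlat φ.range S := Module.FaithfullyFlat.of_flat_of_isLocalHom
  let N : Subalgebra (unramifiedPart D) S :=
    Algebra.adjoin (unramifiedPart D) (G.image fun g : D => (g : S) : Finset S)
  have hNE : N ≤ φ.range := Algebra.adjoin_le fun g hg => hsub (Finset.mem_union_left _ hg)
  have happ : ∀ (n : ℕ) (x : D), ∃ e ∈ N,
      (x : S) - e ∈ (maximalIdeal (unramifiedPart D) ^ n).map (algebraMap (unramifiedPart D) S) := by
    intro n
    induction n with
    | zero => exact fun x => ⟨0, zero_mem _, by rw [pow_zero, Ideal.one_eq_top, Ideal.map_top]; trivial⟩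
    | succ n ih =>
      intro x
      obtain ⟨u, hu, hxu⟩ :=
        exists_sub_mem_unramifiedPart (isIntegral_strictHenselization (A := A)) D (x : S) x.2
      have hm : x - ⟨u, unramifiedPart_le D hu⟩ ∈ maximalIdeal D := fun h => hxu (h.map (algebraMap D S))
      suffices h : ∀ y ∈ maximalIdeal D, ∃ e ∈ N,
          (y : S) - e ∈ (maximalIdeal (unramifiedPart D) ^ (n + 1)).map (algebraMap (unramifiedPart D) S) by
        obtain ⟨e, he, hy⟩ := h _ hm
        exact ⟨u + e, add_mem (N.algebraMap_mem ⟨u, hu⟩) he, by rw [← sub_sub]; exact hy⟩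
      intro y hy
      rw [← hG] at hy
      refine Submodule.span_induction (fun g hg => ?_) ⟨0, zero_mem _, by rw [ZeroMemClass.coe_zero, sub_zero]; exact zero_mem _⟩
        (fun y y' _ _ h h' => ?_) (fun c g hg h => ?_) hy
      · exact ⟨(g : S), Algebra.subset_adjoin (Finset.mem_image_of_mem _ hg), by rw [sub_self]; exact zero_mem _⟩
      · obtain ⟨e, he, h⟩ := h
        obtain ⟨e', he', h'⟩ := h'
        exact ⟨e + e', add_mem he he', by rw [AddMemClass.coe_add, add_sub_add_comm]; exact add_mem h h'⟩
      · obtain ⟨e, he, hge⟩ := h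
        obtain ⟨c', hc', hcc⟩ := ih c
        refine ⟨c' * e, mul_mem hc' he, ?_⟩
        rw [smul_eq_mul, MulMemClass.coe_mul,
          show (c : S) * (g : S) - c' * e = c' * ((g : S) - e) + ((c : S) - c') * (g : S) by ring]
        refine add_mem (Ideal.mul_mem_left _ _ hge) ?_
        rw [pow_succ, Ideal.map_mul]
        refine Ideal.mul_mem_mul hcc ?_
        rw [GrothLib.Hensel.IsStrictHenselization.map_maximalIdeal (R := unramifiedPart D) (S := S)]
        intro hu'
        have hg' : g ∈ maximalIdeal D := hG ▸ hg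
        exact hg' (IsLocalHom.map_nonunit (f := algebraMap D S) g hu')
  have hd' : d ∈ N := mem_of_forall_sub_mem_pow φ.range N hNE d
    (hsub (Finset.mem_union_right _ (Finset.mem_singleton_self d))) fun n => happ n ⟨d, hd⟩
  refine Algebra.adjoin_induction (p := fun x _ => x ∈ unramifiedPart D ⊔ W₀) (fun x hx => ?_) (fun u => ?_)
    (fun _ _ _ _ h h' => add_mem h h') (fun _ _ _ _ h h' => mul_mem h h') hd'
  · exact (le_sup_right : W₀ ≤ _) (hGW hx)
  · exact (le_sup_left : unramifiedPart D ≤ _) u.2

set_option maxHeartbeats 1500000 in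
set_option synthInstance.maxHeartbeats 400000 in
-- quotients of normalizations have slow instance search
/-- The normalization of a Noetherian intermediate ring has finite residue extensions. -/
theorem finite_quotient_of_isNoetherianRing (hN : CAlg.IsNagata A) (D : Subalgebra A S) [IsNoetherianRing D]
    (M : Ideal (integralClosure D (FractionRing D))) :
    Module.Finite D (integralClosure D (FractionRing D) ⧸ M) := by
  classical
  obtain ⟨W₀, hW₀f, hW₀, hDP⟩ := exists_piece_sup_of_isNoetherianRing D
  haveI := hW₀f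
  haveI := isNoetherianRing_unramifiedPart D
  have hA' : ∀ x : FractionRing S, x ∈ baseNorm A S ↔ (IsIntegral A x ∧ ∃ a ∈ nonZeroDivisors A, ∃ b : A,
      algebraMap A (FractionRing S) a * x = algebraMap A (FractionRing S) b) := fun _ => Iff.rfl
  haveI := finite_normalization_base hA' hN
  obtain ⟨GA, hGA⟩ : (⊤ : Submodule A (baseNorm A S)).FG := Module.Finite.fg_top
  obtain ⟨GW, hGW⟩ : (⊤ : Submodule A W₀).FG := Module.Finite.fg_top
  let s : Finset (FractionRing S) := GA.image (fun g : baseNorm A S => (g : FractionRing S)) ∪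
    GW.image fun g : W₀ => algebraMap S (FractionRing S) (g : S)
  let R : Subalgebra (unramifiedPart D) (FractionRing S) :=
    Algebra.adjoin (unramifiedPart D) (s : Set (FractionRing S))
  have hint : ∀ x ∈ (s : Set (FractionRing S)), IsIntegral (unramifiedPart D) x := by
    intro x hx
    simp only [s, Finset.coe_union, Finset.coe_image] at hx
    rcases hx with ⟨g, -, rfl⟩ | ⟨g, -, rfl⟩
    · exact g.2.1.tower_top
    · exact ((isIntegral_strictHenselization (A := A) (g : S)).map
        (IsScalarTower.toAlgHom A S (FractionRing S))).tower_top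
  haveI : Module.Finite (unramifiedPart D) R := Module.Finite.iff_fg.mpr (fg_adjoin_of_finite s.finite_toSet hint)
  haveI : IsNoetherian (unramifiedPart D) R := isNoetherian_of_isNoetherianRing_of_finite _ _
  have hA'R : ∀ a ∈ baseNorm A S, a ∈ R := fun a ha => by
    refine Submodule.span_induction (p := fun (z : baseNorm A S) _ => (z : FractionRing S) ∈ R)
      (fun z hz => Algebra.subset_adjoin (by simp only [s, Finset.coe_union, Finset.coe_image]; exact Or.inl ⟨z, hz, rfl⟩))
      (zero_mem _) (fun _ _ _ _ h h' => add_mem h h') (fun c z _ h => ?_)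
      (hGA ▸ Submodule.mem_top : (⟨a, ha⟩ : baseNorm A S) ∈ Submodule.span A (GA : Set (baseNorm A S)))
    rw [show ((c • z : baseNorm A S) : FractionRing S) = algebraMap (unramifiedPart D) (FractionRing S)
      (algebraMap A (unramifiedPart D) c) * (z : FractionRing S) from Algebra.smul_def c _]
    exact mul_mem (R.algebraMap_mem _) h
  have hWR : ∀ w ∈ unramifiedPart D ⊔ W₀, algebraMap S (FractionRing S) w ∈ R := by
    intro w hw
    have hle : unramifiedPart D ⊔ W₀ ≤
        (R.restrictScalars A).comap (IsScalarTower.toAlgHom A S (FractionRing S)) :=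
      sup_le (fun u hu => R.algebraMap_mem ⟨u, hu⟩) fun c hc => by
        show algebraMap S (FractionRing S) c ∈ R
        refine Submodule.span_induction (p := fun (z : W₀) _ => algebraMap S (FractionRing S) (z : S) ∈ R)
          (fun z hz => Algebra.subset_adjoin (by simp only [s, Finset.coe_union, Finset.coe_image]; exact Or.inr ⟨z, hz, rfl⟩))
          (by rw [ZeroMemClass.coe_zero, map_zero]; exact zero_mem _)
          (fun z z' _ _ h h' => by rw [AddMemClass.coe_add, map_add]; exact add_mem h h')
          (fun a z _ h => ?_)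
          (hGW ▸ Submodule.mem_top : (⟨c, hc⟩ : W₀) ∈ Submodule.span A (GW : Set W₀))
        rw [show ((a • z : W₀) : S) = algebraMap A S a * (z : S) from Algebra.smul_def a _, map_mul]
        refine mul_mem ?_ h
        rw [← IsScalarTower.algebraMap_apply, IsScalarTower.algebraMap_apply A (unramifiedPart D) (FractionRing S)]
        exact R.algebraMap_mem _
    exact hle hw
  have hmem : ∀ x : integralClosure D (FractionRing D), fracToStrict D (x : FractionRing D) ∈ R := by
    intro x
    obtain ⟨e, he⟩ := exists_equiv_normalization (D' := subNorm D) D (fun _ => Iff.rfl)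
    obtain ⟨⟨p, hp, hpx⟩, a, ha, d, hd, had⟩ := (e x).2
    rw [← he x]
    let t : Finset S := {d} ∪ (Finset.range (p.natDegree + 1)).image fun i => ((p.coeff i : D) : S)
    have hsub : ∀ z ∈ t, ∃ W, IsFiniteEtalePiece W ∧ W ≤ unramifiedPart D ⊔ W₀ ∧ z ∈ W := fun z hz =>
      exists_piece_le_sup (unramifiedPart D) W₀ hW₀ (unramifiedPart_property D) z (hDP (by
        simp only [t, Finset.mem_union, Finset.mem_singleton, Finset.mem_image] at hz
        rcases hz with rfl | ⟨i, -, rfl⟩
        · exact hd
        · exact SetLike.coe_mem _))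
    obtain ⟨W, hW, hWle, htW⟩ : ∃ W, IsFiniteEtalePiece W ∧ W ≤ unramifiedPart D ⊔ W₀ ∧ (t : Set S) ⊆ W := by
      clear_value t
      induction t using Finset.induction_on with
      | empty => exact ⟨W₀, hW₀, le_sup_right, by simp⟩
      | insert z t hz ih =>
        obtain ⟨W, hW, hWle, htW⟩ := ih fun y hy => hsub y (Finset.mem_insert_of_mem hy)
        obtain ⟨W', hW', hWle', hzW⟩ := hsub z (Finset.mem_insert_self _ _)
        refine ⟨W ⊔ W', isFiniteEtalePiece_sup hW hW', sup_le hWle hWle', ?_⟩
        rw [Finset.coe_insert, Set.insert_subset_iff]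
        exact ⟨(le_sup_right : W' ≤ W ⊔ W') hzW, htW.trans (le_sup_left : W ≤ W ⊔ W')⟩
    haveI := hW.1
    obtain ⟨hWh, -, -⟩ := finite_subalgebra_henselian W
    haveI := hWh
    obtain ⟨ρ, hρ, -, hρinj⟩ := exists_fracMap W hW.2
    obtain ⟨v, hv⟩ := (isUnit_algebraMap_fractionRing hW.2 ha).exists_right_inv
    obtain ⟨y, hy⟩ : ∃ y, ρ y = ((e x : subNorm D) : FractionRing S) := by
      refine ⟨algebraMap W (FractionRing W) ⟨d, htW (by simp [t])⟩ * v, ?_⟩
      rw [map_mul, hρ, ← had, mul_right_comm, ← ρ.commutes, ← map_mul, hv, map_one, one_mul]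
    have hyint : IsIntegral W y := by
      have hcoeff : ∀ i, ((p.coeff i : D) : S) ∈ W := fun i => by
        by_cases hi : i < p.natDegree + 1
        · exact htW (Finset.mem_union_right _ (Finset.mem_image_of_mem _ (Finset.mem_range.mpr hi)))
        · rw [Polynomial.coeff_eq_zero_of_natDegree_lt (by omega)]
          exact zero_mem _
      obtain ⟨q, hqp, -, hqm⟩ := Polynomial.lifts_and_degree_eq_and_monic
        ((Polynomial.lifts_iff_coeff_lifts _).mpr fun i =>
          ⟨⟨_, hcoeff i⟩, (Polynomial.coeff_map D.val.toRingHom i).symm⟩ :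
          p.map D.val.toRingHom ∈ Polynomial.lifts W.val.toRingHom) (hp.map _)
      refine ⟨q, hqm, hρinj ?_⟩
      show ρ.toRingHom _ = ρ _
      rw [map_zero, Polynomial.hom_eval₂, show ρ.toRingHom.comp (algebraMap W (FractionRing W)) =
        (algebraMap S (FractionRing S)).comp W.val.toRingHom from RingHom.ext hρ,
        ← Polynomial.eval₂_map, hqp, Polynomial.eval₂_map]
      rw [← hy] at hpx
      exact hpx
    obtain ⟨z, hz⟩ := (normMul_bijective (minimalPrimes.finite_of_isNoetherianRing A) hW.2).2 ⟨y, hyint⟩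
    rw [← hy, show y = (normMul z : FractionRing W) from (congrArg Subtype.val hz).symm]
    clear hz
    induction z using TensorProduct.induction_on with
    | zero => rw [map_zero, ZeroMemClass.coe_zero, map_zero]; exact zero_mem _
    | tmul b c =>
      rw [coe_normMul, map_mul, hρ]
      exact mul_mem (hA'R _ ((mem_range_normBase hW.2 ρ hρinj _).mpr ⟨b, b.2, rfl⟩)) (hWR _ (hWle c.2))
    | add z z' h h' => rw [map_add, Subalgebra.coe_add, map_add]; exact add_mem h h'
  -- finiteness
  letI : Algebra (unramifiedPart D) D := (Subalgebra.inclusion (unramifiedPart_le D)).toRingHom.toAlgebra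
  haveI : IsScalarTower (unramifiedPart D) D (FractionRing S) := IsScalarTower.of_algebraMap_eq fun _ => rfl
  let f : integralClosure D (FractionRing D) →ₗ[unramifiedPart D] R :=
    ((((fracToStrict D).comp (integralClosure D (FractionRing D)).val).restrictScalars
      (unramifiedPart D)).toLinearMap).codRestrict (Subalgebra.toSubmodule R) hmem
  haveI : Module.Finite (unramifiedPart D) (integralClosure D (FractionRing D)) :=
    Module.Finite.of_injective f fun x y h =>
      Subtype.ext (fracToStrict_injective D (congrArg Subtype.val h :))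
  haveI : Module.Finite D (integralClosure D (FractionRing D)) :=
    Module.Finite.of_restrictScalars_finite (unramifiedPart D) _ _
  exact Module.Finite.of_surjective (Ideal.Quotient.mkₐ D M).toLinearMap Ideal.Quotient.mk_surjective

set_option maxHeartbeats 1500000 in
set_option synthInstance.maxHeartbeats 400000 in
-- quotients of normalizations have slow instance search
/-- Finite residue extensions in the normalization make an intermediate ring Noetherian. -/
theorem isNoetherianRing_of_finite_quotient (hN : CAlg.IsNagata A) (D : Subalgebra A S)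
    (hres : ∀ M : Ideal (integralClosure D (FractionRing D)), M.IsMaximal →
      Module.Finite D (integralClosure D (FractionRing D) ⧸ M))
    (hmaxfin : {M : Ideal (integralClosure D (FractionRing D)) | M.IsMaximal}.Finite) :
    IsNoetherianRing D := by
  classical
  obtain ⟨hDl, hDS⟩ := isLocalRing_intermediate D
  haveI := hDl
  haveI := hDS
  have hA' : ∀ x : FractionRing S, x ∈ baseNorm A S ↔ (IsIntegral A x ∧ ∃ a ∈ nonZeroDivisors A, ∃ b : A,
      algebraMap A (FractionRing S) a * x = algebraMap A (FractionRing S) b) := fun _ => Iff.rfl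
  have hD' : ∀ x : FractionRing S, x ∈ subNorm D ↔ (IsIntegral D x ∧ ∃ a ∈ nonZeroDivisors A, ∃ d ∈ D,
      algebraMap A (FractionRing S) a * x = algebraMap S (FractionRing S) d) := fun _ => Iff.rfl
  obtain ⟨e, he⟩ := exists_equiv_normalization D hD'
  let V := integralClosure D (FractionRing D)
  haveI := hmaxfin.to_subtype
  let I : {M : Ideal V | M.IsMaximal} → Ideal V := Subtype.val
  have hcop : Pairwise (Function.onFun IsCoprime I) := fun i j hij => by
    rw [Function.onFun, Ideal.isCoprime_iff_sup_eq]
    haveI : (I i).IsMaximal := i.2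
    haveI : (I j).IsMaximal := j.2
    exact Ideal.IsMaximal.coprime_of_ne inferInstance inferInstance fun h => hij (Subtype.ext h)
  haveI : Fintype {M : Ideal V | M.IsMaximal} := Fintype.ofFinite _
  haveI : ∀ i, Module.Finite D (V ⧸ I i) := fun i => hres _ i.2
  haveI : Module.Finite D (∀ i, V ⧸ I i) := Module.Finite.pi
  obtain ⟨Gq, hGq⟩ : (⊤ : Submodule D (∀ i, V ⧸ I i)).FG := Module.Finite.fg_top
  let F : V →ₐ[D] ∀ i, V ⧸ I i := AlgHom.pi fun i => Ideal.Quotient.mkₐ D (I i)
  have hF : Function.Surjective F := fun q => by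
    obtain ⟨y, hy⟩ := (Ideal.quotientInfRingEquivPiQuotient I hcop).surjective q
    obtain ⟨v, rfl⟩ := Ideal.Quotient.mk_surjective y
    exact ⟨v, hy⟩
  choose lift hlift using fun q => hF q
  -- finitely many elements of the strict henselization suffice
  have hintS : ∀ v : V, IsIntegral S (fracToStrict D (v : FractionRing D)) := fun v =>
    (IsIntegral.map (fracToStrict D) v.2).tower_top
  choose tq htq using fun q => exists_productMap_eq hA' _ (hintS (lift q))
  obtain ⟨s, hs⟩ : ∃ s : Finset S, ∀ W : Subalgebra A S, (s : Set S) ⊆ W → ∀ q ∈ Gq,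
      tq q ∈ (Algebra.TensorProduct.map (AlgHom.id A (baseNorm A S)) W.val).range := by
    have h1 : ∀ t : baseNorm A S ⊗[A] S, ∃ s : Finset S, ∀ W : Subalgebra A S, (s : Set S) ⊆ W →
        t ∈ (Algebra.TensorProduct.map (AlgHom.id A (baseNorm A S)) W.val).range := by
      intro t
      induction t using TensorProduct.induction_on with
      | zero => exact ⟨∅, fun W _ => zero_mem _⟩
      | tmul a x => exact ⟨{x}, fun W hW => ⟨a ⊗ₜ ⟨x, hW (by simp)⟩, rfl⟩⟩
      | add t t' h h' =>
        obtain ⟨s, hs⟩ := h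
        obtain ⟨s', hs'⟩ := h'
        exact ⟨s ∪ s', fun W hW => add_mem
          (hs W (fun x hx => hW (by simp [Finset.mem_coe.mp hx])))
          (hs' W (fun x hx => hW (by simp [Finset.mem_coe.mp hx])))⟩
    choose sq hsq using h1
    exact ⟨Gq.biUnion fun q => sq (tq q), fun W hW q hq => hsq _ W fun x hx => hW
      (Finset.mem_coe.mpr (Finset.mem_biUnion.mpr ⟨q, hq, hx⟩))⟩
  obtain ⟨W₀, hW₀f, hW₀et, hW₀, hsW⟩ := exists_cover_piece (A := A) s
  haveI := hW₀et
  haveI := hW₀f
  let P : Subalgebra A S := D ⊔ W₀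
  obtain ⟨hPl, hPS⟩ := isLocalRing_intermediate P
  haveI := hPS
  -- residues of the normalization
  have hV : ∀ x ∈ (subNorm D : Set (FractionRing S)), IsIntegral S x ∧ ∃ t : baseNorm A S ⊗[A] P,
      StrictCongr (baseNorm A S) x (Algebra.TensorProduct.map (AlgHom.id A (baseNorm A S)) P.val t) := by
    intro x hx
    refine ⟨isIntegral_coe D hD' ⟨x, hx⟩, ?_⟩
    obtain ⟨v, hv⟩ := e.surjective ⟨x, hx⟩
    have hxv : x = fracToStrict D (v : FractionRing D) := by rw [← he, hv]
    suffices h : ∀ q : ∀ i, V ⧸ I i, ∃ t : baseNorm A S ⊗[A] P, ∀ v, F v = q →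
        StrictCongr (baseNorm A S) (fracToStrict D (v : FractionRing D))
          (Algebra.TensorProduct.map (AlgHom.id A (baseNorm A S)) P.val t) by
      obtain ⟨t, ht⟩ := h (F v)
      exact ⟨t, hxv ▸ ht v rfl⟩
    intro q
    have hq : ∃ (v₀ : V) (t : baseNorm A S ⊗[A] P), F v₀ = q ∧
        strictMul (baseNorm A S) (Algebra.TensorProduct.map (AlgHom.id A (baseNorm A S)) P.val t) =
          fracToStrict D (v₀ : FractionRing D) := by
      refine Submodule.span_induction (p := fun q _ => ∃ (v₀ : V) (t : baseNorm A S ⊗[A] P), F v₀ = q ∧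
        strictMul (baseNorm A S) (Algebra.TensorProduct.map (AlgHom.id A (baseNorm A S)) P.val t) =
          fracToStrict D (v₀ : FractionRing D)) (fun q hq => ?_) ⟨0, 0, map_zero _, by simp⟩
        (fun q q' _ _ h h' => ?_) (fun c q _ h => ?_) (hGq ▸ Submodule.mem_top : q ∈ Submodule.span D (Gq : Set _))
      · obtain ⟨t, ht⟩ := hs P (hsW.trans (le_sup_right : W₀ ≤ P)) q hq
        exact ⟨lift q, t, hlift q, (congrArg (strictMul (baseNorm A S)) ht).trans (htq q)⟩
      · obtain ⟨v₀, t, h1, h2⟩ := h
        obtain ⟨v₀', t', h1', h2'⟩ := h'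
        exact ⟨v₀ + v₀', t + t', by rw [map_add, h1, h1'],
          by rw [map_add, map_add, h2, h2', Subalgebra.coe_add, map_add]⟩
      · obtain ⟨v₀, t, h1, h2⟩ := h
        refine ⟨c • v₀, ((1 : baseNorm A S) ⊗ₜ[A] (⟨(c : S), (le_sup_left : D ≤ P) c.2⟩ : P)) * t,
          by rw [map_smul, h1], ?_⟩
        rw [map_mul, map_mul, h2, Algebra.TensorProduct.map_tmul, Algebra.TensorProduct.productMap_apply_tmul,
          map_one, map_one, one_mul, show ((c • v₀ : V) : FractionRing D) = c • (v₀ : FractionRing D) from rfl,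
          map_smul, Algebra.smul_def]
        rfl
    obtain ⟨v₀, t, hv₀, ht⟩ := hq
    refine ⟨t, fun v hv M hM w hw => ?_⟩
    haveI := hM
    let d' : subNorm D := e (v - v₀)
    have h0 : ∀ N : Ideal V, N.IsMaximal → v - v₀ ∈ N := fun N hN' => by
      have h1 := congrFun (hv.trans hv₀.symm) ⟨N, hN'⟩
      exact Ideal.Quotient.eq.mp h1
    have hmax := isMaximal_comap_toStrictNorm D
      ((IsScalarTower.toAlgHom A S (FractionRing S)).comp D.val |>.codRestrict (subNorm D) fun d =>
        ⟨(isIntegral_algebraMap : IsIntegral D (algebraMap D (FractionRing S) d)), 1, one_mem _, d, d.2,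
          by rw [map_one, one_mul]; rfl⟩) hD' (fun _ => rfl) M
    haveI := hmax
    have h2 := h0 _ (Ideal.comap_isMaximal_of_surjective e.toRingHom e.surjective
      (K := M.comap (toStrictNorm (isIntegral_coe D hD'))))
    rw [show w = toStrictNorm (isIntegral_coe D hD') (e (v - v₀)) from Subtype.ext (by
      show (w : FractionRing S) = (e (v - v₀) : FractionRing S)
      rw [hw, he, AddSubgroupClass.coe_sub, map_sub, ht])]
    exact h2
  have hWmem : ∀ p ∈ P, IsIntegral S (algebraMap S (FractionRing S) p) ∧ ∃ t : baseNorm A S ⊗[A] P,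
      StrictCongr (baseNorm A S) (algebraMap S (FractionRing S) p)
        (Algebra.TensorProduct.map (AlgHom.id A (baseNorm A S)) P.val t) := fun p hp =>
    ⟨isIntegral_algebraMap, 1 ⊗ₜ ⟨p, hp⟩, fun M hM w hw => by
      have h0 : w = 0 := Subtype.ext (hw.trans (by
        rw [Algebra.TensorProduct.map_tmul, Algebra.TensorProduct.productMap_apply_tmul, map_one, map_one,
          one_mul]
        exact sub_self _))
      rw [h0]
      exact zero_mem _⟩
  -- unramified
  haveI : IsLocalHom (algebraMap A A) := inferInstance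
  haveI := GrothLib.Hensel.isHenselization_self A
  have hPU : P ≤ unramifiedPart P := by
    intro w hw
    obtain ⟨C, hCf, -, hC, hwC⟩ := exists_cover_piece (A := A) {w}
    haveI := hCf
    obtain ⟨hCh, hCS, -⟩ := finite_subalgebra_henselian C
    haveI := hCh
    haveI : IsNoetherian A C := isNoetherian_of_isNoetherianRing_of_finite _ _
    haveI : Module.Finite A (C ⊓ P : Subalgebra A S) := Module.Finite.of_injective
      (Subalgebra.inclusion (inf_le_left : C ⊓ P ≤ C)).toLinearMap (Subalgebra.inclusion_injective inf_le_left)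
    obtain ⟨hWh, hWS, -⟩ := finite_subalgebra_henselian (C ⊓ P)
    haveI := hWh
    haveI := hWS
    have hW := isEssentiallyEtale_stage hA' A hN (isIntegral_strictHenselization (A := A)) C hC.2
      (C ⊓ P) inf_le_left P (fun x p hp hcoeff hpx a ha z hz haz => by
        refine (exists_congr_adjoin hA' P _ ?_ x (mem_adjoin_sup D hD' W₀ x p hp
          (fun i => (hcoeff i).2) hpx ha z hz.2 haz)).2
        rintro y (hy | ⟨q, hq, rfl⟩)
        · exact hV y hy
        · exact hWmem q hq)
      (fun c hc d hd hcd => exists_inter_lift C P (fun v _ => isIntegral_strictHenselization v) c hc d hd hcd)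
    exact ⟨C ⊓ P, ⟨inferInstance, hW⟩, inf_le_right, ⟨hwC (by simp), hw⟩⟩
  have hPle : P ≤ unramifiedPart D ⊔ W₀ := by
    intro w hw
    obtain ⟨W, hW, hWP, hwW⟩ := hPU hw
    haveI := hW.1
    refine piece_le_of_residue hW (fun c hc => ?_) hwW
    have hc' : ∃ r ∈ unramifiedPart D ⊔ W₀, c - r ∈ maximalIdeal S := by
      have hcP : c ∈ Algebra.adjoin A ((D : Set S) ∪ W₀) := hWP hc
      refine Algebra.adjoin_induction (fun y hy => ?_)
        (fun a => ⟨algebraMap A S a, Subalgebra.algebraMap_mem _ a, by rw [sub_self]; exact zero_mem _⟩)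
        (fun y y' _ _ h h' => ?_) (fun y y' _ _ h h' => ?_) hcP
      · rcases hy with hy | hy
        · obtain ⟨u, hu, hyu⟩ :=
            exists_sub_mem_unramifiedPart (isIntegral_strictHenselization (A := A)) D y hy
          exact ⟨u, (le_sup_left : unramifiedPart D ≤ _) hu, hyu⟩
        · exact ⟨y, (le_sup_right : W₀ ≤ _) hy, by rw [sub_self]; exact zero_mem _⟩
      · obtain ⟨r, hr, h⟩ := h
        obtain ⟨r', hr', h'⟩ := h'
        exact ⟨r + r', add_mem hr hr', by rw [add_sub_add_comm]; exact add_mem h h'⟩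
      · obtain ⟨r, hr, h⟩ := h
        obtain ⟨r', hr', h'⟩ := h'
        exact ⟨r * r', mul_mem hr hr', by
          rw [show y * y' - r * r' = (y - r) * y' + r * (y' - r') by ring]
          exact add_mem (Ideal.mul_mem_right _ _ h) (Ideal.mul_mem_left _ _ h')⟩
    obtain ⟨r, hr, hcr⟩ := hc'
    exact exists_inter_lift W (unramifiedPart D ⊔ W₀) (fun v _ => isIntegral_strictHenselization v) c hc r hr hcr
  -- Noetherian
  haveI := isNoetherianRing_unramifiedPart D
  obtain ⟨GW, hGW⟩ : (⊤ : Submodule A W₀).FG := Module.Finite.fg_top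
  let R : Subalgebra (unramifiedPart D) S :=
    Algebra.adjoin (unramifiedPart D) ((fun g : W₀ => (g : S)) '' (GW : Set W₀))
  haveI : Module.Finite (unramifiedPart D) R := Module.Finite.iff_fg.mpr
    (fg_adjoin_of_finite (GW.finite_toSet.image _) fun x _ =>
      (isIntegral_strictHenselization (A := A) x).tower_top)
  haveI : IsNoetherian (unramifiedPart D) R := isNoetherian_of_isNoetherianRing_of_finite _ _
  have hDR : ∀ d ∈ D, d ∈ R := fun d hd => by
    have hle : unramifiedPart D ⊔ W₀ ≤ R.restrictScalars A :=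
      sup_le (fun u hu => R.algebraMap_mem ⟨u, hu⟩) fun c hc => by
        show c ∈ R
        refine Submodule.span_induction (p := fun (z : W₀) _ => (z : S) ∈ R)
          (fun z hz => Algebra.subset_adjoin ⟨z, hz, rfl⟩) (zero_mem _) (fun _ _ _ _ h h' => add_mem h h')
          (fun a z _ h => ?_) (hGW ▸ Submodule.mem_top : (⟨c, hc⟩ : W₀) ∈ Submodule.span A (GW : Set W₀))
        rw [show ((a • z : W₀) : S) = algebraMap (unramifiedPart D) S (algebraMap A (unramifiedPart D) a) *
          (z : S) from Algebra.smul_def a _]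
        exact mul_mem (R.algebraMap_mem _) h
    exact hle (hPle ((le_sup_left : D ≤ P) hd))
  letI : Algebra (unramifiedPart D) D := (Subalgebra.inclusion (unramifiedPart_le D)).toRingHom.toAlgebra
  haveI : IsScalarTower (unramifiedPart D) D S := IsScalarTower.of_algebraMap_eq fun _ => rfl
  let f : D →ₗ[unramifiedPart D] R :=
    ((IsScalarTower.toAlgHom (unramifiedPart D) D S).toLinearMap).codRestrict (Subalgebra.toSubmodule R)
      fun d => hDR d d.2
  haveI : IsNoetherian (unramifiedPart D) D := isNoetherian_of_injective f fun x y h =>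
    Subtype.ext (congrArg Subtype.val h :)
  exact isNoetherian_of_tower (unramifiedPart D) inferInstance

end GrothLib.EssEtLoc
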