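import Groth.Agent.Lib.EssEtLoc.Frac
import Mathlib.RingTheory.Smooth.IntegralClosure
import Mathlib.RingTheory.Localization.Integral
import Mathlib.RingTheory.Polynomial.ScaleRoots
import Mathlib.RingTheory.Flat.Basic

/-!
# Normalization commutes with essentially étale base change
-/

universe u

open IsLocalRing TensorProduct Polynomial

noncomputable section

namespace GrothLib.EssEtLoc

variable {A : Type u} [CommRing A] [IsLocalRing A] [IsReduced A]

/-- The normalization of an essentially étale algebra is generated by that of the base. -/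
theorem mem_adjoin_of_isIntegral {E : Type u} [CommRing E] [Algebra A E]
    (hmin : (minimalPrimes A).Finite) (hE : EGA4loc.IsEssentiallyEtale A E) (x : FractionRing E)
    (hx : IsIntegral E x) :
    x ∈ Algebra.adjoin E {y : FractionRing E | IsIntegral A y ∧
      ∃ a ∈ nonZeroDivisors A, ∃ b : A,
        algebraMap A (FractionRing E) a * y = algebraMap A (FractionRing E) b} := by
  obtain ⟨hlocM, i1, i2, i3⟩ := fractionRing_structure hmin hE
  letI := i1
  haveI := i2
  obtain ⟨N, _, _, q, _, _, -, ⟨eq⟩⟩ := hE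
  letI : Algebra N E :=
    (eq.symm.toAlgHom.toRingHom.comp (algebraMap N (Localization.AtPrime q))).toAlgebra
  haveI : IsScalarTower A N E := IsScalarTower.of_algebraMap_eq fun a => by
    show _ = eq.symm (algebraMap N _ (algebraMap A N a))
    rw [← IsScalarTower.algebraMap_apply, AlgEquiv.commutes]
  haveI : IsLocalization q.primeCompl E :=
    IsLocalization.isLocalization_of_algEquiv q.primeCompl
      ({ eq.symm.toRingEquiv with commutes' := fun _ => rfl } : Localization.AtPrime q ≃ₐ[N] E)
  haveI : IsScalarTower N E (FractionRing E) := inferInstance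
  haveI : IsScalarTower A N (FractionRing E) := IsScalarTower.of_algebraMap_eq fun a => by
    rw [IsScalarTower.algebraMap_apply N E (FractionRing E), ← IsScalarTower.algebraMap_apply A N E,
      ← IsScalarTower.algebraMap_apply]
  let K := FractionRing A
  let Φ : N ⊗[A] K →ₐ[N] FractionRing E :=
    Algebra.TensorProduct.lift (Algebra.ofId N (FractionRing E))
      (IsScalarTower.toAlgHom A K (FractionRing E)) fun _ _ => Commute.all _ _
  have hΦ : ∀ n k, Φ (n ⊗ₜ k) = algebraMap N (FractionRing E) n * algebraMap K (FractionRing E) k :=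
    fun n k => Algebra.TensorProduct.lift_tmul _ _ _ _ _
  have hrep : ∀ z : N ⊗[A] K, ∃ a ∈ nonZeroDivisors A, ∃ n : N,
      z * ((1 : N) ⊗ₜ algebraMap A K a) = n ⊗ₜ 1 := by
    intro z
    induction z using TensorProduct.induction_on with
    | zero => exact ⟨1, one_mem _, 0, by simp⟩
    | tmul n k =>
      obtain ⟨⟨b, a⟩, h⟩ := IsLocalization.surj (nonZeroDivisors A) k
      refine ⟨a, a.2, b • n, ?_⟩
      rw [Algebra.TensorProduct.tmul_mul_tmul, mul_one, h, Algebra.algebraMap_eq_smul_one,
        TensorProduct.smul_tmul]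
    | add z z' h h' =>
      obtain ⟨a, ha, n, hn⟩ := h
      obtain ⟨a', ha', n', hn'⟩ := h'
      refine ⟨a * a', mul_mem ha ha', a' • n + a • n', ?_⟩
      have hsm : ∀ (c : A) (m : N), (c • m) ⊗ₜ[A] (1 : K) = ((1 : N) ⊗ₜ algebraMap A K c) * (m ⊗ₜ 1) := by
        intro c m
        rw [Algebra.TensorProduct.tmul_mul_tmul, one_mul, mul_one, Algebra.algebraMap_eq_smul_one,
          TensorProduct.smul_tmul]
      have hmul : (1 : N) ⊗ₜ[A] algebraMap A K (a * a') =
          ((1 : N) ⊗ₜ algebraMap A K a) * ((1 : N) ⊗ₜ algebraMap A K a') := by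
        rw [Algebra.TensorProduct.tmul_mul_tmul, one_mul, map_mul]
      rw [TensorProduct.add_tmul, hsm, hsm, ← hn, ← hn', hmul]
      ring
  have hker : ∀ z, Φ z = 0 → ∃ t ∉ q, (t ⊗ₜ (1 : K)) * z = 0 := by
    intro z hz
    obtain ⟨a, ha, n, hn⟩ := hrep z
    have h0 : algebraMap N (FractionRing E) n = 0 := by
      have := congrArg Φ hn
      rw [map_mul, hz, zero_mul, hΦ, map_one, mul_one] at this
      exact this.symm
    have h1 : algebraMap N E n = 0 := IsFractionRing.injective E (FractionRing E) (by
      rw [map_zero, ← IsScalarTower.algebraMap_apply]; exact h0)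
    obtain ⟨⟨t, ht⟩, h2⟩ := (IsLocalization.map_eq_zero_iff q.primeCompl E n).mp h1
    refine ⟨t, ht, ?_⟩
    have hu : IsUnit ((1 : N) ⊗ₜ[A] algebraMap A K a) :=
      (IsLocalization.map_units K (⟨a, ha⟩ : nonZeroDivisors A)).map
        (Algebra.TensorProduct.includeRight : K →ₐ[A] N ⊗[A] K)
    refine hu.mul_left_eq_zero.mp ?_
    rw [mul_assoc, hn, Algebra.TensorProduct.tmul_mul_tmul, h2, one_mul, TensorProduct.zero_tmul]
  -- clear denominators
  obtain ⟨⟨m, hm⟩, hmx⟩ := hx.exists_multiple_integral_of_isLocalization q.primeCompl x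
  obtain ⟨⟨e, mA⟩, hxa⟩ := IsLocalization.surj ((nonZeroDivisors A).map (algebraMap A E)) x
  obtain ⟨a, ha, hma⟩ := mA.2
  obtain ⟨⟨n, u, hu⟩, hn⟩ := IsLocalization.surj q.primeCompl e
  have hau : IsUnit (algebraMap A K a) := IsLocalization.map_units K (⟨a, ha⟩ : nonZeroDivisors A)
  obtain ⟨ai, hai⟩ := hau.exists_right_inv
  let ξ : N ⊗[A] K := (m * n) ⊗ₜ ai
  have hξ : Φ ξ = algebraMap N (FractionRing E) (m * u) * x := by
    have h1 : x * algebraMap A (FractionRing E) a * algebraMap N (FractionRing E) u =
        algebraMap N (FractionRing E) n := by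
      rw [IsScalarTower.algebraMap_apply A E (FractionRing E), hma,
        show x * algebraMap E (FractionRing E) mA = algebraMap E (FractionRing E) e from hxa,
        IsScalarTower.algebraMap_apply N E (FractionRing E) u, ← map_mul,
        show e * algebraMap N E u = algebraMap N E n from hn, ← IsScalarTower.algebraMap_apply]
    rw [hΦ, map_mul, map_mul, ← h1]
    have h2 : algebraMap A (FractionRing E) a * algebraMap K (FractionRing E) ai = 1 := by
      rw [IsScalarTower.algebraMap_apply A K (FractionRing E), ← map_mul, hai, map_one]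
    calc _ = algebraMap N (FractionRing E) m * algebraMap N (FractionRing E) u * x *
          (algebraMap A (FractionRing E) a * algebraMap K (FractionRing E) ai) := by ring
      _ = _ := by rw [h2, mul_one]
  have hint : IsIntegral N (Φ ξ) := by
    rw [hξ, mul_comm m u, map_mul, mul_assoc]
    exact isIntegral_algebraMap.mul (by rw [← Algebra.smul_def]; exact hmx)
  obtain ⟨p, hp, hpξ⟩ := hint
  obtain ⟨t, ht, htz⟩ := hker (aeval ξ p) (by rw [← aeval_algHom_apply]; exact hpξ)
  have hint2 : IsIntegral N (algebraMap N (N ⊗[A] K) t * ξ) := by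
    rcases Nat.eq_zero_or_pos p.natDegree with h0 | hpos
    · rw [hp.natDegree_eq_zero] at h0
      subst h0
      refine ⟨X, monic_X, ?_⟩
      rw [eval₂_X]
      have : (t ⊗ₜ[A] (1 : K)) = 0 := by simpa using htz
      show (t ⊗ₜ[A] (1 : K)) * ξ = 0
      rw [this, zero_mul]
    · refine ⟨scaleRoots p t, (monic_scaleRoots_iff t).mpr hp, ?_⟩
      show eval₂ (algebraMap N (N ⊗[A] K)) (algebraMap N (N ⊗[A] K) t * ξ) (scaleRoots p t) = 0
      rw [scaleRoots_eval₂_mul, ← Nat.sub_add_cancel hpos, pow_succ, mul_assoc]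
      show _ * ((t ⊗ₜ[A] (1 : K)) * aeval ξ p) = 0
      rw [htz, mul_zero]
  obtain ⟨w, hw⟩ := (TensorProduct.toIntegralClosure_bijective_of_smooth (R := A) (S := N)
    (B := K)).2 ⟨_, hint2⟩
  have hw' : Algebra.TensorProduct.map (AlgHom.id N N) (integralClosure A K).val w =
      algebraMap N (N ⊗[A] K) t * ξ := congrArg Subtype.val hw
  set Y := {y : FractionRing E | IsIntegral A y ∧ ∃ a ∈ nonZeroDivisors A, ∃ b : A,
    algebraMap A (FractionRing E) a * y = algebraMap A (FractionRing E) b}
  have hwY : Φ (Algebra.TensorProduct.map (AlgHom.id N N) (integralClosure A K).val w) ∈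
      Algebra.adjoin E Y := by
    clear hw hw'
    induction w using TensorProduct.induction_on with
    | zero => rw [map_zero, map_zero]; exact zero_mem _
    | tmul n k =>
      rw [Algebra.TensorProduct.map_tmul, AlgHom.id_apply, hΦ, IsScalarTower.algebraMap_apply N E]
      refine mul_mem (Subalgebra.algebraMap_mem _ _)
        (Algebra.subset_adjoin ⟨k.2.map (IsScalarTower.toAlgHom A K (FractionRing E)), ?_⟩)
      obtain ⟨⟨b, a⟩, h⟩ := IsLocalization.surj (nonZeroDivisors A) (k : K)
      refine ⟨a, a.2, b, ?_⟩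
      rw [IsScalarTower.algebraMap_apply A K (FractionRing E), ← map_mul, mul_comm, Subalgebra.coe_val,
        show (k : K) * algebraMap A K a = algebraMap A K b from h, ← IsScalarTower.algebraMap_apply]
    | add w w' hw hw' => rw [map_add, map_add]; exact add_mem hw hw'
  rw [hw', map_mul, AlgHom.commutes, hξ, ← mul_assoc, ← map_mul] at hwY
  obtain ⟨v, hv⟩ := (IsLocalization.map_units E
    (⟨t * (m * u), q.primeCompl.mul_mem ht (q.primeCompl.mul_mem hm hu)⟩ : q.primeCompl)).exists_left_inv
  have := mul_mem (Subalgebra.algebraMap_mem (Algebra.adjoin E Y) v) hwY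
  rwa [← mul_assoc, IsScalarTower.algebraMap_apply N E (FractionRing E), ← map_mul, hv, map_one,
    one_mul] at this

end GrothLib.EssEtLoc
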