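import Groth.Agent.Lib.EssEtLoc.NormalInter

/-!
# Ideals contracted from unramified algebras over normal rings
-/

universe u

open IsLocalRing

noncomputable section

namespace GrothLib.EssEtLoc

theorem exists_notMem_mul_mem_of_normal {R T : Type u} [CommRing R] [CommRing T] [Algebra R T]
    [Algebra.EssFiniteType R T] [Algebra.FormallyUnramified R T] (N : Ideal R) [N.IsPrime]
    (M : Ideal T) [M.IsPrime] (hMN : M.comap (algebraMap R T) = N)
    [IsDomain (Localization.AtPrime N)] [IsIntegrallyClosed (Localization.AtPrime N)]
    (hker : ∀ d : R, (∃ w ∉ M, w * algebraMap R T d = 0) → ∃ u ∉ N, u * d = 0)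
    (I : Ideal R) (z : R) (hz : algebraMap R T z ∈ I.map (algebraMap R T)) :
    ∃ u ∉ N, u * z ∈ I := by
  let f : Localization.AtPrime N →+* Localization.AtPrime M :=
    Localization.localRingHom N M (algebraMap R T) hMN.symm
  letI : Algebra (Localization.AtPrime N) (Localization.AtPrime M) := f.toAlgebra
  haveI hl : IsLocalHom (algebraMap (Localization.AtPrime N) (Localization.AtPrime M)) :=
    Localization.isLocalHom_localRingHom N M (algebraMap R T) hMN.symm
  haveI : IsScalarTower R (Localization.AtPrime N) (Localization.AtPrime M) :=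
    IsScalarTower.of_algebraMap_eq fun r => by
      show _ = f (algebraMap R (Localization.AtPrime N) r)
      rw [Localization.localRingHom_to_map, ← IsScalarTower.algebraMap_apply]
  haveI : Algebra.EssFiniteType T (Localization.AtPrime M) :=
    Algebra.EssFiniteType.of_isLocalization _ M.primeCompl
  haveI : Algebra.EssFiniteType R (Localization.AtPrime M) := Algebra.EssFiniteType.comp R T _
  haveI : Algebra.EssFiniteType (Localization.AtPrime N) (Localization.AtPrime M) :=
    Algebra.EssFiniteType.of_comp R _ _
  haveI : Algebra.FormallyUnramified T (Localization.AtPrime M) :=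
    Algebra.FormallyUnramified.of_isLocalization (Rₘ := Localization.AtPrime M) M.primeCompl
  haveI : Algebra.FormallyUnramified R (Localization.AtPrime M) :=
    Algebra.FormallyUnramified.comp R T _
  haveI : Algebra.FormallyUnramified (Localization.AtPrime N) (Localization.AtPrime M) :=
    Algebra.FormallyUnramified.of_restrictScalars R _ _
  have hinj : Function.Injective (algebraMap (Localization.AtPrime N) (Localization.AtPrime M)) := by
    rw [injective_iff_map_eq_zero]
    intro x hx
    obtain ⟨d, s, rfl⟩ := IsLocalization.exists_mk'_eq N.primeCompl x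
    have h1 : algebraMap T (Localization.AtPrime M) (algebraMap R T d) = 0 := by
      have h2 := congrArg (algebraMap (Localization.AtPrime N) (Localization.AtPrime M))
        (IsLocalization.mk'_spec (Localization.AtPrime N) d s)
      rw [map_mul, hx, zero_mul, ← IsScalarTower.algebraMap_apply] at h2
      rw [← IsScalarTower.algebraMap_apply]
      exact h2.symm
    obtain ⟨⟨w, hw⟩, hwd⟩ := (IsLocalization.map_eq_zero_iff M.primeCompl _ _).mp h1
    obtain ⟨u, hu, hud⟩ := hker d ⟨w, hw, hwd⟩
    rw [IsLocalization.mk'_eq_zero_iff]
    exact ⟨⟨u, hu⟩, hud⟩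
  haveI := flat_of_unramified_of_normal hinj
  haveI : Module.FaithfullyFlat (Localization.AtPrime N) (Localization.AtPrime M) :=
    Module.FaithfullyFlat.of_flat_of_isLocalHom
  have h : algebraMap R (Localization.AtPrime N) z ∈ I.map (algebraMap R (Localization.AtPrime N)) := by
    rw [← Ideal.comap_map_eq_self_of_faithfullyFlat (B := Localization.AtPrime M)
      (I.map (algebraMap R (Localization.AtPrime N))), Ideal.mem_comap, Ideal.map_map,
      ← IsScalarTower.algebraMap_eq, ← IsScalarTower.algebraMap_apply,
      IsScalarTower.algebraMap_eq R T (Localization.AtPrime M), ← Ideal.map_map]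
    exact Ideal.mem_map_of_mem _ hz
  obtain ⟨u, hu, huz⟩ := (IsLocalization.algebraMap_mem_map_algebraMap_iff N.primeCompl _ I z).mp h
  exact ⟨u, hu, huz⟩

end GrothLib.EssEtLoc
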