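import Groth.Agent.Lib.EssEtLoc.DenomDescent
import Groth.Agent.Lib.EssEtLoc.LocalSub
import Groth.Agent.Lib.EssEtLoc.Frac
import Groth.Agent.Lib.N2.Reduced

/-!
# Normal semilocal intermediate rings
-/

universe u

open IsLocalRing

noncomputable section

namespace GrothLib.EssEtLoc

variable {A E : Type u} [CommRing A] [IsLocalRing A] [IsReduced A] [IsNoetherianRing A]
  [CommRing E] [IsLocalRing E] [Algebra A E]

/-- A subalgebra of the fraction ring containing the inverses from the base is Artinian. -/
theorem isArtinianRing_subalgebra (hE : EGA4loc.IsEssentiallyEtale A E)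
    (L : Subalgebra A (FractionRing E))
    (hL : ∀ a ∈ nonZeroDivisors A, ∃ y ∈ L, algebraMap A (FractionRing E) a * y = 1) :
    IsArtinianRing L := by
  have hmin := minimalPrimes.finite_of_isNoetherianRing A
  obtain ⟨-, _, _, _⟩ := fractionRing_structure hmin hE
  haveI := isArtinianRing_fractionRing A hmin
  let L' : Subalgebra (FractionRing A) (FractionRing E) :=
    { L.toSubsemiring with
      algebraMap_mem' := fun k => by
        obtain ⟨⟨b, t⟩, ht⟩ := IsLocalization.surj (nonZeroDivisors A) k
        obtain ⟨y, hy, hty⟩ := hL t t.2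
        have h : algebraMap (FractionRing A) (FractionRing E) k = algebraMap A _ b * y := by
          rw [IsScalarTower.algebraMap_apply A (FractionRing A) (FractionRing E) b, ← ht, map_mul,
            ← IsScalarTower.algebraMap_apply, mul_assoc, hty, mul_one]
        show algebraMap (FractionRing A) (FractionRing E) k ∈ L
        rw [h]
        exact mul_mem (L.algebraMap_mem b) hy }
  haveI : Module.Finite (FractionRing A) L' := by
    show Module.Finite (FractionRing A) (Subalgebra.toSubmodule L')
    infer_instance
  haveI : IsArtinianRing L' := IsArtinianRing.of_finite (FractionRing A) L'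
  let f : L' →+* L :=
    { toFun := fun x => ⟨x, x.2⟩
      map_one' := rfl
      map_mul' := fun _ _ => rfl
      map_zero' := rfl
      map_add' := fun _ _ => rfl }
  exact Function.Surjective.isArtinianRing (f := f) fun x => ⟨⟨x, x.2⟩, rfl⟩

/-- A denominator in the base closure for an element of the intersection with the normalization. -/
theorem exists_notMem_mul_isIntegral (hE : EGA4loc.IsEssentiallyEtale A E)
    [IsReduced (FractionRing E)] [IsArtinianRing (FractionRing E)]
    (L : Subalgebra A (FractionRing E)) [IsArtinianRing L] (x : L)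
    (hx : IsIntegral E (x : FractionRing E))
    (M : Ideal ((integralClosure E (FractionRing E)).restrictScalars A)) (hM : M.IsMaximal) :
    ∃ (u : L) (hu : IsIntegral A (u : FractionRing E)),
      (⟨(u : FractionRing E), hu.tower_top⟩ :
        (integralClosure E (FractionRing E)).restrictScalars A) ∉ M ∧
      IsIntegral A ((u : FractionRing E) * x) := by
  let B := integralClosure A (FractionRing E)
  let j : B →+* (integralClosure E (FractionRing E)).restrictScalars A :=
    { toFun := fun b => ⟨b.1, b.2.tower_top⟩
      map_one' := rfl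
      map_mul' := fun _ _ => rfl
      map_zero' := rfl
      map_add' := fun _ _ => rfl }
  let P : Ideal B := M.comap j
  haveI : P.IsPrime := hM.isPrime.comap j
  obtain ⟨r, hr, hrP⟩ := Ideal.exists_minimalPrimes_le (I := (⊥ : Ideal B)) (J := P) bot_le
  obtain ⟨Q, hQ, hQr⟩ := Ideal.exists_comap_eq_of_mem_minimalPrimes_of_injective
    (f := B.val.toRingHom) Subtype.val_injective r hr
  haveI := hQ
  haveI : Q.IsMaximal := IsArtinianRing.isMaximal_of_isPrime Q
  haveI : IsReduced L := isReduced_of_injective L.val Subtype.val_injective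
  obtain ⟨v, hvu, hvi, hvx⟩ := exists_unit_isIntegral_mul_of_isIntegral hE hx
  let v' : B := ⟨algebraMap E (FractionRing E) v, hvi.map (IsScalarTower.toAlgHom A E _)⟩
  have hv' : v' ∉ P := fun h => by
    have hu : IsUnit (j v') := by
      obtain ⟨w, hw⟩ := hvu.exists_right_inv
      refine IsUnit.of_mul_eq_one ⟨algebraMap E (FractionRing E) w, isIntegral_algebraMap⟩ ?_
      exact Subtype.ext ((map_mul (algebraMap E (FractionRing E)) v w).symm.trans (by rw [hw, map_one]; rfl))
    exact hM.ne_top (Ideal.eq_top_of_isUnit_mem _ (h : j v' ∈ M) hu)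
  exact exists_notMem_isIntegral_mul L Q P (hQr.trans_le hrP) x v' hv' hvx

/-- Finitely many integral elements give all denominators of the normalization. -/
theorem exists_finset_denominators [IsLocalHom (algebraMap A E)]
    (hN : CAlg.IsNagata A) (hE : EGA4loc.IsEssentiallyEtale A E)
    [IsReduced E] (D : Subalgebra A E) [IsLocalRing D]
    (D' : Subalgebra A (FractionRing E))
    (hD' : ∀ x : (FractionRing E), x ∈ D' ↔ (IsIntegral D x ∧
      ∃ a ∈ nonZeroDivisors A, ∃ d ∈ D, algebraMap A (FractionRing E) a * x = algebraMap E (FractionRing E) d))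
    (hle : D' ≤ ((integralClosure E (FractionRing E)).restrictScalars A))
    (hfin : {N : Ideal D' | N.IsMaximal}.Finite)
    (hsurj : ∀ N : Ideal D', N.IsMaximal →
      ∃ M : Ideal ((integralClosure E (FractionRing E)).restrictScalars A), M.IsMaximal ∧ M.comap (Subalgebra.inclusion hle) = N) :
    ∃ s : Finset D', ∀ y : D', ∃ u ∈ Algebra.adjoin A (s : Set D'), IsUnit u ∧
      u * y ∈ Algebra.adjoin A (s : Set D') := by
  classical
  have hmin := minimalPrimes.finite_of_isNoetherianRing A
  haveI := essFiniteType hE
  haveI : IsNoetherianRing E := Algebra.EssFiniteType.isNoetherianRing A E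
  haveI : IsReduced (FractionRing E) := inferInstanceAs (IsReduced (Localization (nonZeroDivisors E)))
  haveI : IsArtinianRing (FractionRing E) :=
    isArtinianRing_fractionRing E (minimalPrimes.finite_of_isNoetherianRing E)
  haveI : Algebra.EssFiniteType E (FractionRing E) :=
    Algebra.EssFiniteType.of_isLocalization _ (nonZeroDivisors E)
  haveI : Algebra.EssFiniteType A (FractionRing E) := Algebra.EssFiniteType.comp A E _
  haveI : Module.Finite A (integralClosure A (FractionRing E)) :=
    GrothLib.N2.finite_integralClosure_of_essFiniteType hN _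
  let L : Subalgebra A (FractionRing E) :=
    { carrier := {x | ∃ a ∈ nonZeroDivisors A, ∃ d ∈ D,
        algebraMap A (FractionRing E) a * x = algebraMap E (FractionRing E) d}
      mul_mem' := by
        rintro x y ⟨a, ha, d, hd, hx⟩ ⟨b, hb, d', hd', hy⟩
        exact ⟨a * b, mul_mem ha hb, d * d', mul_mem hd hd', by
          rw [map_mul, map_mul, ← hx, ← hy]; ring⟩
      add_mem' := by
        rintro x y ⟨a, ha, d, hd, hx⟩ ⟨b, hb, d', hd', hy⟩
        refine ⟨a * b, mul_mem ha hb, algebraMap A E b * d + algebraMap A E a * d',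
          add_mem (mul_mem (D.algebraMap_mem b) hd) (mul_mem (D.algebraMap_mem a) hd'), ?_⟩
        rw [map_mul, map_add, map_mul, map_mul, ← hx, ← hy, ← IsScalarTower.algebraMap_apply,
          ← IsScalarTower.algebraMap_apply]
        ring
      algebraMap_mem' := fun c => ⟨1, one_mem _, algebraMap A E c, D.algebraMap_mem c, by
        rw [map_one, one_mul, ← IsScalarTower.algebraMap_apply]⟩ }
  have hL : ∀ a ∈ nonZeroDivisors A, ∃ y ∈ L, algebraMap A (FractionRing E) a * y = 1 := by
    intro a ha
    obtain ⟨hloc, -⟩ := fractionRing_structure hmin hE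
    obtain ⟨y, hy⟩ := (IsLocalization.map_units (FractionRing E)
      (⟨algebraMap A E a, a, ha, rfl⟩ : (nonZeroDivisors A).map (algebraMap A E))).exists_right_inv
    have hy' : algebraMap A (FractionRing E) a * y = 1 := by
      rw [IsScalarTower.algebraMap_apply A E (FractionRing E)]; exact hy
    exact ⟨y, ⟨a, ha, 1, one_mem D, by rw [map_one]; exact hy'⟩, hy'⟩
  haveI := isArtinianRing_subalgebra hE L hL
  have hD'L : ∀ x ∈ D', x ∈ L := fun x hx => ((hD' x).mp hx).2
  have hC0 : ∀ u ∈ L, IsIntegral A u → u ∈ D' := fun u hu hi =>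
    (hD' u).mpr ⟨hi.tower_top, hu⟩
  -- a finite generating set
  let C₀ : Submodule A (FractionRing E) :=
    Subalgebra.toSubmodule (L ⊓ integralClosure A (FractionRing E))
  haveI : IsNoetherian A (integralClosure A (FractionRing E)) :=
    isNoetherian_of_isNoetherianRing_of_finite _ _
  obtain ⟨t, ht⟩ : C₀.FG := by
    have h : (Subalgebra.toSubmodule (integralClosure A (FractionRing E))).FG :=
      Module.Finite.iff_fg.mp ‹_›
    haveI : IsNoetherian A (Subalgebra.toSubmodule (integralClosure A (FractionRing E))) :=
      isNoetherian_of_fg_of_noetherian _ h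
    exact Submodule.FG.of_le h fun x hx => hx.2
  have ht' : ∀ z : t, (z : FractionRing E) ∈ D' := fun z => by
    have hz : (z : FractionRing E) ∈ C₀ := ht ▸ Submodule.subset_span z.2
    exact hC0 _ hz.1 hz.2
  let s : Finset D' := Finset.univ.image fun z : t => ⟨(z : FractionRing E), ht' z⟩
  have hs : ∀ u : D', (u : FractionRing E) ∈ C₀ → u ∈ Algebra.adjoin A (s : Set D') := by
    intro u hu
    have h : (u : FractionRing E) ∈ Submodule.map D'.val.toLinearMap
        (Subalgebra.toSubmodule (Algebra.adjoin A (s : Set D'))) := by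
      rw [← ht] at hu
      refine Submodule.span_le.mpr (fun z hz => ?_) hu
      exact ⟨⟨z, ht' ⟨z, hz⟩⟩,
        Algebra.subset_adjoin (Finset.mem_image.mpr ⟨⟨z, hz⟩, Finset.mem_univ _, rfl⟩), rfl⟩
    obtain ⟨u', hu', he⟩ := h
    rwa [← Subtype.ext (a1 := u') (a2 := u) he]
  -- denominators
  have hden : ∀ y : D', ∃ u ∈ Algebra.adjoin A (s : Set D'), IsUnit u ∧
      u * y ∈ Algebra.adjoin A (s : Set D') := by
    intro y
    let C := L ⊓ integralClosure A (FractionRing E)
    have hCD' : C ≤ D' := fun x hx => hC0 x hx.1 hx.2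
    let I : Ideal C :=
      { carrier := {u | IsIntegral A ((u : FractionRing E) * y)}
        add_mem' := fun {a b} ha hb => by
          show IsIntegral A (((a + b : C) : FractionRing E) * y)
          rw [Subalgebra.coe_add, add_mul]; exact ha.add hb
        zero_mem' := by
          show IsIntegral A (((0 : C) : FractionRing E) * y)
          rw [Subalgebra.coe_zero, zero_mul]; exact isIntegral_zero
        smul_mem' := fun c u hu => by
          show IsIntegral A (((c * u : C) : FractionRing E) * y)
          rw [Subalgebra.coe_mul, mul_assoc]; exact c.2.2.mul hu }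
    suffices h : ∃ u ∈ I, IsUnit (Subalgebra.inclusion hCD' u) by
      obtain ⟨u, huI, huu⟩ := h
      exact ⟨Subalgebra.inclusion hCD' u, hs _ u.2, huu,
        hs _ ⟨mul_mem u.2.1 (hD'L y y.2), huI⟩⟩
    by_contra hne
    simp only [not_exists, not_and] at hne
    haveI := hfin.fintype
    let F : {N : Ideal D' | N.IsMaximal} → Ideal C := fun N => N.1.comap (Subalgebra.inclusion hCD')
    have hsub : (I : Set C) ⊆ ⋃ i ∈ (↑(Finset.univ : Finset {N : Ideal D' | N.IsMaximal}) :
        Set {N : Ideal D' | N.IsMaximal}), (F i : Set C) := by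
      intro u hu
      obtain ⟨N, hN, huN⟩ := exists_max_ideal_of_mem_nonunits (hne u hu)
      simp only [Set.mem_iUnion]
      exact ⟨⟨N, hN⟩, by simp, huN⟩
    obtain ⟨i₀⟩ : Nonempty {N : Ideal D' | N.IsMaximal} := by
      by_contra h
      have := hsub (show (0 : C) ∈ I from I.zero_mem)
      simp only [Set.mem_iUnion] at this
      obtain ⟨i, -⟩ := this
      exact h ⟨i⟩
    obtain ⟨⟨N, hN⟩, -, hleN⟩ := (Ideal.subset_union_prime i₀ i₀
      (fun i _ _ _ => Ideal.IsPrime.comap (hK := i.2.isPrime) _)).mp hsub
    obtain ⟨M, hM, rfl⟩ := hsurj N hN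
    obtain ⟨u, hu, huM, huy⟩ := exists_notMem_mul_isIntegral hE L ⟨y, hD'L y y.2⟩ (hle y.2) M hM
    exact huM (hleN (show (⟨(u : FractionRing E), u.2, hu⟩ : C) ∈ I from huy))
  exact ⟨s, hden⟩

theorem essFiniteType_of_normalization_semilocal [IsLocalHom (algebraMap A E)]
    (hN : CAlg.IsNagata A) (hE : EGA4loc.IsEssentiallyEtale A E)
    [IsReduced E] (D : Subalgebra A E) [IsLocalRing D]
    (D' : Subalgebra A (FractionRing E))
    (hD' : ∀ x : (FractionRing E), x ∈ D' ↔ (IsIntegral D x ∧
      ∃ a ∈ nonZeroDivisors A, ∃ d ∈ D, algebraMap A (FractionRing E) a * x = algebraMap E (FractionRing E) d))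
    (hle : D' ≤ ((integralClosure E (FractionRing E)).restrictScalars A))
    (hfin : {N : Ideal D' | N.IsMaximal}.Finite)
    (hsurj : ∀ N : Ideal D', N.IsMaximal →
      ∃ M : Ideal ((integralClosure E (FractionRing E)).restrictScalars A), M.IsMaximal ∧ M.comap (Subalgebra.inclusion hle) = N) :
    Algebra.EssFiniteType A D := by
  obtain ⟨s, hden⟩ := exists_finset_denominators hN hE D D' hD' hle hfin hsurj
  -- conclude
  let ι : D →ₐ[A] D' := ((IsScalarTower.toAlgHom A E (FractionRing E)).comp D.val).codRestrict D'
    fun d => (hD' _).mpr ⟨(show IsIntegral D (algebraMap D (FractionRing E) d) from isIntegral_algebraMap),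
      1, one_mem _, d, d.2, by rw [map_one, one_mul]; rfl⟩
  letI : Algebra D D' := ι.toRingHom.toAlgebra
  haveI : IsScalarTower A D D' := IsScalarTower.of_algebraMap_eq fun a => (ι.commutes a).symm
  haveI : Algebra.IsIntegral D D' := ⟨fun z => by
    obtain ⟨p, hp, hpz⟩ := ((hD' z).mp z.2).1
    refine ⟨p, hp, Subtype.ext ?_⟩
    have hcomp : D'.val.toRingHom.comp (algebraMap D D') = algebraMap D (FractionRing E) :=
      RingHom.ext fun _ => rfl
    show D'.val.toRingHom (Polynomial.eval₂ (algebraMap D D') z p) = _
    rw [Polynomial.hom_eval₂, hcomp]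
    exact hpz⟩
  exact essFiniteType_of_denominators (A := A) (D := D) (D' := D')
    (fun a b h => Subtype.val_injective (IsFractionRing.injective E (FractionRing E)
      (congrArg Subtype.val h :))) s hden

end GrothLib.EssEtLoc
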