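import Groth.Agent.Lib.EssEtLoc.EtNorm
import Groth.Agent.Lib.EssEtLoc.NormalComap
import Groth.Agent.Lib.EssEtLoc.SemilocalEFT
import Groth.Agent.Lib.TotalFrac.Converse

/-!
# The normalization of an intermediate ring in the fraction ring of an essentially étale algebra
-/

universe u

open IsLocalRing TensorProduct Polynomial

noncomputable section

namespace GrothLib.EssEtLoc

variable {A E : Type u} [CommRing A] [CommRing E] [Algebra A E]

/-- The normalization of a subalgebra. -/
def normSub (D : Subalgebra A E) : Subalgebra A (FractionRing E) :=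
  (integralClosure D (FractionRing E)).restrictScalars A ⊓ fracSub A D

theorem mem_normSub_iff {D : Subalgebra A E} {x : FractionRing E} :
    x ∈ normSub D ↔ IsIntegral D x ∧ ∃ a ∈ nonZeroDivisors A, ∃ d ∈ D,
      algebraMap A (FractionRing E) a * x = algebraMap E (FractionRing E) d :=
  Iff.rfl

theorem isIntegral_of_mem_normSub {D : Subalgebra A E} {x : FractionRing E} (hx : x ∈ normSub D) :
    IsIntegral E x := by
  obtain ⟨p, hp, hpx⟩ := hx.1
  refine ⟨p.map D.val.toRingHom, hp.map _, ?_⟩
  rw [eval₂_map]
  exact hpx

theorem normBase_le_normSub (D : Subalgebra A E) : normBase A E ≤ normSub D := by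
  intro x hx
  obtain ⟨hi, a, ha, b, hab⟩ := mem_normBase_iff.mp hx
  exact ⟨hi.tower_top, a, ha, algebraMap A E b, D.algebraMap_mem b,
    by rw [hab, ← IsScalarTower.algebraMap_apply]⟩

/-- The inclusion of the subalgebra into its normalization. -/
def toNormSub (D : Subalgebra A E) : D →ₐ[A] normSub D :=
  ((IsScalarTower.toAlgHom A E (FractionRing E)).comp D.val).codRestrict _ fun d =>
    ⟨(isIntegral_algebraMap : IsIntegral D (algebraMap D (FractionRing E) d)),
      1, one_mem _, d, d.2, by rw [map_one, one_mul]; rfl⟩

/-- The inclusion into the normalization of the algebra. -/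
def normSubIncl (D : Subalgebra A E) : normSub D →ₐ[A] integralClosure E (FractionRing E) :=
  { toFun := fun x => ⟨x, isIntegral_of_mem_normSub x.2⟩
    map_one' := rfl
    map_mul' := fun _ _ => rfl
    map_zero' := rfl
    map_add' := fun _ _ => rfl
    commutes' := fun _ => Subtype.ext rfl }

variable [IsLocalRing A] [IsReduced A] [IsNoetherianRing A] [IsLocalRing E]

/-- A prime of a subalgebra of the normalization under a maximal ideal is maximal. -/
theorem isMaximal_comap_normSubIncl (hE : EGA4loc.IsEssentiallyEtale A E) (D : Subalgebra A E)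
    [IsLocalRing D] [IsLocalHom (algebraMap D E)]
    (M : Ideal (integralClosure E (FractionRing E))) [M.IsMaximal] :
    (M.comap (normSubIncl D)).IsMaximal := by
  haveI : (M.comap (normSubIncl D)).IsPrime := Ideal.IsPrime.comap _
  refine Ideal.isMaximal_of_isIntegral_of_isMaximal_comap' (toNormSub D).toRingHom
    (fun z => by
      obtain ⟨p, hp, hpz⟩ := z.2.1
      refine ⟨p, hp, Subtype.ext ?_⟩
      have hcomp : (normSub D).val.toRingHom.comp (toNormSub D).toRingHom =
          algebraMap D (FractionRing E) := RingHom.ext fun _ => rfl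
      show (normSub D).val.toRingHom (eval₂ (toNormSub D).toRingHom z p) = _
      rw [hom_eval₂, hcomp]
      exact hpz) _ ?_
  haveI hm := Ideal.isMaximal_comap_of_isIntegral_of_isMaximal (R := E) M
  have h : ((M.comap (normSubIncl D)).comap (toNormSub D).toRingHom) = maximalIdeal D := by
    ext d
    have h1 : normSubIncl D (toNormSub D d) = algebraMap E _ (d : E) := Subtype.ext rfl
    show normSubIncl D (toNormSub D d) ∈ M ↔ _
    rw [h1, ← Ideal.mem_comap, IsLocalRing.eq_maximalIdeal hm]
    exact ⟨fun h hd => h (hd.map (algebraMap D E)), fun h hd => h (IsLocalHom.map_nonunit (f := algebraMap D E) d hd)⟩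
  rw [h]
  exact maximalIdeal.isMaximal D

/-- Every maximal ideal of the normalization of a subalgebra with residues generated by the base
normalization and the subalgebra lies under one of the big normalization. -/
theorem exists_comap_normSubIncl_eq (hE : EGA4loc.IsEssentiallyEtale A E) (D : Subalgebra A E)
    [IsLocalRing D] [IsLocalHom (algebraMap D E)]
    (hgen : ∀ x : normSub D, ∃ z ∈ Algebra.adjoin A
      ({y : normSub D | (y : FractionRing E) ∈ normBase A E} ∪ Set.range (toNormSub D)),
      x - z ∈ Ideal.jacobson (⊥ : Ideal (normSub D)))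
    (N : Ideal (normSub D)) [N.IsMaximal] :
    ∃ M : Ideal (integralClosure E (FractionRing E)), M.IsMaximal ∧ M.comap (normSubIncl D) = N := by
  haveI := isLocalHom_algebraMap hE
  haveI := essFiniteType hE
  haveI := formallyEtale hE
  letI : Field (normSub D ⧸ N) := Ideal.Quotient.field N
  let Ω := AlgebraicClosure (normSub D ⧸ N)
  let π : normSub D →+* Ω := (algebraMap (normSub D ⧸ N) Ω).comp (Ideal.Quotient.mk N)
  have hπ : ∀ x, π x = 0 ↔ x ∈ N := fun x => by
    rw [RingHom.comp_apply, map_eq_zero, Ideal.Quotient.eq_zero_iff_mem]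
  let πD : D →+* Ω := π.comp (toNormSub D).toRingHom
  have hkerD : ∀ d ∈ maximalIdeal D, πD d = 0 := by
    intro d hd
    rw [RingHom.comp_apply, hπ]
    haveI hc : (N.comap (toNormSub D).toRingHom).IsMaximal :=
      Ideal.isMaximal_comap_of_isIntegral_of_isMaximal' _ (fun z => by
        obtain ⟨p, hp, hpz⟩ := z.2.1
        refine ⟨p, hp, Subtype.ext ?_⟩
        have hcomp : (normSub D).val.toRingHom.comp (toNormSub D).toRingHom =
            algebraMap D (FractionRing E) := RingHom.ext fun _ => rfl
        show (normSub D).val.toRingHom (eval₂ (toNormSub D).toRingHom z p) = _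
        rw [hom_eval₂, hcomp]
        exact hpz) N
    rw [← IsLocalRing.eq_maximalIdeal hc] at hd
    exact hd
  let ρ : ResidueField D →+* Ω := Ideal.Quotient.lift _ πD hkerD
  letI : Algebra (ResidueField D) Ω := ρ.toAlgebra
  -- the residue field of the algebra is algebraic over that of the subalgebra
  haveI : IsLocalHom (algebraMap A D) := ⟨fun a ha => by
    have h := ha.map (algebraMap D E)
    rw [← IsScalarTower.algebraMap_apply] at h
    exact IsLocalHom.map_nonunit a h⟩
  haveI : IsScalarTower (ResidueField A) (ResidueField D) (ResidueField E) :=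
    IsScalarTower.of_algebraMap_eq fun x => by
      obtain ⟨a, rfl⟩ := residue_surjective x
      show residue E (algebraMap A E a) = residue E (algebraMap D E (algebraMap A D a))
      rw [← IsScalarTower.algebraMap_apply]
  haveI : Algebra.IsAlgebraic (ResidueField D) (ResidueField E) :=
    Algebra.IsAlgebraic.tower_top (K := ResidueField A) _
  let χ₀ : ResidueField E →ₐ[ResidueField D] Ω := IsAlgClosed.lift
  let χ : E →+* Ω := χ₀.toRingHom.comp (residue E)
  have hχD : ∀ d : D, χ d = π (toNormSub D d) := fun d => χ₀.commutes (residue D d)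
  letI : Algebra A Ω := (π.comp (algebraMap A (normSub D))).toAlgebra
  let φA : normBase A E →ₐ[A] Ω :=
    { toRingHom := π.comp (Subalgebra.inclusion (normBase_le_normSub D)).toRingHom
      commutes' := fun a => rfl }
  let χA : E →ₐ[A] Ω :=
    { toRingHom := χ
      commutes' := fun a => by
        show χ (algebraMap A E a) = π (algebraMap A (normSub D) a)
        rw [← (toNormSub D).commutes a]
        exact hχD (algebraMap A D a) }
  let e := AlgEquiv.ofBijective (normMul (A := A) (E := E))
    (normMul_bijective (minimalPrimes.finite_of_isNoetherianRing A) hE)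
  let g : integralClosure E (FractionRing E) →ₐ[A] Ω :=
    (Algebra.TensorProduct.lift φA χA fun _ _ => Commute.all _ _).comp e.symm.toAlgHom
  have hg : ∀ (x : normBase A E) (y : E), g (normMul (x ⊗ₜ y)) = φA x * χ y := fun x y => by
    show Algebra.TensorProduct.lift φA χA (fun _ _ => Commute.all _ _) (e.symm (e (x ⊗ₜ y))) = _
    rw [e.symm_apply_apply, Algebra.TensorProduct.lift_tmul]
    rfl
  have hgE : ∀ y : E, g (algebraMap E _ y) = χ y := fun y => by
    have h := hg 1 y
    rw [map_one φA, one_mul, show normMul ((1 : normBase A E) ⊗ₜ[A] y) = algebraMap E _ y from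
      Subtype.ext (by rw [coe_normMul, Subalgebra.coe_one, one_mul]; rfl)] at h
    exact h
  -- maximal kernel
  haveI := RingHom.ker_isPrime g.toRingHom
  have hM : (RingHom.ker g.toRingHom).IsMaximal := by
    refine Ideal.isMaximal_of_isIntegral_of_isMaximal_comap (R := E) _ ?_
    convert maximalIdeal.isMaximal E
    ext y
    show g (algebraMap E _ y) = 0 ↔ _
    rw [hgE, RingHom.comp_apply, ← residue_eq_zero_iff]
    exact map_eq_zero χ₀.toRingHom
  refine ⟨_, hM, ?_⟩
  haveI := hM
  haveI := isMaximal_comap_normSubIncl hE D (RingHom.ker g.toRingHom)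
  have hagree : ∀ z ∈ Algebra.adjoin A
      ({y : normSub D | (y : FractionRing E) ∈ normBase A E} ∪ Set.range (toNormSub D)),
      g (normSubIncl D z) = π z := by
    intro z hz
    refine Algebra.adjoin_induction (fun y hy => ?_) (fun a => ?_) (fun y y' _ _ h h' => ?_)
      (fun y y' _ _ h h' => ?_) hz
    · rcases hy with hy | ⟨d, rfl⟩
      · have h := hg ⟨y, hy⟩ 1
        rw [map_one, mul_one, show normMul ((⟨(y : FractionRing E), hy⟩ : normBase A E) ⊗ₜ[A] (1 : E)) =
          normSubIncl D y from Subtype.ext (by rw [coe_normMul, map_one, mul_one]; rfl)] at h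
        exact h
      · rw [← hχD, show normSubIncl D (toNormSub D d) = algebraMap E _ (d : E) from Subtype.ext rfl]
        exact hgE _
    · rw [AlgHom.commutes, AlgHom.commutes]; rfl
    · rw [map_add, map_add, map_add, h, h']
    · rw [map_mul, map_mul, map_mul, h, h']
  have hjac : Ideal.jacobson (⊥ : Ideal (normSub D)) ≤
      (RingHom.ker g.toRingHom).comap (normSubIncl D) := sInf_le ⟨bot_le, inferInstance⟩
  have hN : Ideal.jacobson (⊥ : Ideal (normSub D)) ≤ N := sInf_le ⟨bot_le, inferInstance⟩
  refine ((inferInstance : N.IsMaximal).eq_of_le (Ideal.IsPrime.ne_top inferInstance) fun x hx => ?_).symm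
  obtain ⟨z, hz, hxz⟩ := hgen x
  have h1 : π z = 0 := by
    rw [hπ]
    simpa using N.sub_mem hx (hN hxz)
  have h2 : g (normSubIncl D z) = 0 := (hagree z hz).trans h1
  have h3 := hjac hxz
  have h4 : g (normSubIncl D (x - z)) = 0 := h3
  rw [map_sub, map_sub, h2, sub_zero] at h4
  exact h4

/-- The local rings of the normalization of a subalgebra are normal domains. -/
theorem isNormal_normSub (hE : EGA4loc.IsEssentiallyEtale A E) [IsReduced E] (D : Subalgebra A E)
    (N : Ideal (normSub D)) [N.IsPrime] :
    IsDomain (Localization.AtPrime N) ∧ IsIntegrallyClosed (Localization.AtPrime N) := by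
  let R := normSub D
  let L := fracSub A D
  haveI : IsReduced (FractionRing E) := inferInstanceAs (IsReduced (Localization (nonZeroDivisors E)))
  have hL : ∀ a ∈ nonZeroDivisors A, ∃ y ∈ L, algebraMap A (FractionRing E) a * y = 1 := by
    intro a ha
    obtain ⟨y, hy⟩ := (isUnit_algebraMap_fractionRing hE ha).exists_right_inv
    exact ⟨y, ⟨a, ha, 1, one_mem D, by rw [map_one]; exact hy⟩, hy⟩
  haveI := isArtinianRing_subalgebra hE L hL
  haveI : IsReduced R := isReduced_of_injective R.val Subtype.val_injective
  letI : Algebra R L := (Subalgebra.inclusion (inf_le_right : R ≤ L)).toRingHom.toAlgebra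
  have hRL : ∀ r : R, ((algebraMap R L r : L) : FractionRing E) = r := fun _ => rfl
  have hnum : ∀ l : L, ∃ a ∈ nonZeroDivisors A, ∃ d : D,
      algebraMap A (FractionRing E) a * l = (toNormSub D d : FractionRing E) := fun l => by
    obtain ⟨a, ha, d, hd, h⟩ := l.2
    exact ⟨a, ha, ⟨d, hd⟩, h⟩
  have hareg : ∀ a ∈ nonZeroDivisors A, algebraMap A R a ∈ nonZeroDivisors R := fun a ha => by
    rw [mem_nonZeroDivisors_iff_right]
    intro y hy
    exact Subtype.ext ((isUnit_algebraMap_fractionRing hE ha).mul_left_eq_zero.mp
      (congrArg Subtype.val hy :))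
  haveI : IsLocalization (nonZeroDivisors R) L :=
    { map_units := fun r => by
        refine IsArtinianRing.isUnit_iff_mem_nonZeroDivisors.mpr ?_
        rw [mem_nonZeroDivisors_iff_right]
        intro l hl
        obtain ⟨a, ha, d, hd⟩ := hnum l
        have h1 : toNormSub D d * (r : R) = 0 := Subtype.ext (by
          show (toNormSub D d : FractionRing E) * ((r : R) : FractionRing E) = 0
          rw [← hd, mul_assoc, show (l : FractionRing E) * ((r : R) : FractionRing E) = 0 from
            congrArg Subtype.val hl, mul_zero])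
        have h2 : toNormSub D d = 0 := (mem_nonZeroDivisors_iff_right.mp r.2) _ h1
        refine Subtype.ext ((isUnit_algebraMap_fractionRing hE ha).mul_right_eq_zero.mp ?_)
        rw [hd, h2]
        rfl
      surj := fun l => by
        obtain ⟨a, ha, d, hd⟩ := hnum l
        exact ⟨⟨toNormSub D d, ⟨_, hareg a ha⟩⟩, Subtype.ext (by
          show (l : FractionRing E) * algebraMap A (FractionRing E) a = (toNormSub D d : FractionRing E)
          rw [← hd, mul_comm])⟩
      exists_of_eq := fun {x y} h => ⟨1, by
        rw [show x = y from Subtype.ext (congrArg (Subtype.val : L → FractionRing E) h :)]⟩ }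
  haveI hfin : (minimalPrimes R).Finite := by
    haveI : Finite (MaximalSpectrum L) := inferInstance
    refine ((Set.finite_range fun m : MaximalSpectrum L => m.asIdeal.comap (algebraMap R L))).subset ?_
    intro p hp
    haveI := hp.1.1
    obtain ⟨Q, hQ, hQp⟩ := Ideal.exists_comap_eq_of_mem_minimalPrimes_of_injective
      (f := algebraMap R L) (fun x y h => Subtype.ext (congrArg (Subtype.val : L → FractionRing E) h :)) p hp
    haveI := hQ
    exact ⟨⟨Q, IsArtinianRing.isMaximal_of_isPrime Q⟩, hQp⟩
  refine GrothLib.TotalFrac.normal_of_isIntegrallyClosedIn hfin ?_ N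
  let F : FractionRing R ≃ₐ[R] L := IsLocalization.algEquiv (nonZeroDivisors R) _ _
  refine isIntegrallyClosedIn_iff.2 ⟨IsFractionRing.injective R _, fun {x} hx => ?_⟩
  obtain ⟨p, hp, hpx⟩ := hx.map F.toAlgHom
  have hint : IsIntegral D ((F x : L) : FractionRing E) := by
    let g : R →+* integralClosure D (FractionRing E) :=
      { toFun := fun r => ⟨r, r.2.1⟩
        map_one' := rfl
        map_mul' := fun _ _ => rfl
        map_zero' := rfl
        map_add' := fun _ _ => rfl }
    refine isIntegral_trans (A := integralClosure D (FractionRing E)) _ ⟨p.map g, hp.map g, ?_⟩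
    rw [eval₂_map]
    have h := congrArg L.val.toRingHom hpx
    rw [hom_eval₂, map_zero] at h
    exact h
  refine ⟨⟨(F x : L), hint, (F x : L).2⟩, F.injective ?_⟩
  rw [F.commutes]
  exact Subtype.ext rfl

/-- The radical of the big normalization is generated by that of the base. -/
theorem mem_map_jacobson_normBase [Module.Finite A (normBase A E)]
    (hE : EGA4loc.IsEssentiallyEtale A E) (z : integralClosure E (FractionRing E))
    (hz : ∀ M : Ideal (integralClosure E (FractionRing E)), M.IsMaximal → z ∈ M) :
    z ∈ Ideal.map ((normMul (A := A) (E := E)).toRingHom.comp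
        (Algebra.TensorProduct.includeLeft : normBase A E →ₐ[A] normBase A E ⊗[A] E).toRingHom)
      (Ideal.jacobson (⊥ : Ideal (normBase A E))) := by
  classical
  haveI := isLocalHom_algebraMap hE
  haveI := essFiniteType hE
  haveI := formallyEtale hE
  let T := integralClosure E (FractionRing E)
  let j : normBase A E →+* T := (normMul (A := A) (E := E)).toRingHom.comp
    (Algebra.TensorProduct.includeLeft : normBase A E →ₐ[A] normBase A E ⊗[A] E).toRingHom
  show z ∈ Ideal.map j _
  letI : Algebra (normBase A E) T := j.toAlgebra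
  have hbij := normMul_bijective (minimalPrimes.finite_of_isNoetherianRing A) hE
  let e : normBase A E ⊗[A] E ≃ₐ[normBase A E] T :=
    AlgEquiv.ofBijective { (normMul (A := A) (E := E)).toRingHom with commutes' := fun _ => rfl } hbij
  haveI : Algebra.FormallyUnramified (normBase A E) T := Algebra.FormallyUnramified.of_equiv (A := normBase A E ⊗[A] E) (B := T) e
  haveI : Algebra.EssFiniteType (normBase A E) T := (Algebra.EssFiniteType.iff_of_algEquiv (S := normBase A E ⊗[A] E) (T := T) e).mp inferInstance
  haveI : Algebra.IsIntegral A (normBase A E) := Algebra.IsIntegral.of_finite _ _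
  refine Ideal.mem_of_localization_maximal fun M hM => ?_
  haveI := hM
  haveI : (M.comap j).IsPrime := hM.isPrime.comap j
  have hP : (M.comap j).IsMaximal := by
    refine Ideal.isMaximal_of_isIntegral_of_isMaximal_comap (R := A) _ ?_
    convert maximalIdeal.isMaximal A
    ext a
    have hm := IsLocalRing.eq_maximalIdeal (Ideal.isMaximal_comap_of_isIntegral_of_isMaximal (R := E) M)
    show j (algebraMap A (normBase A E) a) ∈ M ↔ _
    rw [show j (algebraMap A (normBase A E) a) = algebraMap E T (algebraMap A E a) from
      Subtype.ext (by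
        show (normMul (algebraMap A (normBase A E) a ⊗ₜ[A] (1 : E)) : FractionRing E) = _
        rw [coe_normMul, map_one, mul_one]
        exact IsScalarTower.algebraMap_apply A E (FractionRing E) a),
      ← Ideal.mem_comap, hm]
    exact ⟨fun h ha => h (ha.map _), fun h ha => h (IsLocalHom.map_nonunit a ha)⟩
  haveI := hP
  have h : algebraMap T (Localization.AtPrime M) z ∈
      Ideal.map (algebraMap T (Localization.AtPrime M)) ((M.comap j).map j) := by
    letI : Algebra (Localization.AtPrime (M.comap j)) (Localization.AtPrime M) :=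
      (Localization.localRingHom (M.comap j) M j rfl).toAlgebra
    haveI : IsLocalHom (algebraMap (Localization.AtPrime (M.comap j)) (Localization.AtPrime M)) :=
      Localization.isLocalHom_localRingHom _ M j rfl
    haveI : IsScalarTower (normBase A E) (Localization.AtPrime (M.comap j)) (Localization.AtPrime M) :=
      IsScalarTower.of_algebraMap_eq fun r => by
        show _ = Localization.localRingHom _ M j rfl _
        rw [Localization.localRingHom_to_map]
        exact IsScalarTower.algebraMap_apply (normBase A E) T (Localization.AtPrime M) r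
    haveI : Algebra.EssFiniteType T (Localization.AtPrime M) :=
      Algebra.EssFiniteType.of_isLocalization _ M.primeCompl
    haveI : Algebra.EssFiniteType (normBase A E) (Localization.AtPrime M) :=
      Algebra.EssFiniteType.comp _ T _
    haveI : Algebra.EssFiniteType (Localization.AtPrime (M.comap j)) (Localization.AtPrime M) :=
      Algebra.EssFiniteType.of_comp (normBase A E) _ _
    haveI : Algebra.FormallyUnramified T (Localization.AtPrime M) :=
      Algebra.FormallyUnramified.of_isLocalization (Rₘ := Localization.AtPrime M) M.primeCompl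
    haveI : Algebra.FormallyUnramified (normBase A E) (Localization.AtPrime M) :=
      Algebra.FormallyUnramified.comp _ T _
    haveI : Algebra.FormallyUnramified (Localization.AtPrime (M.comap j)) (Localization.AtPrime M) :=
      Algebra.FormallyUnramified.of_restrictScalars (normBase A E) _ _
    rw [Ideal.map_map, show (algebraMap T (Localization.AtPrime M)).comp j =
        (algebraMap (Localization.AtPrime (M.comap j)) (Localization.AtPrime M)).comp
          (algebraMap (normBase A E) (Localization.AtPrime (M.comap j))) from RingHom.ext fun r =>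
        ((IsScalarTower.algebraMap_apply (normBase A E) T (Localization.AtPrime M) r).symm.trans
          (IsScalarTower.algebraMap_apply (normBase A E) (Localization.AtPrime (M.comap j)) _ r)),
      ← Ideal.map_map, Localization.AtPrime.map_eq_maximalIdeal]
    exact (Algebra.FormallyUnramified.map_maximalIdeal (R := Localization.AtPrime (M.comap j))
      (S := Localization.AtPrime M)).ge
      ((IsLocalization.AtPrime.to_map_mem_maximal_iff _ M z).mpr (hz M hM))
  obtain ⟨w, hw, hwz⟩ := (IsLocalization.algebraMap_mem_map_algebraMap_iff M.primeCompl _ _ _).mp h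
  -- a comaximal factor
  let P := M.comap j
  have hover : ∀ Q : Ideal (normBase A E), Q.IsMaximal → Q ∈ (maximalIdeal A).primesOver (normBase A E) :=
    fun Q hQ => ⟨hQ.isPrime, ⟨(IsLocalRing.eq_maximalIdeal
      (Ideal.isMaximal_comap_of_isIntegral_of_isMaximal (R := A) Q)).symm⟩⟩
  have hfinQ : {Q : Ideal (normBase A E) | Q.IsMaximal ∧ Q ≠ P}.Finite :=
    (Algebra.QuasiFinite.finite_primesOver (maximalIdeal A)).subset fun Q hQ => hover Q hQ.1
  have hex : ∀ Q : Ideal (normBase A E), Q.IsMaximal ∧ Q ≠ P → ∃ u ∈ Q, u ∉ P := fun Q hQ => by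
    by_contra hne
    simp only [not_exists, not_and, not_not] at hne
    exact hQ.2 (hQ.1.eq_of_le hP.ne_top hne)
  choose! u huQ huP using hex
  let U : normBase A E := ∏ Q ∈ hfinQ.toFinset, u Q
  have hUP : U ∉ P := fun h => by
    obtain ⟨Q, hQ, hQu⟩ := (Ideal.IsPrime.prod_mem_iff (p := P)).mp h
    exact huP Q ((hfinQ.mem_toFinset).mp hQ) hQu
  have hUJ : ∀ p ∈ P, U * p ∈ Ideal.jacobson (⊥ : Ideal (normBase A E)) := fun p hp => by
    rw [Ideal.jacobson, Submodule.mem_sInf]
    rintro (Q : Ideal (normBase A E)) ⟨-, hQ⟩
    by_cases h : Q = P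
    · exact Ideal.mul_mem_left _ _ (h ▸ hp)
    · exact Ideal.mul_mem_right _ _ (Ideal.mem_of_dvd _
        (Finset.dvd_prod_of_mem u (hfinQ.mem_toFinset.mpr ⟨hQ, h⟩)) (huQ Q ⟨hQ, h⟩))
  have hkey : j U * (w * z) ∈ Ideal.map j (Ideal.jacobson (⊥ : Ideal (normBase A E))) := by
    refine Submodule.span_induction (p := fun y _ => j U * y ∈ Ideal.map j _) (fun y hy => ?_) ?_
      (fun a b _ _ h h' => ?_) (fun c a _ h => ?_) hwz
    · obtain ⟨p, hp, rfl⟩ := hy
      rw [← map_mul]
      exact Ideal.mem_map_of_mem j (hUJ p hp)
    · rw [mul_zero]; exact zero_mem _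
    · rw [mul_add]; exact add_mem h h'
    · rw [smul_eq_mul, mul_left_comm]; exact Ideal.mul_mem_left _ _ h
  refine (IsLocalization.algebraMap_mem_map_algebraMap_iff M.primeCompl _ _ _).mpr
    ⟨j U * w, M.primeCompl.mul_mem hUP hw, ?_⟩
  rwa [mul_assoc]

end GrothLib.EssEtLoc
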