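import Groth.Agent.Lib.EssEtLoc.NormSub
import Mathlib.RingTheory.Filtration

/-!
# Structure of intermediate rings with residually generated semilocal normalization
-/

universe u

open IsLocalRing TensorProduct Polynomial

noncomputable section

namespace GrothLib.EssEtLoc

variable {A E : Type u} [CommRing A] [IsLocalRing A] [IsReduced A] [IsNoetherianRing A]
  [CommRing E] [IsLocalRing E] [Algebra A E]

theorem normSubIncl_toNormSub (D : Subalgebra A E) (d : D) :
    normSubIncl D (toNormSub D d) = algebraMap E (integralClosure E (FractionRing E)) (d : E) :=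
  Subtype.ext rfl

theorem jacobson_normBase_le [Module.Finite A (normBase A E)] (hE : EGA4loc.IsEssentiallyEtale A E)
    (M : Ideal (integralClosure E (FractionRing E))) [M.IsMaximal] :
    Ideal.jacobson (⊥ : Ideal (normBase A E)) ≤ M.comap
      ((normMul (A := A) (E := E)).toRingHom.comp
        (Algebra.TensorProduct.includeLeft : normBase A E →ₐ[A] normBase A E ⊗[A] E).toRingHom) := by
  haveI := isLocalHom_algebraMap hE
  haveI : Algebra.IsIntegral A (normBase A E) := Algebra.IsIntegral.of_finite _ _
  haveI := Ideal.IsPrime.comap (hK := (inferInstance : M.IsPrime))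
    ((normMul (A := A) (E := E)).toRingHom.comp
      (Algebra.TensorProduct.includeLeft : normBase A E →ₐ[A] normBase A E ⊗[A] E).toRingHom)
  refine sInf_le ⟨bot_le, Ideal.isMaximal_of_isIntegral_of_isMaximal_comap (R := A) _ ?_⟩
  convert maximalIdeal.isMaximal A
  ext a
  have hm := IsLocalRing.eq_maximalIdeal (Ideal.isMaximal_comap_of_isIntegral_of_isMaximal (R := E) M)
  show (normMul (A := A) (E := E)) (algebraMap A (normBase A E) a ⊗ₜ[A] (1 : E)) ∈ M ↔ _
  rw [show (normMul (A := A) (E := E)) (algebraMap A (normBase A E) a ⊗ₜ[A] (1 : E)) =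
      algebraMap E (integralClosure E (FractionRing E)) (algebraMap A E a) from Subtype.ext (by
        rw [coe_normMul, map_one, mul_one]
        exact IsScalarTower.algebraMap_apply A E (FractionRing E) a),
    ← Ideal.mem_comap, hm]
  exact ⟨fun h ha => h (ha.map _), fun h ha => h (IsLocalHom.map_nonunit a ha)⟩

/-- Ideals of the base normalization contract correctly to the normalization of a subalgebra. -/
theorem mem_map_of_normSubIncl_mem (hE : EGA4loc.IsEssentiallyEtale A E) [IsReduced E]
    (D : Subalgebra A E) [IsLocalRing D] [IsLocalHom (algebraMap D E)]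
    (hgen : ∀ x : normSub D, ∃ z ∈ Algebra.adjoin A
      ({y : normSub D | (y : FractionRing E) ∈ normBase A E} ∪ Set.range (toNormSub D)),
      x - z ∈ Ideal.jacobson (⊥ : Ideal (normSub D)))
    (I : Ideal (normBase A E)) (z : normSub D)
    (hz : normSubIncl D z ∈ I.map ((normMul (A := A) (E := E)).toRingHom.comp
      (Algebra.TensorProduct.includeLeft : normBase A E →ₐ[A] normBase A E ⊗[A] E).toRingHom)) :
    z ∈ I.map (Subalgebra.inclusion (normBase_le_normSub D)) := by
  classical
  haveI := isLocalHom_algebraMap hE
  haveI := essFiniteType hE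
  haveI := formallyEtale hE
  let T := integralClosure E (FractionRing E)
  let j : normBase A E →+* T := (normMul (A := A) (E := E)).toRingHom.comp
    (Algebra.TensorProduct.includeLeft : normBase A E →ₐ[A] normBase A E ⊗[A] E).toRingHom
  letI : Algebra (normBase A E) T := j.toAlgebra
  have hbij := normMul_bijective (minimalPrimes.finite_of_isNoetherianRing A) hE
  let e : normBase A E ⊗[A] E ≃ₐ[normBase A E] T :=
    AlgEquiv.ofBijective { (normMul (A := A) (E := E)).toRingHom with commutes' := fun _ => rfl } hbij
  haveI : Algebra.FormallyUnramified (normBase A E) T :=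
    Algebra.FormallyUnramified.of_equiv (A := normBase A E ⊗[A] E) (B := T) e
  haveI : Algebra.EssFiniteType (normBase A E) T :=
    (Algebra.EssFiniteType.iff_of_algEquiv (S := normBase A E ⊗[A] E) (T := T) e).mp inferInstance
  let i : normBase A E →+* normSub D := (Subalgebra.inclusion (normBase_le_normSub D)).toRingHom
  letI : Algebra (normBase A E) (normSub D) := i.toAlgebra
  letI : Algebra (normSub D) T := (normSubIncl D).toRingHom.toAlgebra
  have hji : (normSubIncl D).toRingHom.comp i = j := RingHom.ext fun r => Subtype.ext (by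
    show (r : FractionRing E) = (normMul (r ⊗ₜ[A] (1 : E)) : FractionRing E)
    rw [coe_normMul, map_one, mul_one])
  haveI : IsScalarTower (normBase A E) (normSub D) T :=
    IsScalarTower.of_algebraMap_eq fun r => (RingHom.congr_fun hji r).symm
  haveI : Algebra.EssFiniteType (normSub D) T := Algebra.EssFiniteType.of_comp (normBase A E) _ _
  haveI : Algebra.FormallyUnramified (normSub D) T :=
    Algebra.FormallyUnramified.of_restrictScalars (normBase A E) _ _
  show z ∈ I.map i
  refine Ideal.mem_of_localization_maximal fun N hN => ?_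
  haveI := hN
  obtain ⟨M, hM, hMN⟩ := exists_comap_normSubIncl_eq hE D hgen N
  haveI := hM
  obtain ⟨hd1, hd2⟩ := isNormal_normSub hE D N
  haveI := hd1
  haveI := hd2
  have hker : ∀ d : normSub D, (∃ w ∉ M, w * algebraMap (normSub D) T d = 0) →
      ∃ u ∉ N, u * d = 0 := by
    rintro d ⟨w, hw, hwd⟩
    let L := fracSub A D
    have hL : ∀ a ∈ nonZeroDivisors A, ∃ y ∈ L, algebraMap A (FractionRing E) a * y = 1 := by
      intro a ha
      obtain ⟨y, hy⟩ := (isUnit_algebraMap_fractionRing hE ha).exists_right_inv
      exact ⟨y, ⟨a, ha, 1, one_mem D, by rw [map_one]; exact hy⟩, hy⟩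
    haveI := isArtinianRing_subalgebra hE L hL
    haveI : IsNoetherianRing E := Algebra.EssFiniteType.isNoetherianRing A E
    haveI : IsReduced (FractionRing E) := inferInstanceAs (IsReduced (Localization (nonZeroDivisors E)))
    haveI : IsReduced L := isReduced_of_injective L.val Subtype.val_injective
    obtain ⟨r, hr, hrM⟩ := Ideal.exists_minimalPrimes_le (I := (⊥ : Ideal T)) (J := M) bot_le
    obtain ⟨Q, hQ, hQr⟩ := Ideal.exists_comap_eq_of_mem_minimalPrimes_of_injective
      (f := T.val.toRingHom) Subtype.val_injective r hr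
    haveI := hQ
    haveI : (Q.comap L.val).IsMaximal := by
      haveI : (Q.comap L.val).IsPrime := Ideal.IsPrime.comap _
      exact IsArtinianRing.isMaximal_of_isPrime _
    obtain ⟨ε, hε, hεQ, hεz⟩ := exists_idempotent_notMem_mul_eq_zero (Q.comap L.val)
    have hεint : IsIntegral D (ε : FractionRing E) := ⟨X * (X - 1), monic_X.mul (monic_X_sub_C 1), by
      rw [← aeval_def, map_mul, map_sub, aeval_X, map_one, mul_sub, mul_one, sub_eq_zero]
      exact congrArg Subtype.val hε⟩
    let ε' : normSub D := ⟨ε, hεint, ε.2⟩
    refine ⟨ε', fun hεN => ?_, Subtype.ext ?_⟩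
    · have h1 : normSubIncl D ε' ∈ M := by rw [← hMN] at hεN; exact hεN
      have h2 : (1 - normSubIncl D ε') ∈ M := by
        refine hrM (hQr ▸ ?_)
        show ((1 - normSubIncl D ε' : T) : FractionRing E) ∈ Q
        refine ((hQ.mem_or_mem ?_).resolve_left hεQ : (1 - (ε : FractionRing E)) ∈ Q)
        rw [mul_sub, mul_one, Subalgebra.coe_val, show (ε : FractionRing E) * ε = ε from congrArg Subtype.val hε, sub_self]
        exact Q.zero_mem
      exact hM.ne_top ((Ideal.eq_top_iff_one M).mpr (by simpa using M.add_mem h1 h2))
    · have hdQ : (d : FractionRing E) ∈ Q := by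
        refine ((hQ.mem_or_mem ?_).resolve_left fun hwQ => hw (hrM (hQr ▸ hwQ)) :
          (d : FractionRing E) ∈ Q)
        have := congrArg Subtype.val hwd
        show (w : FractionRing E) * (d : FractionRing E) ∈ Q
        rw [show (w : FractionRing E) * (d : FractionRing E) = 0 from this]
        exact Q.zero_mem
      exact (congrArg (Subtype.val : L → FractionRing E) (hεz ⟨(d : FractionRing E), d.2.2⟩ hdQ) :)
  obtain ⟨u, hu, huz⟩ := exists_notMem_mul_mem_of_normal N M hMN hker
    (I.map i) z (by
      show normSubIncl D z ∈ Ideal.map (normSubIncl D).toRingHom (I.map i)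
      rw [Ideal.map_map, hji]
      exact hz)
  exact (IsLocalization.algebraMap_mem_map_algebraMap_iff N.primeCompl _ _ _).mpr ⟨u, hu, huz⟩

/-- The normalization of a subalgebra is finite and its radical comes from the base. -/
theorem normSub_structure [Module.Finite A (normBase A E)] (hN : CAlg.IsNagata A)
    (hE : EGA4loc.IsEssentiallyEtale A E) [IsReduced E] (D : Subalgebra A E) [IsLocalRing D]
    [IsLocalHom (algebraMap D E)] (hfin : {N : Ideal (normSub D) | N.IsMaximal}.Finite)
    (hgen : ∀ x : normSub D, ∃ z ∈ Algebra.adjoin A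
      ({y : normSub D | (y : FractionRing E) ∈ normBase A E} ∪ Set.range (toNormSub D)),
      x - z ∈ Ideal.jacobson (⊥ : Ideal (normSub D))) :
    Algebra.EssFiniteType A D ∧
      (∃ s : Finset (normSub D), ∀ y : normSub D,
        (y : FractionRing E) ∈ (Algebra.adjoin D (((s : Set (normSub D)).image Subtype.val)))) ∧
      (Ideal.jacobson (⊥ : Ideal (normSub D)) ≤
        (Ideal.jacobson (⊥ : Ideal (normBase A E))).map (Subalgebra.inclusion (normBase_le_normSub D))) ∧
      ∃ n : ℕ, ∀ d : D, (d : E) ∈ (maximalIdeal A ^ n).map (algebraMap A E) →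
        d ∈ (maximalIdeal A).map (algebraMap A D) := by
  classical
  haveI := isLocalHom_algebraMap hE
  haveI : IsLocalHom (algebraMap A E) := isLocalHom_algebraMap hE
  let hle : normSub D ≤ (integralClosure E (FractionRing E)).restrictScalars A :=
    fun x hx => isIntegral_of_mem_normSub hx
  have hsurj : ∀ N : Ideal (normSub D), N.IsMaximal →
      ∃ M : Ideal ((integralClosure E (FractionRing E)).restrictScalars A),
        M.IsMaximal ∧ M.comap (Subalgebra.inclusion hle) = N := fun N hN' => by
    haveI := hN'
    obtain ⟨M, hM, hMN⟩ := exists_comap_normSubIncl_eq hE D hgen N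
    exact ⟨M, hM, hMN⟩
  have hEFT := essFiniteType_of_normalization_semilocal hN hE D (normSub D)
    (fun _ => Iff.rfl) hle hfin hsurj
  obtain ⟨s, hden⟩ := exists_finset_denominators hN hE D (normSub D) (fun _ => Iff.rfl) hle hfin hsurj
  letI : Algebra D (normSub D) := (toNormSub D).toRingHom.toAlgebra
  haveI : IsScalarTower A D (normSub D) :=
    IsScalarTower.of_algebraMap_eq fun a => ((toNormSub D).commutes a).symm
  have hintD : ∀ y : normSub D, IsIntegral D y := fun y => by
    obtain ⟨p, hp, hpy⟩ := y.2.1
    refine ⟨p, hp, Subtype.ext ?_⟩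
    have hcomp : (normSub D).val.toRingHom.comp (algebraMap D (normSub D)) =
        algebraMap D (FractionRing E) := RingHom.ext fun _ => rfl
    show (normSub D).val.toRingHom (eval₂ (algebraMap D (normSub D)) y p) = _
    rw [hom_eval₂, hcomp]
    exact hpy
  haveI : Algebra.IsIntegral D (normSub D) := ⟨hintD⟩
  -- generated by the finite set
  have hadj : ∀ y : normSub D, y ∈ Algebra.adjoin D (s : Set (normSub D)) := by
    intro y
    obtain ⟨u, hu, huu, huy⟩ := hden y
    have h1 : ∀ z ∈ Algebra.adjoin A (s : Set (normSub D)), z ∈ Algebra.adjoin D (s : Set (normSub D)) :=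
      fun z hz => (Algebra.adjoin_le (S := (Algebra.adjoin D (s : Set (normSub D))).restrictScalars A)
        Algebra.subset_adjoin) hz
    obtain ⟨v, hv'⟩ := huu.exists_right_inv
    have hvS : v ∈ Algebra.adjoin D (s : Set (normSub D)) := by
      obtain ⟨p, hp, hpv⟩ := hintD v
      have h0 : v ^ p.natDegree + ∑ i ∈ Finset.range p.natDegree, p.coeff i • v ^ i = 0 := by
        rw [← aeval_def, aeval_eq_sum_range, Finset.sum_range_succ, hp.coeff_natDegree, one_smul,
          add_comm] at hpv
        exact hpv
      rcases Nat.eq_zero_or_pos p.natDegree with hn | hn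
      · rw [hn, pow_zero, Finset.sum_range_zero, add_zero] at h0
        have hv0 : v = 0 := by rw [← mul_one v, h0, mul_zero]
        rw [hv0]; exact zero_mem _
      · obtain ⟨m, hm⟩ := Nat.exists_eq_add_of_le hn
        have hvm : u ^ m * v ^ p.natDegree = v := by
          rw [hm, pow_add, pow_one, mul_left_comm, ← mul_pow, hv', one_pow, mul_one]
        have h1' : v = -∑ i ∈ Finset.range p.natDegree, p.coeff i • u ^ (m - i) := by
          rw [eq_neg_iff_add_eq_zero]
          calc v + ∑ i ∈ Finset.range p.natDegree, p.coeff i • u ^ (m - i)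
              = u ^ m * (v ^ p.natDegree + ∑ i ∈ Finset.range p.natDegree, p.coeff i • v ^ i) := by
                rw [mul_add, hvm, Finset.mul_sum]
                refine congrArg _ (Finset.sum_congr rfl fun i hi => ?_)
                have him : i ≤ m := by have := Finset.mem_range.mp hi; omega
                rw [mul_smul_comm, show u ^ m = u ^ (m - i) * u ^ i by rw [← pow_add, Nat.sub_add_cancel him],
                  mul_assoc, ← mul_pow, hv', one_pow, mul_one]
            _ = 0 := by rw [h0, mul_zero]
        rw [h1']
        exact neg_mem (sum_mem fun i _ => Subalgebra.smul_mem _ (pow_mem (h1 u hu) _) _)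
    rw [show y = u * y * v by rw [mul_right_comm, hv', one_mul]]
    exact mul_mem (h1 _ huy) hvS
  refine ⟨hEFT, ⟨s, fun y => ?_⟩, ?_, ?_⟩
  · have h : (y : FractionRing E) ∈ (Algebra.adjoin D (s : Set (normSub D))).map
        ({ (normSub D).val.toRingHom with commutes' := fun _ => rfl } : normSub D →ₐ[D] FractionRing E) :=
      ⟨y, hadj y, rfl⟩
    rw [AlgHom.map_adjoin] at h
    exact h
  · intro z hz
    refine mem_map_of_normSubIncl_mem hE D hgen _ z (mem_map_jacobson_normBase hE _ fun M hM => ?_)
    haveI := hM
    exact (sInf_le ⟨bot_le, isMaximal_comap_normSubIncl hE D M⟩ :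
      Ideal.jacobson (⊥ : Ideal (normSub D)) ≤ M.comap (normSubIncl D)) hz
  · haveI : Module.Finite D (normSub D) :=
      ⟨by
        have h : (Algebra.adjoin D (s : Set (normSub D))).toSubmodule.FG :=
          fg_adjoin_of_finite s.finite_toSet fun z _ => hintD z
        rwa [show (Algebra.adjoin D (s : Set (normSub D))).toSubmodule = ⊤ from
          eq_top_iff.mpr fun y _ => hadj y] at h⟩
    haveI := hEFT
    haveI : IsNoetherianRing D := Algebra.EssFiniteType.isNoetherianRing A D
    let I : Ideal D := (maximalIdeal A).map (algebraMap A D)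
    let p : Submodule D (normSub D) := LinearMap.range (Algebra.linearMap D (normSub D))
    obtain ⟨k, hk⟩ := Ideal.exists_pow_inf_eq_pow_smul I p
    refine ⟨k + 1, fun d hd => ?_⟩
    have h1 : toNormSub D d ∈ ((maximalIdeal A ^ (k + 1)).map (algebraMap A (normBase A E))).map
        (Subalgebra.inclusion (normBase_le_normSub D)) := by
      refine mem_map_of_normSubIncl_mem hE D hgen _ _ ?_
      rw [normSubIncl_toNormSub, Ideal.map_map]
      have h2 := Ideal.mem_map_of_mem (algebraMap E (integralClosure E (FractionRing E))) hd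
      rw [Ideal.map_map] at h2
      convert h2 using 2
      refine RingHom.ext fun a => Subtype.ext ?_
      show (normMul (algebraMap A (normBase A E) a ⊗ₜ[A] (1 : E)) : FractionRing E) = _
      rw [coe_normMul, map_one, mul_one]
      exact IsScalarTower.algebraMap_apply A E (FractionRing E) a
    have h3 : toNormSub D d ∈ I ^ (k + 1) • (⊤ : Submodule D (normSub D)) := by
      rw [Ideal.smul_top_eq_map, Submodule.restrictScalars_mem, ← Ideal.map_pow, Ideal.map_map,
        ← IsScalarTower.algebraMap_eq]
      have hcomp : (Subalgebra.inclusion (normBase_le_normSub D)).toRingHom.comp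
          (algebraMap A (normBase A E)) = algebraMap A (normSub D) := RingHom.ext fun _ => rfl
      rw [← hcomp, ← Ideal.map_map]
      exact h1
    have h4 : toNormSub D d ∈ I ^ (k + 1) • (⊤ : Submodule D (normSub D)) ⊓ p := ⟨h3, d, rfl⟩
    rw [hk (k + 1) (Nat.le_succ k), Nat.add_sub_cancel_left, pow_one] at h4
    have h5 : toNormSub D d ∈ I • p := Submodule.smul_mono le_rfl inf_le_right h4
    rw [show p = Submodule.map (Algebra.linearMap D (normSub D)) ⊤ from (Submodule.map_top _).symm,
      ← Submodule.map_smul''] at h5
    obtain ⟨d', hd', hdd⟩ := h5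
    have hd'' : d' = d := Subtype.ext (IsFractionRing.injective E (FractionRing E)
      (congrArg Subtype.val hdd :))
    have hd3 : d' ∈ I := by simpa using hd'
    exact hd'' ▸ hd3

end GrothLib.EssEtLoc
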