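import Groth.Agent.Lib.EssEtLoc.Basic
import Mathlib.RingTheory.Unramified.LocalStructure

/-!
# Standard étale presentations of unramified local algebras
-/

universe u

open IsLocalRing

namespace GrothLib.EssEtLoc

/-- A local algebra, unramified and essentially of finite type, is a quotient of a local ring of a
standard étale algebra. -/
theorem exists_standardEtale_surjection {A D : Type u} [CommRing A] [CommRing D] [IsLocalRing D]
    [Algebra A D] [Algebra.EssFiniteType A D] [Algebra.FormallyUnramified A D] :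
    ∃ (P : StandardEtalePair A) (q : Ideal P.Ring) (_ : q.IsPrime)
      (θ : Localization.AtPrime q →ₐ[A] D), Function.Surjective θ ∧ IsLocalHom θ.toRingHom := by
  let D₀ := Algebra.EssFiniteType.subalgebra A D
  let p : Ideal D₀ := (maximalIdeal D).comap (algebraMap D₀ D)
  have hsub : Algebra.EssFiniteType.submonoid A D = p.primeCompl := by
    refine SetLike.ext fun y => ?_
    show IsUnit (algebraMap D₀ D y) ↔ algebraMap D₀ D y ∉ maximalIdeal D
    rw [mem_maximalIdeal, mem_nonunits_iff, not_not]
  haveI : IsLocalization.AtPrime D p := by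
    show IsLocalization p.primeCompl D
    rw [← hsub]
    infer_instance
  let eD : Localization.AtPrime p ≃ₐ[D₀] D := IsLocalization.algEquiv p.primeCompl _ _
  haveI : Algebra.IsUnramifiedAt A p :=
    Algebra.FormallyUnramified.of_equiv (eD.restrictScalars A).symm
  obtain ⟨f, hf, P, φ, hφ⟩ := Algebra.IsUnramifiedAt.exists_hasStandardEtaleSurjectionOn (R := A) p
  have hfu : IsUnit (algebraMap D₀ D f) := by
    by_contra h
    exact hf ((mem_maximalIdeal _).mpr h)
  let l : Localization.Away f →ₐ[A] D :=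
    IsLocalization.Away.liftAlgHom f (f := IsScalarTower.toAlgHom A D₀ D) hfu
  let χ : P.Ring →ₐ[A] D := l.comp φ
  let q : Ideal P.Ring := (maximalIdeal D).comap χ.toRingHom
  have hq : ∀ c, c ∈ q ↔ ¬ IsUnit (χ c) := fun c => mem_maximalIdeal _
  have hu : ∀ y : q.primeCompl, IsUnit (χ y) := fun y => not_not.mp fun h => y.2 ((hq _).mpr h)
  let θ : Localization.AtPrime q →ₐ[A] D := IsLocalization.liftAlgHom (f := χ) hu
  have hθ : ∀ c, θ (algebraMap P.Ring _ c) = χ c := fun c => IsLocalization.lift_eq _ c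
  have hmk : ∀ c (y : q.primeCompl), θ (IsLocalization.mk' _ c y) * χ y = χ c := fun c y => by
    rw [← hθ, ← hθ c, ← map_mul, IsLocalization.mk'_spec]
  refine ⟨P, q, inferInstance, θ, fun d => ?_, ⟨fun z hz => ?_⟩⟩
  · obtain ⟨⟨a, b⟩, h⟩ := IsLocalization.surj p.primeCompl d
    have hD₀ : ∀ y : D₀, ∃ c, χ c = algebraMap D₀ D y := fun y => by
      obtain ⟨c, hc⟩ := hφ (algebraMap D₀ (Localization.Away f) y)
      refine ⟨c, ?_⟩
      show l (φ c) = _
      rw [hc]
      exact IsLocalization.lift_eq _ y
    obtain ⟨a', ha'⟩ := hD₀ a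
    obtain ⟨b', hb'⟩ := hD₀ (b : D₀)
    have hbq : b' ∈ q.primeCompl := fun hb =>
      (hq _).mp hb (by rw [hb']; exact IsLocalization.map_units D b)
    refine ⟨IsLocalization.mk' _ a' ⟨b', hbq⟩, (hu ⟨b', hbq⟩).mul_right_cancel ?_⟩
    rw [hmk, ha', hb']
    exact h.symm
  · obtain ⟨c, y, rfl⟩ := IsLocalization.exists_mk'_eq q.primeCompl z
    have hc : IsUnit (χ c) := by
      rw [← hmk c y]
      exact hz.mul (hu y)
    rw [IsLocalization.AtPrime.isUnit_mk'_iff _ q]
    exact fun h => (hq c).mp h hc

theorem formallyUnramified_of_map_maximalIdeal {A D : Type u} [CommRing A] [IsLocalRing A]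
    [CommRing D] [IsLocalRing D] [Algebra A D] [IsLocalHom (algebraMap A D)]
    [Algebra.EssFiniteType A D] [Algebra.IsSeparable (ResidueField A) (ResidueField D)]
    (hm : (maximalIdeal A).map (algebraMap A D) = maximalIdeal D) :
    Algebra.FormallyUnramified A D :=
  Algebra.FormallyUnramified.iff_map_maximalIdeal_eq.mpr ⟨inferInstance, hm⟩

/-- In the flat case the presentation is an isomorphism. -/
theorem exists_standardEtale_equiv {A D : Type u} [CommRing A] [IsLocalRing A] [CommRing D]
    [IsLocalRing D] [Algebra A D] [IsLocalHom (algebraMap A D)] [Algebra.EssFiniteType A D]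
    [Algebra.FormallyUnramified A D] [Module.Flat A D] :
    ∃ (P : StandardEtalePair A) (q : Ideal P.Ring) (_ : q.IsPrime),
      Nonempty (D ≃ₐ[A] Localization.AtPrime q) := by
  obtain ⟨P, q, _, θ, hθ, hloc⟩ := exists_standardEtale_surjection (A := A) (D := D)
  exact ⟨P, q, inferInstance, ⟨(AlgEquiv.ofBijective θ ⟨injective_of_isLocalHom θ, hθ⟩).symm⟩⟩

end GrothLib.EssEtLoc
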