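import Groth.Agent.Lib.EssEtLoc.Stage
import Groth.Agent.Lib.EssEtLoc.Frac
import Groth.Agent.Lib.EssEtLoc.Standard
import Groth.Agent.Lib.Hensel.Normal
import Mathlib.RingTheory.DedekindDomain.IntegralClosure
import Mathlib.RingTheory.Unramified.Field

/-!
# Intersections of subfields with the strict henselization of a normal domain
-/

universe u

open IsLocalRing

noncomputable section

namespace GrothLib.EssEtLoc

/-- The integral closure of a normal Noetherian domain in the fraction field of an essentially étale
local algebra is finite. -/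
theorem finite_integralClosure_fractionRing {A E : Type u} [CommRing A] [IsLocalRing A] [IsDomain A]
    [IsIntegrallyClosed A] [IsNoetherianRing A] [CommRing E] [IsDomain E] [Algebra A E]
    (hE : EGA4loc.IsEssentiallyEtale A E) :
    Module.Finite A (integralClosure A (FractionRing E)) := by
  have hmin := minimalPrimes.finite_of_isNoetherianRing A
  obtain ⟨-, i1, i2, i3⟩ := fractionRing_structure hmin hE
  letI := i1
  haveI := i2
  haveI : Module.Finite (FractionRing A) (FractionRing E) := i3
  haveI := formallyEtale hE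
  haveI : Algebra.FormallyEtale A (FractionRing E) :=
    Algebra.FormallyEtale.comp A E (FractionRing E)
  haveI : Algebra.FormallyUnramified (FractionRing A) (FractionRing E) :=
    Algebra.FormallyUnramified.of_restrictScalars A _ _
  haveI : Algebra.IsSeparable (FractionRing A) (FractionRing E) :=
    Algebra.FormallyUnramified.isSeparable _ _
  exact IsIntegralClosure.finite A (FractionRing A) (FractionRing E) _

/-- An unramified local algebra over a normal local domain, injectively mapped, is flat. -/
theorem flat_of_unramified_of_normal {A E : Type u} [CommRing A] [IsLocalRing A] [IsDomain A]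
    [IsIntegrallyClosed A] [CommRing E] [IsLocalRing E] [Algebra A E]
    [IsLocalHom (algebraMap A E)] [Algebra.EssFiniteType A E] [Algebra.FormallyUnramified A E]
    (hinj : Function.Injective (algebraMap A E)) : Module.Flat A E := by
  obtain ⟨P, q, _, θ, hθ, hloc⟩ := exists_standardEtale_surjection (A := A) (D := E)
  haveI : Module.Flat A (Localization.AtPrime q) := Module.Flat.trans A P.Ring _
  suffices h : Function.Injective θ from
    Module.Flat.of_linearEquiv (AlgEquiv.ofBijective θ ⟨h, hθ⟩).symm.toLinearEquiv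
  haveI : Algebra.FormallyEtale A (Localization.AtPrime q) :=
    Algebra.FormallyEtale.comp A P.Ring _
  obtain ⟨hdom, -⟩ := GrothLib.Hensel.isNormalDomain_localization_of_etale A q
  haveI : IsDomain (Localization.AtPrime q) := by
    haveI : NoZeroDivisors (Localization.AtPrime q) := ⟨fun {x y} hxy => by
      obtain ⟨a, s, rfl⟩ := IsLocalization.exists_mk'_eq q.primeCompl x
      obtain ⟨b, t, rfl⟩ := IsLocalization.exists_mk'_eq q.primeCompl y
      rw [← IsLocalization.mk'_mul, IsLocalization.mk'_eq_zero_iff] at hxy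
      obtain ⟨u, hu⟩ := hxy
      rw [IsLocalization.mk'_eq_zero_iff, IsLocalization.mk'_eq_zero_iff]
      rcases hdom (u * a) b (by rw [mul_assoc]; exact hu) with ⟨v, hv, h⟩ | ⟨v, hv, h⟩
      · exact Or.inl ⟨⟨v, hv⟩ * u, by rw [Submonoid.coe_mul, mul_assoc]; exact h⟩
      · exact Or.inr ⟨⟨v, hv⟩, h⟩⟩
    exact NoZeroDivisors.to_isDomain _
  haveI : Algebra.EssFiniteType A (Localization.AtPrime q) := Algebra.EssFiniteType.comp A P.Ring _
  rw [injective_iff_map_eq_zero]
  intro x hx
  by_contra hx0
  let K := FractionRing A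
  have hAq : Function.Injective (algebraMap A (Localization.AtPrime q)) := fun a b h =>
    hinj (by simpa using congrArg θ h)
  let M : Submonoid (Localization.AtPrime q) :=
    (nonZeroDivisors A).map (algebraMap A (Localization.AtPrime q))
  have hM : M ≤ nonZeroDivisors (Localization.AtPrime q) := by
    rintro _ ⟨a, ha, rfl⟩
    exact mem_nonZeroDivisors_of_ne_zero fun h =>
      nonZeroDivisors.ne_zero ha (hAq (by rw [h, map_zero]))
  let T := Localization M
  haveI : IsDomain T := IsLocalization.isDomain_of_le_nonZeroDivisors _ hM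
  have hu : ∀ a : nonZeroDivisors A, IsUnit (algebraMap A T a) := fun a => by
    rw [IsScalarTower.algebraMap_apply A (Localization.AtPrime q) T]
    exact IsLocalization.map_units T (⟨_, a, a.2, rfl⟩ : M)
  letI : Algebra K T := (IsLocalization.lift (g := algebraMap A T) hu).toAlgebra
  haveI : IsScalarTower A K T :=
    .of_algebraMap_eq fun a => (IsLocalization.lift_eq hu a).symm
  haveI : Algebra.FormallyEtale A T := Algebra.FormallyEtale.comp A (Localization.AtPrime q) T
  haveI : Algebra.FormallyUnramified K T := Algebra.FormallyUnramified.of_restrictScalars A _ _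
  haveI : Algebra.EssFiniteType A T :=
    Algebra.EssFiniteType.comp A (Localization.AtPrime q) (Localization M)
  haveI : Algebra.EssFiniteType K T := Algebra.EssFiniteType.of_comp A _ _
  haveI : Module.Finite K T := Module.Finite.of_quasiFinite
  have hxT : algebraMap (Localization.AtPrime q) T x ≠ 0 := fun h =>
    hx0 (IsLocalization.injective T hM (by rw [h, map_zero]))
  haveI : Algebra.IsIntegral K T := Algebra.IsIntegral.of_finite K T
  have hF : IsField T := isField_of_isIntegral_of_isField' (R := K) (Field.toIsField K)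
  obtain ⟨y, hy⟩ := hF.mul_inv_cancel hxT
  obtain ⟨y₀, ⟨_, a, ha, rfl⟩, rfl⟩ := IsLocalization.exists_mk'_eq M y
  have h1 : x * y₀ = algebraMap A (Localization.AtPrime q) a := IsLocalization.injective T hM (by
    have := congrArg (· * algebraMap (Localization.AtPrime q) T (algebraMap A _ a)) hy
    rw [mul_assoc, one_mul] at this
    rw [map_mul, ← this]
    congr 1
    exact (IsLocalization.mk'_spec T y₀ (⟨_, a, ha, rfl⟩ : M)).symm)
  have h2 := congrArg θ h1
  rw [map_mul, hx, zero_mul, AlgHom.commutes] at h2
  exact nonZeroDivisors.ne_zero ha (hinj (by rw [← h2, map_zero]))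

/-- An integral element which is a fraction of elements of an integrally closed subalgebra lies
in it. -/
theorem mem_of_mul_eq {A S : Type u} [CommRing A] [CommRing S] [IsDomain S] [Algebra A S]
    (D : Subalgebra A S) (hD : IsIntegrallyClosed D) {x y z : S} (hy : y ∈ D) (hz : z ∈ D)
    (hz0 : z ≠ 0) (hx : IsIntegral A x) (h : x * z = y) : x ∈ D := by
  let j : FractionRing D →ₐ[D] FractionRing S :=
    IsFractionRing.liftAlgHom (A := D) (K := FractionRing D) (g := Algebra.ofId D (FractionRing S))
      ((IsFractionRing.injective S (FractionRing S)).comp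
        (Subtype.val_injective : Function.Injective (algebraMap D S)))
  let w := algebraMap D (FractionRing D) ⟨y, hy⟩ / algebraMap D (FractionRing D) ⟨z, hz⟩
  have hw : j w = algebraMap S (FractionRing S) x := by
    rw [map_div₀, AlgHom.commutes, AlgHom.commutes, div_eq_iff]
    · show algebraMap S (FractionRing S) y =
        algebraMap S (FractionRing S) x * algebraMap S (FractionRing S) z
      rw [← map_mul, h]
    · exact fun h0 => hz0 ((IsFractionRing.injective S (FractionRing S))
        ((show algebraMap S (FractionRing S) z = 0 from h0).trans (map_zero _).symm))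
  have hint : IsIntegral D (j w) :=
    hw ▸ (hx.map (IsScalarTower.toAlgHom A S (FractionRing S))).tower_top
  obtain ⟨d, hd⟩ := IsIntegrallyClosed.algebraMap_eq_of_integral (R := D)
    ((isIntegral_algHom_iff j j.toRingHom.injective).mp hint)
  have : (d : S) = x := IsFractionRing.injective S (FractionRing S) (by
    rw [← hw, ← hd, AlgHom.commutes]
    rfl)
  exact this ▸ d.2

variable {A S : Type u} [CommRing A] [IsLocalRing A] [IsDomain A] [IsIntegrallyClosed A]
  [IsNoetherianRing A] [CommRing S] [IsLocalRing S] [IsDomain S] [Algebra A S]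
  [IsLocalHom (algebraMap A S)] [_root_.Hensel.IsStrictHenselization A S]

set_option maxHeartbeats 1000000 in
/-- The subfield generated by finitely many elements meets the strict henselization of a normal
local domain in an essentially étale subalgebra, contained in every normal dominated subalgebra
containing those elements. -/
theorem exists_normal_inter (s : Finset S) :
    ∃ D₁ : Subalgebra A S, (s : Set S) ⊆ D₁ ∧
      (∀ x : S, algebraMap S (FractionRing S) x ∈ Subfield.closure
        (Set.range (algebraMap A (FractionRing S)) ∪ algebraMap S (FractionRing S) '' (s : Set S)) →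
        x ∈ D₁) ∧
      (∃ _ : IsLocalRing D₁, IsLocalHom (algebraMap D₁ S) ∧ EGA4loc.IsEssentiallyEtale A D₁) ∧
      ∀ D : Subalgebra A S, IsIntegrallyClosed D → IsLocalHom (algebraMap D S) →
        (s : Set S) ⊆ D → D₁ ≤ D := by
  classical
  let K := FractionRing S
  let L := Subfield.closure
    (Set.range (algebraMap A K) ∪ algebraMap S K '' (s : Set S))
  let D₀ : Subalgebra A S :=
    { L.toSubring.toSubsemiring.comap (algebraMap S K) with
      algebraMap_mem' := fun a => by
        show algebraMap S K (algebraMap A S a) ∈ L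
        rw [← IsScalarTower.algebraMap_apply]
        exact Subfield.subset_closure (Or.inl ⟨a, rfl⟩) }
  have hD₀ : ∀ x, x ∈ D₀ ↔ algebraMap S K x ∈ L := fun _ => Iff.rfl
  obtain ⟨E, _, hsE, hlocE, hE⟩ := exists_subalgebra (A := A) (S := S) s
  haveI := isLocalHom_algebraMap hE
  haveI := formallyEtale hE
  haveI := essFiniteType hE
  haveI : Module.Flat A S := GrothLib.Hensel.IsStrictHenselization.flat (R := A) (S := S)
  haveI : Module.Flat E S := flat_of_formallyUnramified (A := A)
  haveI : Module.FaithfullyFlat E S := Module.FaithfullyFlat.of_flat_of_isLocalHom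
  have hinjK : Function.Injective (algebraMap S K) := IsFractionRing.injective S K
  -- fractions
  have hfrac : ∀ (B : Subalgebra A S), (s : Set S) ⊆ B → ∀ l ∈ L, ∃ a ∈ B, ∃ b ∈ B,
      algebraMap S K b ≠ 0 ∧ l * algebraMap S K b = algebraMap S K a := by
    intro B hsB l hl
    obtain ⟨y, hy, z, hz, rfl⟩ := Subfield.mem_closure_iff.mp hl
    have hcl : ∀ w ∈ Subring.closure
        (Set.range (algebraMap A K) ∪ algebraMap S K '' (s : Set S)),
        ∃ c ∈ B, algebraMap S K c = w := fun w hw =>
      (Subring.closure_le (t := B.toSubring.map (algebraMap S K))).mpr (by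
        rintro v (⟨a, rfl⟩ | ⟨c, hc, rfl⟩)
        · exact ⟨algebraMap A S a, B.algebraMap_mem a, (IsScalarTower.algebraMap_apply A S K a).symm⟩
        · exact ⟨c, hsB hc, rfl⟩) hw
    obtain ⟨a, ha, rfl⟩ := hcl y hy
    obtain ⟨b, hb, rfl⟩ := hcl z hz
    by_cases hb0 : algebraMap S K b = 0
    · exact ⟨0, zero_mem _, 1, one_mem _, by simp, by simp [hb0]⟩
    · exact ⟨a, ha, b, hb, hb0, div_mul_cancel₀ _ hb0⟩
  have hD₀E : D₀ ≤ E := fun x hx => by
    obtain ⟨a, ha, b, hb, hb0, hab⟩ := hfrac E hsE _ hx
    rw [← map_mul] at hab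
    have h := hinjK hab
    have h1 : (⟨a, ha⟩ : E) ∈ ((Ideal.span {(⟨b, hb⟩ : E)}).map (algebraMap E S)).comap (algebraMap E S) := by
      rw [Ideal.mem_comap]
      show a ∈ _
      rw [← h]
      exact Ideal.mul_mem_left _ _ (Ideal.mem_map_of_mem (algebraMap E S)
        (Ideal.mem_span_singleton_self _))
    rw [Ideal.comap_map_eq_self_of_faithfullyFlat] at h1
    obtain ⟨c, hc⟩ := Ideal.mem_span_singleton'.mp h1
    have hc' : (c : S) * b = a := congrArg Subtype.val hc
    have : x = c := mul_right_cancel₀ (fun h0 => hb0 (by rw [h0, map_zero])) (h.trans hc'.symm)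
    rw [this]
    exact c.2
  haveI : IsDomain E := inferInstance
  have hAS : Function.Injective (algebraMap A S) := by
    haveI : Module.FaithfullyFlat A S := Module.FaithfullyFlat.of_flat_of_isLocalHom
    exact FaithfulSMul.algebraMap_injective A S
  let A' : Subalgebra A S := integralClosure A S ⊓ D₀
  have hA'E : A' ≤ E := inf_le_right.trans hD₀E
  haveI : Module.Finite A A' := by
    haveI := finite_integralClosure_fractionRing (A := A) (E := E) hE
    haveI : IsNoetherian A (integralClosure A (FractionRing E)) := isNoetherian_of_isNoetherianRing_of_finite A _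
    let g : A' →ₐ[A] integralClosure A (FractionRing E) :=
      ((IsScalarTower.toAlgHom A E (FractionRing E)).comp
        (Subalgebra.inclusion hA'E)).codRestrict _ fun x =>
          ((show IsIntegral A (x : S) from x.2.1) |> fun hx =>
            ((isIntegral_algHom_iff A'.val Subtype.val_injective).mp hx).map
              ((IsScalarTower.toAlgHom A E (FractionRing E)).comp
                (Subalgebra.inclusion hA'E)))
    exact Module.Finite.of_injective g.toLinearMap fun x y h => by
      have h' : algebraMap E (FractionRing E) (Subalgebra.inclusion hA'E x) =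
        algebraMap E (FractionRing E) (Subalgebra.inclusion hA'E y) := congrArg Subtype.val h
      exact Subalgebra.inclusion_injective hA'E (IsFractionRing.injective E (FractionRing E) h')
  let D₁ : Subalgebra A S :=
    { carrier := {x | ∃ b ∈ A', IsUnit b ∧ x * b ∈ A'}
      mul_mem' := fun {x y} ⟨b, hb, hbu, hx⟩ ⟨c, hc, hcu, hy⟩ => ⟨b * c, mul_mem hb hc, hbu.mul hcu,
        by rw [mul_mul_mul_comm]; exact mul_mem hx hy⟩
      add_mem' := fun {x y} ⟨b, hb, hbu, hx⟩ ⟨c, hc, hcu, hy⟩ => ⟨b * c, mul_mem hb hc, hbu.mul hcu,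
        by
          rw [show (x + y) * (b * c) = x * b * c + y * c * b by ring]
          exact add_mem (mul_mem hx hc) (mul_mem hy hb)⟩
      algebraMap_mem' := fun a => ⟨1, one_mem _, isUnit_one, by rw [mul_one]; exact A'.algebraMap_mem a⟩ }
  have hA'D₁ : A' ≤ D₁ := fun x hx => ⟨1, one_mem _, isUnit_one, by rwa [mul_one]⟩
  have hD₁D₀ : D₁ ≤ D₀ := fun x ⟨b, hb, hbu, hx⟩ => by
    rw [hD₀]
    have h1 : algebraMap S K (x * b) ∈ L := hx.2
    have h2 : algebraMap S K b ∈ L := hb.2
    have h3 := L.div_mem h1 h2
    rwa [map_mul, mul_div_assoc, div_self (hbu.map (algebraMap S K)).ne_zero, mul_one] at h3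
  have hunit : ∀ d : D₁, IsUnit (d : S) → IsUnit d := by
    rintro ⟨x, b, hb, hbu, hx⟩ hxu
    obtain ⟨y, hy⟩ := (hxu.mul hbu).exists_right_inv
    have hy' : y ∈ D₁ := ⟨x * b, hx, hxu.mul hbu, by rw [mul_comm, hy]; exact one_mem _⟩
    refine IsUnit.of_mul_eq_one (⟨b * y, mul_mem (hA'D₁ hb) hy'⟩ : D₁) (Subtype.ext ?_)
    show x * (b * y) = 1
    rw [← mul_assoc, hy]
  haveI : IsLocalRing D₁ := IsLocalRing.of_nonunits_add fun a b ha hb hab =>
    (maximalIdeal S).add_mem (fun h => ha (hunit a h)) (fun h => hb (hunit b h)) (hab.map D₁.val)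
  haveI hD₁loc : IsLocalHom (algebraMap D₁ S) := ⟨hunit⟩
  letI : Algebra A' D₁ := (Subalgebra.inclusion hA'D₁).toRingHom.toAlgebra
  haveI : IsScalarTower A A' D₁ := IsScalarTower.of_algebraMap_eq fun _ => rfl
  let N : Submonoid A' := (IsUnit.submonoid S).comap A'.val.toRingHom.toMonoidHom
  haveI hlocD₁ : IsLocalization N D₁ := by
    rw [isLocalization_iff]
    refine ⟨fun b => hunit _ b.2, fun d => ?_, fun {x y} h => ⟨1, ?_⟩⟩
    · obtain ⟨b, hb, hbu, hx⟩ := d.2
      exact ⟨(⟨(d : S) * b, hx⟩, ⟨⟨b, hb⟩, hbu⟩), Subtype.ext rfl⟩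
    · have h' : (x : S) = y := congrArg (Subtype.val : D₁ → S) h
      rw [Subtype.ext h']
  haveI : Algebra.EssFiniteType A' D₁ := Algebra.EssFiniteType.of_isLocalization D₁ N
  haveI : Algebra.EssFiniteType A D₁ := Algebra.EssFiniteType.comp A A' D₁
  haveI : IsNoetherianRing A' := IsNoetherianRing.of_finite A A'
  haveI : IsDomain A' := inferInstance
  haveI hnS : IsIntegrallyClosed S :=
    ((GrothLib.Hensel.IsStrictHenselization.isNormalDomain_iff (R := A) (S := S)).mp
      ⟨inferInstance, inferInstance⟩).2
  have hint : ∀ x ∈ L, IsIntegral A x → ∃ y ∈ A', algebraMap S K y = x := fun x hxL hx => by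
    obtain ⟨y, rfl⟩ := IsIntegrallyClosed.algebraMap_eq_of_integral (R := S) (K := K) hx.tower_top
    refine ⟨y, ⟨?_, hxL⟩, rfl⟩
    exact (isIntegral_algHom_iff (IsScalarTower.toAlgHom A S K) hinjK).mp hx
  haveI : IsIntegrallyClosed A' := by
    let i : A' →+* K := (algebraMap S K).comp A'.val.toRingHom
    have hi : Function.Injective i := hinjK.comp Subtype.val_injective
    let j : FractionRing A' →+* K := IsFractionRing.lift hi
    have hj : ∀ c : A', j (algebraMap A' _ c) = algebraMap S K (c : S) := fun c =>
      IsFractionRing.lift_algebraMap hi c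
    refine (isIntegrallyClosed_iff (FractionRing A')).mpr fun {w} hw => ?_
    have hwA : IsIntegral A w := isIntegral_trans (A := A') w hw
    let jA : FractionRing A' →ₐ[A] K :=
      { j with
        commutes' := fun a => by
          show j (algebraMap A (FractionRing A') a) = _
          rw [IsScalarTower.algebraMap_apply A A' (FractionRing A'), hj,
            IsScalarTower.algebraMap_apply A S K]
          rfl }
    obtain ⟨y, hy, hyw⟩ := hint (j w) (by
      obtain ⟨c, d, -, rfl⟩ := IsFractionRing.div_surjective (A := A') w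
      rw [map_div₀, hj, hj]
      exact L.div_mem c.2.2 d.2.2) (hwA.map jA)
    refine ⟨⟨y, hy⟩, j.injective ?_⟩
    rw [hj]; exact hyw
  haveI : IsIntegrallyClosed D₁ := isIntegrallyClosed_of_isLocalization _ N
    (fun b hb => mem_nonZeroDivisors_of_ne_zero fun h => by
      subst h
      exact not_isUnit_zero (show IsUnit ((0 : A') : S) from hb))
  have hD₁E : D₁ ≤ E := hD₁D₀.trans hD₀E
  letI : Algebra D₁ E := (Subalgebra.inclusion hD₁E).toRingHom.toAlgebra
  haveI : IsScalarTower A D₁ E := IsScalarTower.of_algebraMap_eq fun _ => rfl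
  haveI : IsLocalHom (algebraMap D₁ E) := ⟨fun d hd => hunit d (hd.map E.val)⟩
  haveI : IsLocalHom (algebraMap A D₁) := ⟨fun a ha => by
    have h := ha.map (algebraMap D₁ S)
    rw [← IsScalarTower.algebraMap_apply] at h
    exact IsLocalHom.map_nonunit a h⟩
  haveI : Algebra.EssFiniteType D₁ E := Algebra.EssFiniteType.of_comp A D₁ E
  haveI : Algebra.FormallyUnramified D₁ E := Algebra.FormallyUnramified.of_restrictScalars A D₁ E
  haveI : Module.Flat D₁ E := flat_of_unramified_of_normal (Subalgebra.inclusion_injective hD₁E)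
  haveI : Module.FaithfullyFlat D₁ E := Module.FaithfullyFlat.of_flat_of_isLocalHom
  have hm : (maximalIdeal A).map (algebraMap A D₁) = maximalIdeal D₁ := by
    rw [← Ideal.comap_map_eq_self_of_faithfullyFlat (B := E) ((maximalIdeal A).map (algebraMap A D₁)),
      Ideal.map_map, ← IsScalarTower.algebraMap_eq, map_maximalIdeal hE,
      IsLocalRing.maximalIdeal_comap]
  have hD₀D₁ : D₀ ≤ D₁ := fun x hx => by
    have hxE := hD₀E hx
    obtain ⟨-, i1, i2, i3⟩ := fractionRing_structure (minimalPrimes.finite_of_isNoetherianRing A) hE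
    letI := i1
    haveI := i2
    haveI := i3
    have halg : IsAlgebraic A (algebraMap E (FractionRing E) ⟨x, hxE⟩) :=
      (IsFractionRing.isAlgebraic_iff A (FractionRing A) (FractionRing E)).mpr
        (Algebra.IsIntegral.isIntegral (R := FractionRing A) _).isAlgebraic
    obtain ⟨a, ha, hint'⟩ := halg.exists_integral_multiple
    have h2 : IsIntegral A (a • x) := by
      rw [← IsScalarTower.toAlgHom_apply A E (FractionRing E), ← map_smul] at hint'
      exact ((isIntegral_algHom_iff _ (IsFractionRing.injective E (FractionRing E))).mp hint').map E.val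
    have hc : a • x ∈ A' := ⟨h2, D₀.smul_mem hx a⟩
    have h1 : (⟨a • x, hA'D₁ hc⟩ : D₁) ∈
        ((Ideal.span {algebraMap A D₁ a}).map (algebraMap D₁ E)).comap (algebraMap D₁ E) := by
      rw [Ideal.mem_comap, Ideal.map_span, Set.image_singleton, Ideal.mem_span_singleton']
      exact ⟨⟨x, hxE⟩, Subtype.ext (by
        show x * algebraMap A S a = a • x
        rw [Algebra.smul_def, mul_comm])⟩
    rw [Ideal.comap_map_eq_self_of_faithfullyFlat, Ideal.mem_span_singleton'] at h1
    obtain ⟨d, hd⟩ := h1
    have hd' : (d : S) * algebraMap A S a = a • x := congrArg Subtype.val hd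
    have : (d : S) = x := mul_right_cancel₀
      (fun h0 => ha (hAS (h0.trans (map_zero _).symm)))
      (hd'.trans (by rw [Algebra.smul_def, mul_comm]))
    exact this ▸ d.2
  refine ⟨D₁, fun x hx => hD₀D₁ (Subfield.subset_closure (Or.inr ⟨x, hx, rfl⟩)),
    fun x hx => hD₀D₁ hx, ⟨inferInstance, hD₁loc,
      isEssentiallyEtale_of_map_maximalIdeal D₁ hm⟩, fun D hD hDloc hsD => ?_⟩
  have hA'D : A' ≤ D := fun x hx => by
    obtain ⟨y, hy, z, hz, hz0, h⟩ := hfrac D hsD _ hx.2
    refine mem_of_mul_eq D hD hy hz (fun h0 => hz0 (by rw [h0, map_zero])) hx.1 (hinjK ?_)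
    rw [map_mul]
    exact h
  rintro x ⟨b, hb, hbu, hx⟩
  obtain ⟨u, hu⟩ := (hDloc.map_nonunit (⟨b, hA'D hb⟩ : D) hbu).exists_right_inv
  have hu' : b * (u : S) = 1 := congrArg Subtype.val hu
  have : x = x * b * u := by rw [mul_assoc, hu', mul_one]
  rw [this]
  exact mul_mem (hA'D hx) u.2

end GrothLib.EssEtLoc
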