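import Mathlib.RingTheory.Ideal.Operations
import Mathlib.RingTheory.Finiteness.Ideal
import Mathlib.RingTheory.LocalRing.MaximalIdeal.Basic
import Mathlib.RingTheory.Jacobson.Ideal
import Mathlib.RingTheory.Ideal.GoingUp

/-!
# Successive approximation by a subring
-/

universe u

open IsLocalRing

noncomputable section

namespace GrothLib.EssEtLoc

/-- Approximation modulo an ideal generated inside a subring iterates to its powers. -/
theorem exists_sub_mem_pow {W : Type*} [CommRing W] (N : Subring W) (G : Set W) (hG : G ⊆ N)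
    (h : ∀ w : W, ∃ n ∈ N, w - n ∈ Ideal.span G) (k : ℕ) (w : W) :
    ∃ n ∈ N, w - n ∈ Ideal.span G ^ k := by
  let J := Ideal.span G
  have step : ∀ k, ∀ y ∈ J ^ k, ∃ n ∈ N, n ∈ J ^ k ∧ y - n ∈ J ^ (k + 1) := by
    intro k
    induction k with
    | zero =>
      intro y _
      obtain ⟨n, hn, hy⟩ := h y
      exact ⟨n, hn, by simp, by simpa using hy⟩
    | succ k ih =>
      intro y hy
      rw [pow_succ] at hy
      refine Submodule.mul_induction_on hy (fun a ha b hb => ?_) (fun a b ha hb => ?_)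
      · obtain ⟨na, hna, hnaJ, ha'⟩ := ih a ha
        refine Submodule.span_induction (p := fun b _ => ∃ n ∈ N, n ∈ J ^ (k + 1) ∧
          a * b - n ∈ J ^ (k + 2)) (fun g hg => ?_) ?_ (fun b b' _ _ hb hb' => ?_)
          (fun c b hbJ hb' => ?_) hb
        · refine ⟨na * g, N.mul_mem hna (hG hg), ?_, ?_⟩
          · rw [pow_succ]; exact Ideal.mul_mem_mul hnaJ (Ideal.subset_span hg)
          · rw [← sub_mul, pow_succ]; exact Ideal.mul_mem_mul ha' (Ideal.subset_span hg)
        · exact ⟨0, N.zero_mem, Ideal.zero_mem _, by simp⟩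
        · obtain ⟨n, hn, hnJ, hb⟩ := hb
          obtain ⟨n', hn', hnJ', hb'⟩ := hb'
          exact ⟨n + n', N.add_mem hn hn', Ideal.add_mem _ hnJ hnJ',
            by rw [mul_add, add_sub_add_comm]; exact Ideal.add_mem _ hb hb'⟩
        · obtain ⟨n, hn, hnJ, hb'⟩ := hb'
          obtain ⟨m, hm, hcm⟩ := h c
          refine ⟨m * n, N.mul_mem hm hn, Ideal.mul_mem_left _ _ hnJ, ?_⟩
          rw [smul_eq_mul, show a * (c * b) - m * n = (c - m) * (a * b) + m * (a * b - n) by ring]
          refine Ideal.add_mem _ ?_ (Ideal.mul_mem_left _ _ hb')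
          rw [mul_comm (c - m), pow_succ]
          exact Ideal.mul_mem_mul (by rw [pow_succ]; exact Ideal.mul_mem_mul ha hbJ) hcm
      · obtain ⟨n, hn, hnJ, ha⟩ := ha
        obtain ⟨n', hn', hnJ', hb⟩ := hb
        exact ⟨n + n', N.add_mem hn hn', Ideal.add_mem _ hnJ hnJ',
          by rw [add_sub_add_comm]; exact Ideal.add_mem _ ha hb⟩
  induction k with
  | zero => exact ⟨0, N.zero_mem, by simp⟩
  | succ k ih =>
    obtain ⟨n, hn, hwn⟩ := ih
    obtain ⟨n', hn', -, h'⟩ := step k _ hwn
    exact ⟨n + n', N.add_mem hn hn', by rwa [← sub_sub]⟩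

/-- A power of the radical of a finite algebra over a local ring lies in the extended maximal
ideal. -/
theorem exists_jacobson_pow_le (A B : Type u) [CommRing A] [IsLocalRing A] [CommRing B] [Algebra A B]
    [Algebra.IsIntegral A B] [IsNoetherianRing B] :
    ∃ n : ℕ, Ideal.jacobson (⊥ : Ideal B) ^ n ≤ (maximalIdeal A).map (algebraMap A B) := by
  refine Ideal.exists_pow_le_of_le_radical_of_fg ?_ (IsNoetherian.noetherian _)
  rw [Ideal.radical_eq_sInf]
  refine le_sInf fun P ⟨hP, hPp⟩ => sInf_le ⟨bot_le, ?_⟩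
  haveI := hPp
  refine Ideal.isMaximal_of_isIntegral_of_isMaximal_comap (R := A) P ?_
  rw [← (maximalIdeal.isMaximal A).eq_of_le (Ideal.IsPrime.ne_top inferInstance)
    (Ideal.map_le_iff_le_comap.mp hP)]
  exact maximalIdeal.isMaximal A

end GrothLib.EssEtLoc
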