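import Groth.Agent.Lib.EssEtLoc.SepFinite
import Mathlib.RingTheory.Ideal.GoingUp
import Mathlib.RingTheory.LocalRing.ResidueField.Ideal

/-!
# Residue fields of maximal ideals in integral extensions
-/

universe u

open IsLocalRing

noncomputable section

namespace GrothLib.EssEtLoc

variable {D V : Type u} [CommRing D] [IsLocalRing D] [CommRing V] [Algebra D V] [Algebra.IsIntegral D V]
  (M : Ideal V) [M.IsMaximal]

/-- The subfield generated by the image of the base. -/
abbrev baseField : Subfield M.ResidueField :=
  Subfield.closure (Set.range ((algebraMap V M.ResidueField).comp (algebraMap D V)))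

theorem algebraMap_residueField_eq_zero {v : V} : algebraMap V M.ResidueField v = 0 ↔ v ∈ M := by
  rw [IsScalarTower.algebraMap_apply V (V ⧸ M) M.ResidueField,
    map_eq_zero_iff _ M.bijective_algebraMap_quotient_residueField.injective, Ideal.Quotient.algebraMap_eq,
    Ideal.Quotient.eq_zero_iff_mem]

theorem exists_eq_of_mem_baseField {x : M.ResidueField} (hx : x ∈ baseField (D := D) M) :
    ∃ d : D, algebraMap V M.ResidueField (algebraMap D V d) = x := by
  let f := (algebraMap V M.ResidueField).comp (algebraMap D V)
  let F : Subfield M.ResidueField :=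
    { toSubring := f.range
      inv_mem' := by
        rintro _ ⟨d, rfl⟩
        by_cases hd : IsUnit d
        · obtain ⟨u, rfl⟩ := hd
          exact ⟨((u⁻¹ : Dˣ) : D), (map_units_inv f u)⟩
        · have h0 : f d = 0 := (algebraMap_residueField_eq_zero M).mpr (by
            rw [← Ideal.mem_comap,
              IsLocalRing.eq_maximalIdeal (Ideal.isMaximal_comap_of_isIntegral_of_isMaximal (R := D) M)]
            exact hd)
          exact ⟨0, by rw [h0, inv_zero, map_zero]⟩ }
  have hle : baseField (D := D) M ≤ F := Subfield.closure_le.mpr fun y hy => hy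
  exact hle hx

theorem finiteDimensional_of_finite_quotient [Module.Finite D (V ⧸ M)] :
    FiniteDimensional (baseField (D := D) M) M.ResidueField := by
  classical
  obtain ⟨G, hG⟩ : (⊤ : Submodule D (V ⧸ M)).FG := Module.Finite.fg_top
  refine ⟨⟨G.image (algebraMap (V ⧸ M) M.ResidueField), eq_top_iff.mpr fun x _ => ?_⟩⟩
  obtain ⟨y, rfl⟩ := M.bijective_algebraMap_quotient_residueField.surjective x
  refine Submodule.span_induction (fun z hz => Submodule.subset_span ?_) (by rw [map_zero]; exact zero_mem _)
    (fun z z' _ _ h h' => by rw [map_add]; exact add_mem h h') (fun c z _ h => ?_)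
    (hG ▸ Submodule.mem_top : y ∈ Submodule.span D (G : Set (V ⧸ M)))
  · exact Finset.mem_coe.mpr (Finset.mem_image_of_mem _ hz)
  · have hc : algebraMap V M.ResidueField (algebraMap D V c) ∈ baseField (D := D) M :=
      Subfield.subset_closure ⟨c, rfl⟩
    rw [show algebraMap (V ⧸ M) M.ResidueField (c • z) =
      (⟨_, hc⟩ : baseField (D := D) M) • algebraMap (V ⧸ M) M.ResidueField z from by
        rw [Algebra.smul_def, map_mul]
        rfl]
    exact Submodule.smul_mem _ _ h

theorem finite_quotient_of_finiteDimensional [FiniteDimensional (baseField (D := D) M) M.ResidueField] :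
    Module.Finite D (V ⧸ M) := by
  classical
  obtain ⟨G, hG⟩ : (⊤ : Submodule (baseField (D := D) M) M.ResidueField).FG := Module.Finite.fg_top
  obtain ⟨g, hg⟩ := M.bijective_algebraMap_quotient_residueField.surjective.hasRightInverse
  refine ⟨⟨G.image g, eq_top_iff.mpr fun y _ => ?_⟩⟩
  have h := Submodule.span_induction (p := fun x _ => g x ∈ Submodule.span D (↑(G.image g) : Set (V ⧸ M)))
    (fun z hz => Submodule.subset_span (Finset.mem_coe.mpr (Finset.mem_image_of_mem _ hz)))
    (by
      rw [show g 0 = 0 from M.bijective_algebraMap_quotient_residueField.injective (by rw [hg, map_zero])]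
      exact zero_mem _)
    (fun z z' _ _ h h' => by
      rw [show g (z + z') = g z + g z' from
        M.bijective_algebraMap_quotient_residueField.injective (by rw [map_add, hg, hg, hg])]
      exact add_mem h h')
    (fun c z _ h => by
      obtain ⟨d, hd⟩ := exists_eq_of_mem_baseField M c.2
      rw [show g (c • z) = d • g z from M.bijective_algebraMap_quotient_residueField.injective (by
        rw [Algebra.smul_def d, map_mul, hg, hg, Algebra.smul_def]
        exact congrArg (· * z) hd.symm)]
      exact Submodule.smul_mem _ _ h)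
    (hG ▸ Submodule.mem_top : algebraMap (V ⧸ M) M.ResidueField y ∈
      Submodule.span (baseField (D := D) M) (G : Set M.ResidueField))
  rwa [M.bijective_algebraMap_quotient_residueField.injective (hg _)] at h

/-- A residue field with finite separable closure over the base is finite, given an ambient residue field
which is separable over a finitely generated extension. -/
theorem finiteDimensional_baseField {A T : Type u} [CommRing A] [CommRing T] [Algebra A D] [Algebra A T]
    [Algebra.IsIntegral A T] (j : V →+* T) (hj : j.IsIntegral) (hjinj : Function.Injective j)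
    (hjA : ∀ a, j (algebraMap D V (algebraMap A D a)) = algebraMap A T a) (G : Finset T)
    (hT : ∀ M' : Ideal T, M'.IsMaximal → ∀ w : T, w ∈ Subring.closure
      (Set.range (algebraMap A T) ∪ G ∪ {s | ∃ p : Polynomial A, p.Monic ∧ p.aeval s ∈ M' ∧
        (p.map (Ideal.Quotient.mk (M'.comap (algebraMap A T)))).Separable}))
    [FiniteDimensional (baseField (D := D) M) (separableClosure (baseField (D := D) M) M.ResidueField)] :
    FiniteDimensional (baseField (D := D) M) M.ResidueField := by
  classical
  letI := j.toAlgebra
  haveI : Algebra.IsIntegral V T := ⟨hj⟩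
  obtain ⟨M', hM', hMM'⟩ := Ideal.exists_ideal_over_maximal_of_isIntegral (S := T) M
    (le_of_eq_of_le ((RingHom.injective_iff_ker_eq_bot _).mp hjinj) bot_le)
  haveI := hM'
  letI : Field (T ⧸ M') := Ideal.Quotient.field M'
  let e : (V ⧸ M) ≃+* M.ResidueField :=
    RingEquiv.ofBijective (algebraMap (V ⧸ M) M.ResidueField) M.bijective_algebraMap_quotient_residueField
  let φ : M.ResidueField →+* T ⧸ M' :=
    (Ideal.quotientMap M' j hMM'.ge).comp e.symm.toRingHom
  have hφ : ∀ v : V, φ (algebraMap V M.ResidueField v) = Ideal.Quotient.mk M' (j v) := fun v => by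
    show Ideal.quotientMap M' j hMM'.ge (e.symm (algebraMap V M.ResidueField v)) = _
    rw [show e.symm (algebraMap V M.ResidueField v) = Ideal.Quotient.mk M v from e.symm_apply_eq.mpr rfl,
      Ideal.quotientMap_mk]
  let g : A →+* baseField (D := D) M :=
    (((algebraMap V M.ResidueField).comp (algebraMap D V)).comp (algebraMap A D)).codRestrict _
      fun a => Subfield.subset_closure ⟨_, rfl⟩
  letI : Algebra M.ResidueField (T ⧸ M') := φ.toAlgebra
  letI : Algebra (baseField (D := D) M) (T ⧸ M') := (φ.comp (baseField (D := D) M).subtype).toAlgebra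
  haveI hst := IsScalarTower.of_algebraMap_eq (R := baseField (D := D) M) (S := M.ResidueField)
    (A := T ⧸ M') fun _ => rfl
  have hg : (algebraMap (baseField (D := D) M) (T ⧸ M')).comp g = algebraMap A (T ⧸ M') :=
    RingHom.ext fun a => by
      show φ (algebraMap V M.ResidueField (algebraMap D V (algebraMap A D a))) = _
      rw [hφ, hjA]
      rfl
  haveI : Algebra.IsAlgebraic (baseField (D := D) M) (T ⧸ M') := ⟨fun l => by
    obtain ⟨w, rfl⟩ := Ideal.Quotient.mk_surjective l
    obtain ⟨p, hp, hpw⟩ := (Algebra.IsIntegral.isIntegral (R := A) w).map (Ideal.Quotient.mkₐ A M')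
    exact IsIntegral.isAlgebraic ⟨p.map g, hp.map _, by rw [Polynomial.eval₂_map, hg]; exact hpw⟩⟩
  refine finiteDimensional_of_separableClosure (L := T ⧸ M') (G.image (Ideal.Quotient.mk M')) fun l => ?_
  set Λ := IntermediateField.adjoin (baseField (D := D) M)
    (↑(G.image (Ideal.Quotient.mk M')) : Set (T ⧸ M'))
  obtain ⟨w, rfl⟩ := Ideal.Quotient.mk_surjective l
  rw [← mem_separableClosure_iff]
  have hA : ∀ a, Ideal.Quotient.mk M' (algebraMap A T a) ∈ Λ := fun a => by
    rw [Ideal.Quotient.mk_algebraMap, ← hg]
    exact Λ.algebraMap_mem _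
  suffices hle : Subring.closure _ ≤
      (separableClosure Λ (T ⧸ M')).toSubfield.toSubring.comap (Ideal.Quotient.mk M') from hle (hT M' hM' w)
  rw [Subring.closure_le]
  rintro x ((⟨a, rfl⟩ | hx) | ⟨p, hp, hpx, hsep⟩)
  · exact (separableClosure Λ (T ⧸ M')).algebraMap_mem ⟨_, hA a⟩
  · exact (separableClosure Λ (T ⧸ M')).algebraMap_mem
      ⟨_, IntermediateField.subset_adjoin _ _ (Finset.mem_coe.mpr (Finset.mem_image_of_mem _ hx))⟩
  · show Ideal.Quotient.mk M' x ∈ separableClosure Λ (T ⧸ M')
    rw [mem_separableClosure_iff]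
    refine IsSeparable.tower_top (F := baseField (D := D) M) _ ?_
    let gbar : A ⧸ M'.comap (algebraMap A T) →+* baseField (D := D) M :=
      Ideal.Quotient.lift _ g fun a ha => (algebraMap (baseField (D := D) M) (T ⧸ M')).injective (by
        rw [← RingHom.comp_apply, hg, map_zero, ← Ideal.Quotient.mk_algebraMap]
        exact Ideal.Quotient.eq_zero_iff_mem.mpr ha)
    have hsep' : (p.map g).Separable := by
      rw [show g = gbar.comp (Ideal.Quotient.mk _) from (Ideal.Quotient.lift_comp_mk _ _ _).symm,
        ← Polynomial.map_map]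
      exact hsep.map
    refine hsep'.of_dvd (minpoly.dvd _ _ ?_)
    rw [Polynomial.aeval_def, Polynomial.eval₂_map, hg, ← Polynomial.aeval_def, ← Ideal.Quotient.mkₐ_eq_mk A,
      Polynomial.aeval_algHom_apply, Ideal.Quotient.mkₐ_eq_mk]
    exact Ideal.Quotient.eq_zero_iff_mem.mpr hpx

end GrothLib.EssEtLoc
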