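import Mathlib.RingTheory.LocalRing.ResidueField.Basic
import Mathlib.RingTheory.TensorProduct.Maps
import Mathlib.RingTheory.Ideal.Quotient.Operations
import Mathlib.LinearAlgebra.Basis.VectorSpace
import Mathlib.LinearAlgebra.Projection

/-!
# Residual intersection of tensor products
-/

universe u

open IsLocalRing TensorProduct

noncomputable section

namespace GrothLib.EssEtLoc

/-- The residual image of a subalgebra as a subspace over the residue field of the base. -/
def residueSubspace {A S : Type u} [CommRing A] [IsLocalRing A] [CommRing S] [IsLocalRing S]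
    [Algebra A S] [IsLocalHom (algebraMap A S)] (P : Subalgebra A S) :
    Submodule (ResidueField A) (ResidueField S) where
  carrier := residue S '' P
  zero_mem' := ⟨0, P.zero_mem, map_zero _⟩
  add_mem' := by
    rintro _ _ ⟨x, hx, rfl⟩ ⟨y, hy, rfl⟩
    exact ⟨x + y, P.add_mem hx hy, map_add _ _ _⟩
  smul_mem' := by
    rintro c _ ⟨x, hx, rfl⟩
    obtain ⟨a, rfl⟩ := residue_surjective c
    refine ⟨algebraMap A S a * x, P.mul_mem (P.algebraMap_mem a) hx, ?_⟩
    rw [map_mul, Algebra.smul_def]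
    rfl

/-- An element congruent modulo an ideal of the base to elements over two subalgebras is congruent to
one over a subalgebra containing their residual intersection. -/
theorem exists_congr_of_residue_inter {A B S : Type u} [CommRing A] [IsLocalRing A] [CommRing B]
    [Algebra A B] [CommRing S] [IsLocalRing S] [Algebra A S] [IsLocalHom (algebraMap A S)]
    (PC PD PW : Subalgebra A S)
    (hint : ∀ c ∈ PC, ∀ d ∈ PD, c - d ∈ maximalIdeal S → ∃ w ∈ PW, c - w ∈ maximalIdeal S)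
    (I : Ideal B) (t₁ : B ⊗[A] PC) (t₂ : B ⊗[A] PD)
    (h : Algebra.TensorProduct.map (AlgHom.id A B) PC.val t₁ -
      Algebra.TensorProduct.map (AlgHom.id A B) PD.val t₂ ∈
        I.map (Algebra.TensorProduct.includeLeft : B →ₐ[A] B ⊗[A] S)) :
    ∃ t₃ : B ⊗[A] PW, Algebra.TensorProduct.map (AlgHom.id A B) PC.val t₁ -
      Algebra.TensorProduct.map (AlgHom.id A B) PW.val t₃ ∈
        I.map (Algebra.TensorProduct.includeLeft : B →ₐ[A] B ⊗[A] S) ⊔
          (maximalIdeal S).map (Algebra.TensorProduct.includeRight : S →ₐ[A] B ⊗[A] S) := by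
  classical
  let U₁ := residueSubspace PC
  let U₂ := residueSubspace PD
  obtain ⟨X₀, hX₀⟩ := (U₁ ⊓ U₂).exists_isCompl
  obtain ⟨Z₀, hZ₀⟩ := (U₁ ⊔ (X₀ ⊓ U₂)).exists_isCompl
  have hdis : Disjoint U₁ (X₀ ⊓ U₂) := by
    rw [Submodule.disjoint_def]
    intro x hx hx'
    exact (Submodule.disjoint_def.mp hX₀.disjoint) x ⟨hx, hx'.2⟩ hx'.1
  have hcompl : IsCompl U₁ ((X₀ ⊓ U₂) ⊔ Z₀) :=
    ⟨Disjoint.disjoint_sup_right_of_disjoint_sup_left hdis hZ₀.disjoint,
      codisjoint_iff.mpr (by rw [← sup_assoc]; exact hZ₀.sup_eq_top)⟩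
  let π : ResidueField S →ₗ[ResidueField A] ResidueField S := LinearMap.ofIsCompl hcompl U₁.subtype 0
  have hπ₁ : ∀ x ∈ U₁, π x = x := fun x hx => LinearMap.ofIsCompl_apply_left hcompl ⟨x, hx⟩
  have hπX : ∀ x ∈ X₀ ⊓ U₂, π x = 0 := fun x hx =>
    LinearMap.ofIsCompl_apply_right hcompl ⟨x, Submodule.mem_sup_left hx⟩
  have hπ₂ : ∀ x ∈ U₂, π x ∈ residueSubspace PW := by
    intro x hx
    have hdec : x ∈ (U₁ ⊓ U₂) ⊔ (X₀ ⊓ U₂) := by
      rw [← sup_inf_assoc_of_le X₀ (inf_le_right : U₁ ⊓ U₂ ≤ U₂), hX₀.sup_eq_top, top_inf_eq]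
      exact hx
    obtain ⟨y, hy, z, hz, rfl⟩ := Submodule.mem_sup.mp hdec
    rw [map_add, hπ₁ y hy.1, hπX z hz, add_zero]
    obtain ⟨⟨c, hc, hcy⟩, ⟨d, hd, hdy⟩⟩ := hy
    obtain ⟨w, hw, hcw⟩ := hint c hc d hd (by
      rw [← residue_eq_zero_iff, map_sub, hcy, hdy, sub_self])
    refine ⟨w, hw, ?_⟩
    rw [← residue_eq_zero_iff, map_sub, hcy, sub_eq_zero] at hcw
    exact hcw.symm
  set T := I.map (Algebra.TensorProduct.includeLeft : B →ₐ[A] B ⊗[A] S) ⊔
    (maximalIdeal S).map (Algebra.TensorProduct.includeRight : S →ₐ[A] B ⊗[A] S)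
  let hS : ResidueField S →ₐ[A] (B ⊗[A] S) ⧸ T :=
    Ideal.Quotient.liftₐ (maximalIdeal S)
      ((Ideal.Quotient.mkₐ A T).comp Algebra.TensorProduct.includeRight) fun d hd => by
        rw [AlgHom.comp_apply, Ideal.Quotient.mkₐ_eq_mk, Ideal.Quotient.eq_zero_iff_mem]
        exact Ideal.mem_sup_right (Ideal.mem_map_of_mem _ hd)
  have hres : ∀ s : S, hS (residue S s) = Ideal.Quotient.mk T ((1 : B) ⊗ₜ[A] s) := fun _ => rfl
  let g : S →ₗ[A] (B ⊗[A] S) ⧸ T :=
    hS.toLinearMap ∘ₗ (π.restrictScalars A) ∘ₗ (IsScalarTower.toAlgHom A S (ResidueField S)).toLinearMap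
  let mkB : B →ₐ[A] (B ⊗[A] S) ⧸ T := (Ideal.Quotient.mkₐ A T).comp Algebra.TensorProduct.includeLeft
  let G : B ⊗[A] S →ₗ[A] (B ⊗[A] S) ⧸ T :=
    TensorProduct.lift ((LinearMap.mul A _).compl₁₂ mkB.toLinearMap g)
  have hG : ∀ a s, G (a ⊗ₜ s) = mkB a * g s := fun a s => TensorProduct.lift.tmul _ _
  have hmk : ∀ a s, Ideal.Quotient.mk T (a ⊗ₜ[A] s) = mkB a * Ideal.Quotient.mk T ((1 : B) ⊗ₜ[A] s) :=
    fun a s => by
      rw [show mkB a = Ideal.Quotient.mk T (a ⊗ₜ[A] (1 : S)) from rfl, ← map_mul,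
        Algebra.TensorProduct.tmul_mul_tmul, mul_one, one_mul]
  have hzero : ∀ z ∈ I.map (Algebra.TensorProduct.includeLeft : B →ₐ[A] B ⊗[A] S), G z = 0 := by
    intro z hz
    refine Submodule.span_induction (p := fun y _ => ∀ c : B ⊗[A] S, G (c * y) = 0) (fun y hy => ?_)
      (fun c => by rw [mul_zero, map_zero]) (fun y y' _ _ h h' c => by rw [mul_add, map_add, h, h', add_zero])
      (fun b y _ h c => by rw [smul_eq_mul, ← mul_assoc]; exact h _) hz 1 |> fun h => by rwa [one_mul] at h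
    obtain ⟨r₀, hr₀, rfl⟩ := hy
    intro c
    induction c using TensorProduct.induction_on with
    | zero => rw [zero_mul, map_zero]
    | tmul a s =>
      rw [Algebra.TensorProduct.includeLeft_apply, Algebra.TensorProduct.tmul_mul_tmul, mul_one, hG,
        map_mul, show mkB r₀ = 0 from Ideal.Quotient.eq_zero_iff_mem.mpr
          (Ideal.mem_sup_left (Ideal.mem_map_of_mem _ hr₀)), mul_zero, zero_mul]
    | add c c' h h' => rw [add_mul, map_add, h, h', add_zero]
  have h1 : G (Algebra.TensorProduct.map (AlgHom.id A B) PC.val t₁) =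
      Ideal.Quotient.mk T (Algebra.TensorProduct.map (AlgHom.id A B) PC.val t₁) := by
    clear h
    induction t₁ using TensorProduct.induction_on with
    | zero => rw [map_zero, map_zero, map_zero]
    | tmul a c =>
      rw [Algebra.TensorProduct.map_tmul, hG, hmk]
      congr 1
      show hS (π (residue S (c : S))) = _
      rw [hπ₁ _ ⟨c, c.2, rfl⟩]
      rfl
    | add t t' h h' => rw [map_add, map_add, h, h', map_add]
  obtain ⟨t₃, ht₃⟩ : ∃ t₃ : B ⊗[A] PW, G (Algebra.TensorProduct.map (AlgHom.id A B) PD.val t₂) =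
      Ideal.Quotient.mk T (Algebra.TensorProduct.map (AlgHom.id A B) PW.val t₃) := by
    clear h
    induction t₂ using TensorProduct.induction_on with
    | zero => exact ⟨0, by rw [map_zero, map_zero, map_zero, map_zero]⟩
    | tmul a d =>
      obtain ⟨w, hw, hwd⟩ := hπ₂ (residue S (d : S)) ⟨d, d.2, rfl⟩
      refine ⟨a ⊗ₜ ⟨w, hw⟩, ?_⟩
      rw [Algebra.TensorProduct.map_tmul, hG, Algebra.TensorProduct.map_tmul, hmk]
      congr 1
      show hS (π (residue S (d : S))) = _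
      rw [← hwd]
      rfl
    | add t t' h h' =>
      obtain ⟨x, hx⟩ := h
      obtain ⟨x', hx'⟩ := h'
      exact ⟨x + x', by rw [map_add, map_add, hx, hx', map_add, map_add]⟩
  refine ⟨t₃, ?_⟩
  rw [← Ideal.Quotient.eq, ← h1, ← ht₃, ← sub_eq_zero, ← map_sub]
  exact hzero _ h

end GrothLib.EssEtLoc
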