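import Groth.Agent.Lib.Hensel.BranchCount
import Groth.Agent.Lib.Hensel.Branches
import Mathlib.FieldTheory.PurelyInseparable.PerfectClosure
import Mathlib.FieldTheory.Normal.Basic
import Mathlib.FieldTheory.CardinalEmb

/-!
# Splitting of residue fields in tensor products over a local ring
-/

universe u

open IsLocalRing TensorProduct

noncomputable section

namespace GrothLib.EssEtLoc

/-- An element whose power is separable and fixed by all automorphisms has a power in the base. -/
theorem exists_pow_mem_range_of_forall_fixed {K Ω : Type*} [Field K] [Field Ω] [IsAlgClosed Ω]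
    [Algebra K Ω] [Algebra.IsAlgebraic K Ω] (z : Ω) (h : ∀ g : Ω ≃ₐ[K] Ω, g z = z) :
    ∃ n : ℕ, z ^ ringExpChar Ω ^ n ∈ (algebraMap K Ω).range := by
  haveI : IsAlgClosure K Ω := ⟨‹_›, ‹_›⟩
  haveI : Normal K Ω := IsAlgClosure.normal K Ω
  haveI : ExpChar K (ringExpChar Ω) := RingHom.expChar (algebraMap K Ω) (algebraMap K Ω).injective _
  obtain ⟨n, w, hw⟩ :=
    IsPurelyInseparable.pow_mem (separableClosure K Ω) (ringExpChar Ω) z
  refine ⟨n, ?_⟩
  rw [← hw]
  have hsep : (minpoly K (w : Ω)).Separable := mem_separableClosure_iff.mp w.2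
  have hfix : ∀ g : Ω ≃ₐ[K] Ω, g (w : Ω) = w := fun g => by
    rw [show (w : Ω) = z ^ ringExpChar Ω ^ n from hw, map_pow, h]
  have hroots : ∀ y ∈ (minpoly K (w : Ω)).rootSet Ω, y = (w : Ω) := fun y hy => by
    obtain ⟨g, hg⟩ := minpoly.exists_algEquiv_of_root' (Algebra.IsAlgebraic.isAlgebraic (R := K) (w : Ω))
      (Polynomial.mem_rootSet.mp hy).2
    rw [← hg, hfix]
  refine minpoly.natDegree_eq_one_iff.mp ?_
  change (minpoly K (w : Ω)).natDegree = 1
  rw [← Polynomial.card_rootSet_eq_natDegree (K := Ω) hsep (IsAlgClosed.splits _),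
    Fintype.card_eq_one_iff]
  exact ⟨⟨w, Polynomial.mem_rootSet.mpr ⟨minpoly.ne_zero
    (Algebra.IsIntegral.isIntegral (w : Ω)), minpoly.aeval _ _⟩⟩, fun y => Subtype.ext (hroots y y.2)⟩

variable {A R' E : Type u} [CommRing A] [CommRing R'] [Algebra A R'] [Algebra.IsIntegral A R']
  [CommRing E] [IsLocalRing E] [Algebra A E]

/-- Maximal ideals of a tensor product against embeddings of the normalization. -/
theorem card_maximalSpectrum_tensor_eq_iff {Ω : Type u} [Field Ω] [IsAlgClosed Ω] [Algebra A Ω]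
    [Finite (R' →ₐ[A] Ω)] (π : E →ₐ[A] Ω) (hπ : ∀ s, π s = 0 ↔ s ∈ maximalIdeal E)
    (K : Subfield Ω) (hK : ∀ x, x ∈ K ↔ x ∈ Set.range π) [Algebra.IsAlgebraic K Ω] :
    ENat.card (MaximalSpectrum (E ⊗[A] R')) = ENat.card (R' →ₐ[A] Ω) ↔
      ∀ (σ : R' →ₐ[A] Ω) (r : R'), ∃ (n : ℕ) (s : E), σ r ^ ringExpChar Ω ^ n = π s := by
  let Φ : (R' →ₐ[A] Ω) → (E ⊗[A] R' →ₐ[A] Ω) := fun σ ↦
    Algebra.TensorProduct.lift π σ fun _ _ ↦ Commute.all _ _
  have hΦt : ∀ σ s r, Φ σ (s ⊗ₜ r) = π s * σ r := fun σ s r =>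
    Algebra.TensorProduct.lift_tmul _ _ _ _ _
  have hmax : ∀ σ, (RingHom.ker (Φ σ).toRingHom).IsMaximal := fun σ ↦ by
    have := RingHom.ker_isPrime (Φ σ).toRingHom
    refine Ideal.isMaximal_of_isIntegral_of_isMaximal_comap (R := E) _ ?_
    convert maximalIdeal.isMaximal E
    ext s
    show Φ σ (s ⊗ₜ 1) = 0 ↔ _
    rw [hΦt, map_one, mul_one]
    exact hπ s
  let F : (R' →ₐ[A] Ω) → MaximalSpectrum (E ⊗[A] R') := fun σ => ⟨_, hmax σ⟩
  have hsurj : Function.Surjective F := by
    rintro ⟨P, hP⟩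
    have hover : P.LiesOver (maximalIdeal E) := ⟨(eq_maximalIdeal
      (Ideal.isMaximal_comap_of_isIntegral_of_isMaximal (R := E) P)).symm⟩
    let : Field (E ⧸ maximalIdeal E) := Ideal.Quotient.field _
    let : Field ((E ⊗[A] R') ⧸ P) := Ideal.Quotient.field _
    let π' : E ⧸ maximalIdeal E →+* Ω := Ideal.Quotient.lift _ π.toRingHom fun s hs ↦ (hπ s).mpr hs
    let : Algebra (E ⧸ maximalIdeal E) Ω := π'.toAlgebra
    let l : (E ⊗[A] R') ⧸ P →ₐ[E ⧸ maximalIdeal E] Ω := IsAlgClosed.lift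
    have hl : ∀ s, l (Ideal.Quotient.mk P (algebraMap E _ s)) = π s := fun s ↦
      l.commutes (Ideal.Quotient.mk _ s)
    let σ : R' →ₐ[A] Ω :=
      { toRingHom := l.toRingHom.comp ((Ideal.Quotient.mk P).comp
          (Algebra.TensorProduct.includeRight : R' →ₐ[A] E ⊗[A] R').toRingHom)
        commutes' := fun a ↦ by
          show l (Ideal.Quotient.mk P (Algebra.TensorProduct.includeRight (algebraMap A R' a))) = _
          rw [AlgHom.commutes, IsScalarTower.algebraMap_apply A E (E ⊗[A] R'), hl, π.commutes] }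
    have hΦ : ∀ x, Φ σ x = l (Ideal.Quotient.mk P x) := fun x ↦ by
      induction x using TensorProduct.induction_on with
      | zero => simp
      | tmul s r =>
        rw [show (s ⊗ₜ[A] r : E ⊗[A] R') = algebraMap E _ s * Algebra.TensorProduct.includeRight r
          by simp, map_mul, map_mul, map_mul, hl]
        simp [Φ, σ, ← Algebra.TensorProduct.one_def]
      | add x y hx hy => simp only [map_add, hx, hy]
    refine ⟨σ, MaximalSpectrum.ext (Ideal.ext fun x ↦ ?_)⟩
    show Φ σ x = 0 ↔ x ∈ P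
    rw [hΦ, map_eq_zero, Ideal.Quotient.eq_zero_iff_mem]
  haveI : Finite (MaximalSpectrum (E ⊗[A] R')) := Finite.of_surjective F hsurj
  have hiff : ENat.card (MaximalSpectrum (E ⊗[A] R')) = ENat.card (R' →ₐ[A] Ω) ↔
      Function.Injective F := by
    rw [ENat.card_eq_coe_natCard, ENat.card_eq_coe_natCard, ENat.natCast_inj]
    exact ⟨fun h => ((Nat.bijective_iff_surjective_and_card F).mpr ⟨hsurj, h.symm⟩).1,
      fun h => (Nat.card_congr (Equiv.ofBijective F ⟨h, hsurj⟩)).symm⟩
  rw [hiff]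
  constructor
  · intro hinj σ r
    have hfix : ∀ g : Ω ≃ₐ[K] Ω, g (σ r) = σ r := by
      intro g
      have hg : ∀ s, g (π s) = π s := fun s => g.commutes ⟨π s, (hK _).mpr ⟨s, rfl⟩⟩
      let τ : R' →ₐ[A] Ω :=
        { toRingHom := g.toRingEquiv.toRingHom.comp σ.toRingHom
          commutes' := fun a => by
            show g (σ (algebraMap A R' a)) = _
            rw [σ.commutes, ← π.commutes, hg] }
      have hτ : ∀ x, Φ τ x = g (Φ σ x) := fun x => by
        induction x using TensorProduct.induction_on with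
        | zero => simp
        | tmul s r =>
          rw [hΦt, hΦt, map_mul, hg]
          rfl
        | add x y hx hy => simp only [map_add, hx, hy]
      have := hinj (a₁ := τ) (a₂ := σ) (MaximalSpectrum.ext (Ideal.ext fun x => by
        show Φ τ x = 0 ↔ Φ σ x = 0
        rw [hτ, map_eq_zero]))
      exact AlgHom.congr_fun this r
    obtain ⟨n, ⟨y, hy₀⟩, hy⟩ := exists_pow_mem_range_of_forall_fixed _ hfix
    obtain ⟨s, rfl⟩ := (hK y).mp hy₀
    exact ⟨n, s, hy.symm⟩
  · intro h σ τ hστ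
    refine AlgHom.ext fun r => ?_
    obtain ⟨n, s, hs⟩ := h σ r
    have hker : RingHom.ker (Φ σ).toRingHom = RingHom.ker (Φ τ).toRingHom :=
      congrArg MaximalSpectrum.asIdeal hστ
    have h1 : (1 : E) ⊗ₜ[A] (r ^ ringExpChar Ω ^ n) - s ⊗ₜ[A] (1 : R') ∈
        RingHom.ker (Φ σ).toRingHom := by
      simp [Φ, hs]
    rw [hker] at h1
    have h2 : τ r ^ ringExpChar Ω ^ n = π s := by simpa [Φ, sub_eq_zero] using h1
    exact iterateFrobenius_inj Ω (ringExpChar Ω) n (by
      simpa [iterateFrobenius_def] using hs.trans h2.symm)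

/-- Restricting embeddings of a residue field to its separable closure. -/
theorem card_algHom_eq_finrank_iff {k kE k' Ω : Type u} [Field k] [Field kE] [Field k'] [Field Ω]
    [IsAlgClosed Ω] [Algebra k kE] [Algebra k k'] [Algebra.IsAlgebraic k k'] [Algebra k Ω]
    [FiniteDimensional k (separableClosure k k')] (ι : kE →ₐ[k] Ω) :
    (∀ (σ : k' →ₐ[k] Ω) (x : k'), ∃ (n : ℕ) (y : kE), σ x ^ ringExpChar Ω ^ n = ι y) ↔
      Nat.card (separableClosure k k' →ₐ[k] kE) =
        Module.finrank k (separableClosure k k') := by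
  let ks := separableClosure k k'
  haveI : Finite (ks →ₐ[k] Ω) := inferInstance
  have hcard : Nat.card (ks →ₐ[k] Ω) = Module.finrank k ks := by
    rw [Nat.card_eq_fintype_card, AlgHom.card]
  let G : (ks →ₐ[k] kE) → (ks →ₐ[k] Ω) := ι.comp
  have hG : Function.Injective G := fun f g h =>
    AlgHom.ext fun x => ι.toRingHom.injective (AlgHom.congr_fun h x)
  haveI : ExpChar k (ringExpChar Ω) :=
    (algebraMap k Ω).expChar (algebraMap k Ω).injective _
  rw [← hcard]
  constructor
  · intro h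
    refine Nat.card_eq_of_bijective G ⟨hG, fun τ => ?_⟩
    have hmem : ∀ x : ks, τ x ∈ ι.fieldRange := by
      intro x
      letI : Algebra ks Ω := τ.toRingHom.toAlgebra
      haveI : IsScalarTower k ks Ω := IsScalarTower.of_algebraMap_eq' τ.comp_algebraMap.symm
      let σ : k' →ₐ[ks] Ω := IsAlgClosed.lift
      obtain ⟨n, y, hy⟩ := h (σ.restrictScalars k) (x : k')
      have hσx : σ (x : k') = τ x := σ.commutes x
      have hsep : IsSeparable k (τ x) := by
        have := Algebra.IsSeparable.isSeparable k x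
        show (minpoly k (τ x)).Separable
        rwa [minpoly.algHom_eq τ τ.toRingHom.injective]
      have h1 := IntermediateField.adjoin_simple_eq_adjoin_pow_expChar_pow_of_isSeparable k Ω
        hsep (ringExpChar Ω) n
      have h2 : τ x ∈ IntermediateField.adjoin k {τ x} :=
        IntermediateField.mem_adjoin_simple_self k _
      rw [h1] at h2
      refine IntermediateField.adjoin_simple_le_iff.mpr ?_ h2
      exact ⟨y, hy.symm.trans (congrArg (· ^ ringExpChar Ω ^ n) hσx)⟩
    refine ⟨(AlgEquiv.ofInjectiveField ι).symm.toAlgHom.comp (τ.codRestrict _ hmem),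
      AlgHom.ext fun x => ?_⟩
    exact congrArg Subtype.val ((AlgEquiv.ofInjectiveField ι).apply_symm_apply ⟨τ x, hmem x⟩)
  · intro h σ x
    have hbij : Function.Bijective G := (Nat.bijective_iff_injective_and_card G).mpr ⟨hG, h⟩
    obtain ⟨f, hf⟩ := hbij.2 (σ.comp ks.val)
    haveI : ExpChar k (ringExpChar Ω) := ‹_›
    obtain ⟨n, w, hw⟩ := IsPurelyInseparable.pow_mem ks (ringExpChar Ω) x
    refine ⟨n, f w, ?_⟩
    rw [← map_pow, ← hw]
    exact (AlgHom.congr_fun hf w).symm

end GrothLib.EssEtLoc
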