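import Groth.Agent.Lib.EssEtLoc.BranchCriterion

/-!
# The normalization of a Noetherian reduced local ring is semilocal
-/

universe u

open IsLocalRing

noncomputable section

namespace GrothLib.EssEtLoc

theorem isReduced_of_isEssentiallyEtale {A E : Type u} [CommRing A] [IsLocalRing A] [IsReduced A]
    [CommRing E] [Algebra A E] (hE : EGA4loc.IsEssentiallyEtale A E) : IsReduced E := by
  obtain ⟨C, _, _, q, _, _, -, ⟨e⟩⟩ := hE
  haveI : IsReduced C := GrothLib.Hensel.isReduced_of_etale A C
  haveI : IsReduced (Localization.AtPrime q) :=
    isReduced_localizationPreserves q.primeCompl (Localization.AtPrime q) inferInstance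
  exact isReduced_of_injective e.toRingEquiv.toRingHom e.injective

/-- The normalization of a Noetherian reduced local ring has finitely many maximal ideals. -/
theorem finite_maximalSpectrum_integralClosure (E : Type u) [CommRing E] [IsLocalRing E]
    [IsNoetherianRing E] [IsReduced E] :
    Finite (MaximalSpectrum (integralClosure E (FractionRing E))) := by
  haveI := (GrothLib.Hensel.Hens.isHenselization E).henselian
  have hfin := minimalPrimes.finite_of_isNoetherianRing E
  have hD : ENat.card (minimalPrimes (GrothLib.Hensel.Hens E)) = Brnch.numBranches E :=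
    GrothLib.Hensel.IsHenselization.card_minimalPrimes
  haveI : IsNoetherianRing (GrothLib.Hensel.Hens E) :=
    (GrothLib.Hensel.IsHenselization.isNoetherianRing_iff (R := E)).mp ‹_›
  haveI : Finite (minimalPrimes (GrothLib.Hensel.Hens E)) :=
    (minimalPrimes.finite_of_isNoetherianRing _).to_subtype
  rw [Brnch.numBranches, if_pos hfin] at hD
  haveI : Finite (MaximalSpectrum (CAlg2.normRed E)) := by
    rw [← not_infinite_iff_finite]
    intro hinf
    rw [ENat.card_eq_top_of_infinite (α := MaximalSpectrum (CAlg2.normRed E))] at hD
    exact absurd hD (by rw [ENat.card_eq_coe_natCard]; exact ENat.coe_ne_top _)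
  obtain ⟨e⟩ := exists_normRed_equiv E
  exact Finite.of_injective
    (fun M : MaximalSpectrum (integralClosure E (FractionRing E)) =>
      (⟨M.asIdeal.comap e.toRingEquiv.toRingHom,
        haveI := M.isMaximal; Ideal.comap_isMaximal_of_surjective _ e.surjective⟩ :
        MaximalSpectrum (CAlg2.normRed E)))
    fun M N h => MaximalSpectrum.ext
      (Ideal.comap_injective_of_surjective _ e.surjective (congrArg MaximalSpectrum.asIdeal h))

end GrothLib.EssEtLoc
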