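import Groth.Agent.Lib.EssEtLoc.StrictResidue

/-!
# Descent of finite étale algebras over a henselization inside a strict henselization
-/

universe u

open IsLocalRing TensorProduct

noncomputable section

namespace GrothLib.EssEtLoc

variable {A S : Type u} [CommRing A] [IsLocalRing A] [IsReduced A] [IsNoetherianRing A] [CommRing S]
  [IsLocalRing S] [Algebra A S] [IsLocalHom (algebraMap A S)]
  [hS : _root_.Hensel.IsStrictHenselization A S]
  {Ah : Type u} [CommRing Ah] [IsLocalRing Ah] [Algebra A Ah] [IsLocalHom (algebraMap A Ah)]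
  [hh : _root_.Hensel.IsHenselization A Ah] [Algebra Ah S] [IsScalarTower A Ah S]
  [IsLocalHom (algebraMap Ah S)]

include hh in
/-- An element of a finite free unramified subalgebra over the henselization lies in an essentially
étale subalgebra inside it. -/
theorem exists_essentiallyEtale_le (W : Subalgebra Ah S) [IsLocalRing W] [Module.Finite Ah W]
    [Module.Free Ah W] [IsLocalHom (algebraMap W S)]
    (hm : (maximalIdeal Ah).map (algebraMap Ah W) = maximalIdeal W) (s : Finset S)
    (hs : (s : Set S) ⊆ W) :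
    ∃ E : Subalgebra A S, (s : Set S) ⊆ E ∧ (E : Set S) ⊆ W ∧
      ∃ _ : IsLocalRing E, EGA4loc.IsEssentiallyEtale A E := by
  classical
  haveI := GrothLib.Hensel.IsHenselization.flat (R := A) (S := Ah)
  let b := Module.Free.chooseBasis Ah W
  let J := Module.Free.ChooseBasisIndex Ah W
  haveI : Fintype J := inferInstance
  let T : Finset Ah :=
    (Finset.univ.image fun p : J × J × J => b.repr (b p.1 * b p.2.1) p.2.2) ∪
      (Finset.univ.image fun i => b.repr 1 i) ∪
        ((Finset.univ ×ˢ (s.attach)).image fun p : J × s => b.repr ⟨p.2.1, hs p.2.2⟩ p.1)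
  obtain ⟨E₀, _, hTE, hE₀loc, hE₀⟩ := exists_subalgebra_of_etaleStages
    (GrothLib.Hensel.IsHenselization.etaleStages (A := A) (S := Ah)) T
  haveI := hE₀loc
  haveI := essFiniteType hE₀
  let P₀ : Subalgebra A W :=
    { carrier := {w | ∀ i, b.repr w i ∈ E₀}
      one_mem' := fun i => hTE (Finset.mem_union_left _ (Finset.mem_union_right _
        (Finset.mem_image_of_mem _ (Finset.mem_univ i))))
      zero_mem' := fun i => by rw [map_zero]; exact zero_mem _
      add_mem' := fun {x y} hx hy i => by
        rw [map_add, Finsupp.add_apply]; exact add_mem (hx i) (hy i)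
      mul_mem' := fun {x y} hx hy i => by
        rw [show x * y = ∑ j, ∑ k, (b.repr x j * b.repr y k) • (b j * b k) by
          conv_lhs => rw [← b.sum_repr x, ← b.sum_repr y, Finset.sum_mul_sum]
          simp only [smul_mul_smul_comm]]
        simp only [map_sum, map_smul, Finsupp.coe_finsetSum, Finset.sum_apply, Finsupp.smul_apply,
          smul_eq_mul]
        refine sum_mem fun j _ => sum_mem fun k _ => mul_mem (mul_mem (hx j) (hy k)) ?_
        exact hTE (Finset.mem_union_left _ (Finset.mem_union_left _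
          (Finset.mem_image_of_mem _ (Finset.mem_univ (j, k, i)))))
      algebraMap_mem' := fun a i => by
        rw [Algebra.algebraMap_eq_smul_one, algebra_compatible_smul Ah, map_smul,
          Finsupp.smul_apply, smul_eq_mul]
        exact mul_mem (E₀.algebraMap_mem a) (hTE (Finset.mem_union_left _ (Finset.mem_union_right _
          (Finset.mem_image_of_mem _ (Finset.mem_univ i))))) }
  have hP₀ : ∀ (w : W), w ∈ P₀ ↔ ∀ i, b.repr w i ∈ E₀ := fun _ => Iff.rfl
  -- units
  have hbase : ∀ e : E₀, algebraMap Ah W (e : Ah) ∈ P₀ := fun e i => by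
    rw [Algebra.algebraMap_eq_smul_one, map_smul, Finsupp.smul_apply, smul_eq_mul]
    exact mul_mem e.2 (hTE (Finset.mem_union_left _ (Finset.mem_union_right _
      (Finset.mem_image_of_mem _ (Finset.mem_univ i)))))
  let jE : E₀ →+* P₀ :=
    { toFun := fun e => ⟨_, hbase e⟩
      map_one' := Subtype.ext (map_one _)
      map_mul' := fun x y => Subtype.ext (map_mul _ _ _)
      map_zero' := Subtype.ext (map_zero _)
      map_add' := fun x y => Subtype.ext (map_add _ _ _) }
  letI : Algebra E₀ P₀ := jE.toAlgebra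
  haveI : IsScalarTower A E₀ P₀ := IsScalarTower.of_algebraMap_eq fun a => Subtype.ext (by
    show algebraMap A W a = algebraMap Ah W (algebraMap A Ah a)
    exact IsScalarTower.algebraMap_apply A Ah W a)
  have hbP : ∀ i, b i ∈ P₀ := fun i k => by
    rw [b.repr_self, Finsupp.single_apply]
    split_ifs
    · exact one_mem _
    · exact zero_mem _
  have hspan : ∀ p : P₀, p = ∑ i, (⟨b.repr (p : W) i, p.2 i⟩ : E₀) • (⟨b i, hbP i⟩ : P₀) := fun p =>
    Subtype.ext (by
      rw [AddSubmonoidClass.coe_finsetSum]
      conv_lhs => rw [← b.sum_repr (p : W)]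
      refine Finset.sum_congr rfl fun i _ => ?_
      rw [Algebra.smul_def, Algebra.smul_def]
      rfl)
  haveI : Module.Finite E₀ P₀ :=
    ⟨⟨Finset.univ.image fun i => (⟨b i, hbP i⟩ : P₀), eq_top_iff.mpr fun p _ => by
      rw [hspan p]
      exact Submodule.sum_mem _ fun i _ => Submodule.smul_mem _ _
        (Submodule.subset_span (Finset.mem_image_of_mem _ (Finset.mem_univ i)))⟩⟩
  haveI : Algebra.EssFiniteType A P₀ := Algebra.EssFiniteType.comp A E₀ P₀
  -- the maximal ideal
  have hmem : ∀ p : P₀, (p : W) ∈ maximalIdeal W → p ∈ (maximalIdeal A).map (algebraMap A P₀) := by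
    intro p hp
    have hcoord : ∀ i, b.repr (p : W) i ∈ maximalIdeal Ah := by
      rw [← hm] at hp
      intro i
      have hp' : (p : W) ∈ maximalIdeal Ah • (⊤ : Submodule Ah W) := by
        rw [Ideal.smul_top_eq_map]; exact hp
      refine Submodule.smul_induction_on hp' (fun r hr w _ => ?_) (fun x y hx hy => ?_)
      · rw [map_smul, Finsupp.smul_apply, smul_eq_mul]
        exact Ideal.mul_mem_right _ _ hr
      · rw [map_add, Finsupp.add_apply]; exact add_mem hx hy
    rw [hspan p]
    refine Ideal.sum_mem _ fun i _ => ?_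
    rw [Algebra.smul_def]
    refine Ideal.mul_mem_right _ _ ?_
    have h1 : (⟨b.repr (p : W) i, p.2 i⟩ : E₀) ∈ maximalIdeal E₀ := fun hu =>
      hcoord i (hu.map (algebraMap E₀ Ah))
    rw [← map_maximalIdeal hE₀] at h1
    have h2 := Ideal.mem_map_of_mem (algebraMap E₀ P₀) h1
    rwa [Ideal.map_map, ← IsScalarTower.algebraMap_eq] at h2
  haveI hAW : IsLocalHom (algebraMap Ah W) := ((local_hom_TFAE _).out 0 2 rfl rfl).mpr hm.le
  haveI hprime : ((maximalIdeal W).comap P₀.val).IsPrime := Ideal.IsPrime.comap _
  have hPmax : (maximalIdeal A).map (algebraMap A P₀) = (maximalIdeal W).comap P₀.val := by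
    refine le_antisymm (Ideal.map_le_iff_le_comap.mpr fun a ha hu => ha ?_) fun p hp => hmem p hp
    have hu1 : IsUnit (algebraMap Ah W (algebraMap A Ah a)) := by
      rw [← IsScalarTower.algebraMap_apply]; exact hu
    exact IsLocalHom.map_nonunit a (IsLocalHom.map_nonunit _ hu1)
  haveI : Algebra.IsIntegral E₀ P₀ := Algebra.IsIntegral.of_finite _ _
  have hmax : ((maximalIdeal W).comap P₀.val).IsMaximal := by
    refine Ideal.isMaximal_of_isIntegral_of_isMaximal_comap (R := E₀) _ ?_
    convert maximalIdeal.isMaximal E₀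
    ext e
    exact ⟨fun h he => h (((he.map (algebraMap E₀ Ah))).map (algebraMap Ah W)),
      fun h he => h (IsLocalHom.map_nonunit (f := algebraMap E₀ Ah) e
        (IsLocalHom.map_nonunit (f := algebraMap Ah W) _ he))⟩
  haveI hloc : IsLocalRing P₀ := IsLocalRing.of_unique_max_ideal ⟨_, hmax, fun N hN => by
    haveI := hN
    refine (hmax.eq_of_le hN.ne_top ?_).symm
    rw [← hPmax, IsScalarTower.algebraMap_eq A E₀ P₀, ← Ideal.map_map, map_maximalIdeal hE₀,
      Ideal.map_le_iff_le_comap,
      IsLocalRing.eq_maximalIdeal (Ideal.isMaximal_comap_of_isIntegral_of_isMaximal (R := E₀) N)]⟩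
  -- transport into the strict henselization
  let E : Subalgebra A S := P₀.map (W.val.restrictScalars A)
  let e : P₀ ≃ₐ[A] E := Subalgebra.equivMapOfInjective P₀ (W.val.restrictScalars A) Subtype.val_injective
  haveI : IsLocalRing E := e.toRingEquiv.isLocalRing
  haveI : IsLocalHom (algebraMap E S) := ⟨fun x hx => by
    obtain ⟨p, rfl⟩ := e.surjective x
    have hu : IsUnit (p : W) := IsLocalHom.map_nonunit (f := algebraMap W S) (p : W) hx
    have hp : p ∉ maximalIdeal P₀ := fun h => by
      rw [← IsLocalRing.eq_maximalIdeal hmax] at h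
      exact h hu
    exact (not_not.mp hp).map e⟩
  haveI : Algebra.EssFiniteType A E := (Algebra.EssFiniteType.iff_of_algEquiv e).mp inferInstance
  refine ⟨E, fun x hx => ?_, ?_, inferInstance, ?_⟩
  · exact ⟨⟨x, hs hx⟩, fun i => hTE (Finset.mem_union_right _ (Finset.mem_image.mpr
      ⟨(i, ⟨x, hx⟩), by simp, rfl⟩)), rfl⟩
  · rintro _ ⟨p, -, rfl⟩
    exact p.2
  · refine isEssentiallyEtale_of_map_maximalIdeal E ?_
    have h1 : (maximalIdeal A).map (algebraMap A P₀) = maximalIdeal P₀ :=
      hPmax.trans (IsLocalRing.eq_maximalIdeal hmax)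
    haveI : IsLocalHom (algebraMap A E) := ⟨fun a ha => by
      have h := ha.map (algebraMap E S)
      rw [← IsScalarTower.algebraMap_apply] at h
      exact IsLocalHom.map_nonunit a h⟩
    refine le_antisymm (Ideal.map_le_iff_le_comap.mpr fun a ha hu => ha (IsLocalHom.map_nonunit a hu))
      fun x hx => ?_
    obtain ⟨p, rfl⟩ := e.surjective x
    have hp : p ∈ maximalIdeal P₀ := fun hu => hx (hu.map e)
    rw [← h1] at hp
    have h2 := Ideal.mem_map_of_mem e.toAlgHom.toRingHom hp
    rw [Ideal.map_map, show e.toAlgHom.toRingHom.comp (algebraMap A P₀) = algebraMap A E from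
      e.toAlgHom.comp_algebraMap] at h2
    exact h2

end GrothLib.EssEtLoc
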