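import Groth.Agent.Lib.EssEtLoc.NormSubStructure
import Groth.Agent.Lib.EssEtLoc.BranchCriterion2
import Groth.Agent.Lib.EssEtLoc.PowApprox

/-!
# The residual criterion for unramified intermediate rings
-/

universe u

open IsLocalRing TensorProduct Polynomial

noncomputable section

namespace GrothLib.EssEtLoc

/-- A finite local subalgebra of a strict henselization over a henselian base contains a finite
étale algebra with the same residues. -/
theorem exists_etale_lift_residue {A S : Type u} [CommRing A] [HenselianLocalRing A] [CommRing S]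
    [IsLocalRing S] [Algebra A S] [IsLocalHom (algebraMap A S)]
    [hS : _root_.Hensel.IsStrictHenselization A S] (W : Subalgebra A S) [Module.Finite A W] :
    ∃ (B : Type u) (_ : CommRing B) (_ : IsLocalRing B) (_ : Algebra A B) (φ : B →ₐ[A] S),
      (maximalIdeal A).map (algebraMap A B) = maximalIdeal B ∧ IsLocalHom φ.toRingHom ∧
      EGA4loc.IsEssentiallyEtale A B ∧
      (letI := φ.toRingHom.toAlgebra; Module.FaithfullyFlat B S) ∧
      (∀ b, φ b ∈ W) ∧ ∀ w ∈ W, ∃ b, w - φ b ∈ maximalIdeal S := by
  obtain ⟨_, hWS, hAW⟩ := finite_subalgebra_henselian W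
  haveI := hWS
  haveI := hAW
  haveI := hS.henselian
  haveI : Algebra.IsSeparable (ResidueField A) (ResidueField S) := hS.isSepClosure.separable
  let ρ : ResidueField W →ₐ[ResidueField A] ResidueField S :=
    { ResidueField.map (algebraMap W S) with
      commutes' := fun x => by
        obtain ⟨a, rfl⟩ := residue_surjective x
        show residue S (algebraMap W S (algebraMap A W a)) = residue S (algebraMap A S a)
        rw [← IsScalarTower.algebraMap_apply] }
  haveI : Algebra.IsSeparable (ResidueField A) (ResidueField W) :=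
    Algebra.IsSeparable.of_algHom (ResidueField A) (ResidueField S) ρ
  haveI : FiniteDimensional (ResidueField A) (ResidueField W) := by
    haveI : Module.Finite A (ResidueField W) :=
      Module.Finite.of_surjective (IsScalarTower.toAlgHom A W (ResidueField W)).toLinearMap
        residue_surjective
    exact Module.Finite.of_restrictScalars_finite A _ _
  haveI : Algebra.FormallyEtale (ResidueField A) (ResidueField W) :=
    Algebra.FormallyEtale.of_isSeparable _ _
  haveI : Algebra.FinitePresentation (ResidueField A) (ResidueField W) :=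
    Algebra.FinitePresentation.of_finiteType.mp inferInstance
  letI : Algebra (A ⧸ maximalIdeal A) (ResidueField W) :=
    (inferInstance : Algebra (ResidueField A) (ResidueField W))
  haveI : IsScalarTower A (A ⧸ maximalIdeal A) (ResidueField W) :=
    IsScalarTower.of_algebraMap_eq fun _ => rfl
  haveI : Algebra.Etale (A ⧸ maximalIdeal A) (ResidueField W) :=
    (⟨‹_›, ‹_›⟩ : Algebra.Etale (ResidueField A) (ResidueField W))
  haveI : Module.Finite (A ⧸ maximalIdeal A) (ResidueField W) :=
    ‹FiniteDimensional (ResidueField A) (ResidueField W)›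
  obtain ⟨B, _, _, _, g, hBfin, hBet, hg, hker⟩ := exists_finite_etale_local A (ResidueField W)
  haveI hgmax : (RingHom.ker g).IsMaximal := RingHom.ker_isMaximal_of_surjective g hg
  have hmB : (maximalIdeal A).map (algebraMap A B) = maximalIdeal B :=
    hker ▸ IsLocalRing.eq_maximalIdeal hgmax
  obtain ⟨ψ, hψ⟩ := GrothLib.Hensel.exists_algHom_lift (R := A) (I := maximalIdeal W)
    (g : B →ₐ[A] W ⧸ maximalIdeal W)
  have hψ' : ∀ b, residue W (ψ b) = g b := fun b => AlgHom.congr_fun hψ b
  let φ : B →ₐ[A] S := W.val.comp ψ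
  haveI : IsLocalHom (algebraMap A B) := ((local_hom_TFAE _).out 0 2 rfl rfl).mpr hmB.le
  haveI hφ : IsLocalHom φ.toRingHom := ⟨fun b hb => by
    by_contra hn
    have h1 : g b = 0 := RingHom.mem_ker.mp ((hker.trans hmB).ge hn)
    rw [← hψ'] at h1
    exact (residue_ne_zero_iff_isUnit _).mpr (IsLocalHom.map_nonunit (f := algebraMap W S) _ hb) h1⟩
  obtain ⟨-, -, hEr⟩ := range_of_finite_etale' φ hmB
  refine ⟨B, inferInstance, inferInstance, inferInstance, φ, hmB, hφ, hEr, ?_, fun b => (ψ b).2,
    fun w hw => ?_⟩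
  · letI : Algebra B S := φ.toRingHom.toAlgebra
    haveI : IsScalarTower A B S := IsScalarTower.of_algebraMap_eq' φ.comp_algebraMap.symm
    haveI : IsLocalHom (algebraMap B S) := hφ
    haveI := isStrictHenselization_of_essEt (A := A) (E := B) (S := S) hEr
    exact GrothLib.Hensel.IsStrictHenselization.faithfullyFlat (R := B) (S := S)
  · obtain ⟨b, hb⟩ := hg (residue W ⟨w, hw⟩)
    refine ⟨b, ?_⟩
    have h1 : (⟨w, hw⟩ : W) - ψ b ∈ maximalIdeal W := by
      rw [← residue_eq_zero_iff, map_sub, hψ', hb, sub_self]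
    exact fun hu => h1 (IsLocalHom.map_nonunit (f := algebraMap W S) _ hu)

variable {A S : Type u} [CommRing A] [IsLocalRing A] [IsReduced A] [IsNoetherianRing A] [CommRing S]
  [IsLocalRing S] [Algebra A S] [IsLocalHom (algebraMap A S)]
  [hS : _root_.Hensel.IsStrictHenselization A S]

theorem exists_fracMap (E : Subalgebra A S) :
    ∀ [IsLocalRing E], EGA4loc.IsEssentiallyEtale A E →
      ∃ ρ : FractionRing E →ₐ[A] FractionRing S,
        (∀ e : E, ρ (algebraMap E (FractionRing E) e) = algebraMap S (FractionRing S) (e : S)) ∧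
        (∀ a ∈ nonZeroDivisors A, IsUnit (algebraMap A (FractionRing S) a)) ∧
        Function.Injective ρ := by
  intro _ hE
  have hmin := minimalPrimes.finite_of_isNoetherianRing A
  haveI : Module.Flat A S := GrothLib.Hensel.IsStrictHenselization.flat (R := A) (S := S)
  have hu : ∀ a ∈ nonZeroDivisors A, IsUnit (algebraMap A (FractionRing S) a) := by
    intro a ha
    have hreg : IsSMulRegular A a := fun x y h => by
      simp only [smul_eq_mul] at h
      exact (mul_cancel_left_mem_nonZeroDivisors ha).mp h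
    have hS' : algebraMap A S a ∈ nonZeroDivisors S := by
      rw [mem_nonZeroDivisors_iff_right]
      intro x hx
      exact (hreg.of_flat (S := S))
        (show algebraMap A S a * x = algebraMap A S a * 0 by rw [mul_zero, mul_comm]; exact hx)
    rw [IsScalarTower.algebraMap_apply A S (FractionRing S)]
    exact IsLocalization.map_units (FractionRing S) (⟨_, hS'⟩ : nonZeroDivisors S)
  obtain ⟨hloc, -⟩ := fractionRing_structure hmin hE
  let f : E →ₐ[A] FractionRing S := (IsScalarTower.toAlgHom A S (FractionRing S)).comp E.val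
  have hu' : ∀ y : (nonZeroDivisors A).map (algebraMap A E), IsUnit (f y) := by
    rintro ⟨_, a, ha, rfl⟩
    rw [f.commutes]
    exact hu a ha
  let ρ : FractionRing E →ₐ[A] FractionRing S := IsLocalization.liftAlgHom (f := f) hu'
  have hρ : ∀ e : E, ρ (algebraMap E (FractionRing E) e) = algebraMap S (FractionRing S) (e : S) :=
    fun e => IsLocalization.lift_eq _ e
  refine ⟨ρ, hρ, hu, (injective_iff_map_eq_zero ρ).mpr fun x hx => ?_⟩
  obtain ⟨⟨e, m⟩, hem⟩ := IsLocalization.surj ((nonZeroDivisors A).map (algebraMap A E)) x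
  have h1 : algebraMap S (FractionRing S) (e : S) = 0 := by
    rw [← hρ, show algebraMap E (FractionRing E) e = x * algebraMap E (FractionRing E) m from hem.symm,
      map_mul, hx, zero_mul]
  have h2 : e = 0 := Subtype.ext (IsFractionRing.injective S (FractionRing S)
    (h1.trans (map_zero _).symm))
  exact (IsLocalization.map_units (FractionRing E) m).mul_left_eq_zero.mp
    (hem.trans (by rw [h2, map_zero]))

/-- The residual criterion. -/
theorem map_maximalIdeal_of_residual (E : Subalgebra A S) [IsLocalRing E]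
    [Module.Finite A (normBase A E)]
    (hE : EGA4loc.IsEssentiallyEtale A E) (D : Subalgebra A E) [IsLocalRing D]
    [IsLocalHom (algebraMap D E)] [Algebra.EssFiniteType A D]
    (s : Finset (normSub D)) (hs : ∀ y : normSub D,
      (y : FractionRing E) ∈ (Algebra.adjoin D (((s : Set (normSub D)).image Subtype.val))))
    (hRad : Ideal.jacobson (⊥ : Ideal (normSub D)) ≤
        (Ideal.jacobson (⊥ : Ideal (normBase A E))).map (Subalgebra.inclusion (normBase_le_normSub D)))
    (hgen : ∀ x : normSub D, ∃ z ∈ Algebra.adjoin A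
      ({y : normSub D | (y : FractionRing E) ∈ normBase A E} ∪ Set.range (toNormSub D)),
      x - z ∈ Ideal.jacobson (⊥ : Ideal (normSub D)))
    {n : ℕ} (htop : ∀ d : D, (d : E) ∈ (maximalIdeal A ^ n).map (algebraMap A E) →
        d ∈ (maximalIdeal A).map (algebraMap A D)) :
    (maximalIdeal A).map (algebraMap A D) = maximalIdeal D := by
  classical
  haveI : Module.Flat A S := GrothLib.Hensel.IsStrictHenselization.flat (R := A) (S := S)
  haveI := formallyEtale hE
  haveI := essFiniteType hE
  haveI : IsLocalHom (algebraMap A E) := isLocalHom_algebraMap hE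
  haveI hES : IsLocalHom (algebraMap E S) := isLocalHom_algHom hE E.val
  haveI : Module.Flat E S := flat_of_formallyUnramified (A := A)
  haveI : Module.FaithfullyFlat E S := Module.FaithfullyFlat.of_flat_of_isLocalHom
  obtain ⟨ρ, hρ, hu, hρinj⟩ := exists_fracMap E hE
  haveI := hS.henselian
  -- the henselization
  let Ah := GrothLib.Hensel.Hens A
  haveI : HenselianLocalRing Ah := (GrothLib.Hensel.Hens.isHenselization A).henselian
  haveI : IsNoetherianRing Ah :=
    (GrothLib.Hensel.IsHenselization.isNoetherianRing_iff (R := A) (S := Ah)).mp inferInstance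
  obtain ⟨gh, hgh, -⟩ := (GrothLib.Hensel.Hens.isHenselization A).universal S (algebraMap A S) ‹_›
  letI : Algebra Ah S := gh.toAlgebra
  haveI : IsScalarTower A Ah S := IsScalarTower.of_algebraMap_eq' hgh.symm
  obtain ⟨hlocS, hSh⟩ := isStrictHenselization_of_henselization (A := A) (Ah := Ah) (Ash := S)
  haveI := hlocS
  haveI := hSh
  let δ : D → S := fun d => ((d : E) : S)
  have hDunit : ∀ d : D, IsUnit (δ d) → IsUnit d := fun d hd =>
    IsLocalHom.map_nonunit (f := algebraMap D E) d (IsLocalHom.map_nonunit (f := algebraMap E S) _ hd)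
  -- a finite algebra containing the subring
  obtain ⟨C, _, _, _, φC, hCfin, -, -, -, hφC, -, -, hsub, -⟩ :=
    exists_galois_cover Ah S ((Algebra.EssFiniteType.finset A D).image δ)
  have hDC : ∀ d : D, δ d ∈ φC.range := by
    intro d
    have hle : ∀ y : D, y ∈ Algebra.EssFiniteType.subalgebra A D → δ y ∈ φC.range := by
      intro y hy
      refine Algebra.adjoin_induction (fun z hz => ?_) (fun a => ?_) (fun z z' _ _ h h' => ?_)
        (fun z z' _ _ h h' => ?_) hy
      · obtain ⟨c, hc⟩ := hsub (Finset.mem_image_of_mem δ hz)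
        exact ⟨c, hc⟩
      · show algebraMap A S a ∈ φC.range
        rw [IsScalarTower.algebraMap_apply A Ah S]
        exact φC.range.algebraMap_mem _
      · exact add_mem h h'
      · exact mul_mem h h'
    obtain ⟨⟨a, b⟩, h⟩ := IsLocalization.surj (Algebra.EssFiniteType.submonoid A D) d
    obtain ⟨cb, hcb⟩ := hle b.1 b.1.2
    have hu' : IsUnit (δ b.1) :=
      (show IsUnit ((b.1 : D)) from b.2).map ((algebraMap E S).comp (algebraMap D E))
    obtain ⟨v, hv⟩ := (hφC.map_nonunit cb (hcb ▸ hu')).exists_right_inv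
    have h' : δ d * δ b.1 = δ a.1 := congrArg δ h
    have h1 : δ b.1 * φC v = 1 := by rw [← hcb]; exact (map_mul φC cb v).symm.trans (by rw [hv, map_one])
    rw [show δ d = δ a.1 * φC v by rw [← h', mul_assoc, h1, mul_one]]
    exact mul_mem (hle a.1 a.2) ⟨v, rfl⟩
  let W : Subalgebra Ah S := Algebra.adjoin Ah (Set.range δ)
  haveI : Module.Finite Ah W := by
    haveI : Module.Finite Ah φC.range := Module.Finite.of_surjective φC.rangeRestrict.toLinearMap
      φC.rangeRestrict_surjective
    haveI : IsNoetherian Ah φC.range := isNoetherian_of_isNoetherianRing_of_finite _ _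
    have hle : W ≤ φC.range := Algebra.adjoin_le (by rintro _ ⟨d, rfl⟩; exact hDC d)
    exact Module.Finite.of_injective (Subalgebra.inclusion hle).toLinearMap
      (Subalgebra.inclusion_injective hle)
  have hA : ∀ a : A, algebraMap Ah S (algebraMap A Ah a) = δ (algebraMap A D a) := fun a => by
    rw [← IsScalarTower.algebraMap_apply]; rfl
  have hWres : ∀ w ∈ W, ∃ d : D, w - δ d ∈ maximalIdeal S := by
    intro w hw
    refine Algebra.adjoin_induction (fun z hz => ?_) (fun h => ?_) (fun z z' _ _ h h' => ?_)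
      (fun z z' _ _ h h' => ?_) hw
    · obtain ⟨d, rfl⟩ := hz
      exact ⟨d, by simp⟩
    · obtain ⟨a, ha⟩ := GrothLib.Hensel.IsHenselization.exists_sub_mem (R := A) (S := Ah) h
      refine ⟨algebraMap A D a, ?_⟩
      rw [← hA, ← map_sub]
      exact fun hu' => ha (IsLocalHom.map_nonunit _ hu')
    · obtain ⟨d, hd⟩ := h
      obtain ⟨d', hd'⟩ := h'
      exact ⟨d + d', by
        rw [show δ (d + d') = δ d + δ d' from rfl, add_sub_add_comm]; exact add_mem hd hd'⟩
    · obtain ⟨d, hd⟩ := h
      obtain ⟨d', hd'⟩ := h'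
      refine ⟨d * d', ?_⟩
      rw [show δ (d * d') = δ d * δ d' from rfl,
        show z * z' - δ d * δ d' = (z - δ d) * z' + δ d * (z' - δ d') by ring]
      exact add_mem (Ideal.mul_mem_right _ _ hd) (Ideal.mul_mem_left _ _ hd')
  obtain ⟨B, _, _, _, φ, hmB, hφ, -, hffB, hφW, hWB⟩ := exists_etale_lift_residue W
  letI : Algebra B S := φ.toRingHom.toAlgebra
  haveI : Module.FaithfullyFlat B S := hffB
  -- in the fraction ring
  let K := FractionRing S
  let μ : S →+* K := algebraMap S K
  have hρD : ∀ d : D, ρ (toNormSub D d : FractionRing E) = μ (δ d) := fun d => hρ (d : E)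
  let Gen : Set K := Set.range (μ ∘ δ) ∪ (fun y : normSub D => ρ y) '' (s : Set (normSub D))
  let W' : Subalgebra Ah K := Algebra.adjoin Ah Gen
  have hWW' : ∀ w ∈ W, μ w ∈ W' := by
    intro w hw
    have h : W.map (IsScalarTower.toAlgHom Ah S K) ≤ W' := by
      rw [AlgHom.map_adjoin]
      exact Algebra.adjoin_le (by rintro _ ⟨_, ⟨d, rfl⟩, rfl⟩; exact Algebra.subset_adjoin (Or.inl ⟨d, rfl⟩))
    exact h ⟨w, hw, rfl⟩
  have hDW' : ∀ y : normSub D, ρ y ∈ W' := by
    intro y
    refine Algebra.adjoin_induction (p := fun z _ => ρ z ∈ W') (fun z hz => ?_) (fun d => ?_)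
      (fun z z' _ _ h h' => ?_) (fun z z' _ _ h h' => ?_) (hs y)
    · obtain ⟨z, hz, rfl⟩ := hz
      exact Algebra.subset_adjoin (Or.inr ⟨z, hz, rfl⟩)
    · show ρ (toNormSub D d : FractionRing E) ∈ W'
      rw [hρD]
      exact Algebra.subset_adjoin (Or.inl ⟨d, rfl⟩)
    · rw [map_add]; exact add_mem h h'
    · rw [map_mul]; exact mul_mem h h'
  -- finiteness
  haveI : IsScalarTower A Ah K := IsScalarTower.of_algebraMap_eq fun a => by
    rw [IsScalarTower.algebraMap_apply A S K, IsScalarTower.algebraMap_apply Ah S K,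
      IsScalarTower.algebraMap_apply A Ah S]
  haveI : Module.Finite Ah W' := by
    have hint : ∀ d : D, IsIntegral Ah (μ (δ d)) := fun d =>
      (IsIntegral.map W.val (Algebra.IsIntegral.isIntegral (R := Ah)
        (⟨δ d, Algebra.subset_adjoin ⟨d, rfl⟩⟩ : W))).map (IsScalarTower.toAlgHom Ah S K)
    obtain ⟨GW, hGW⟩ : (⊤ : Submodule Ah W).FG := Module.Finite.fg_top
    suffices h : (Subalgebra.toSubmodule W').FG from Module.Finite.iff_fg.mpr h
    let Gen' : Set K := ((fun w : W => μ w) '' (GW : Set W)) ∪ (fun y : normSub D => ρ y) '' (s : Set (normSub D))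
    have hW'eq : W' = Algebra.adjoin Ah Gen' := by
      refine le_antisymm (Algebra.adjoin_le ?_) (Algebra.adjoin_le ?_)
      · rintro _ (⟨d, rfl⟩ | h)
        · have hd : (⟨δ d, Algebra.subset_adjoin ⟨d, rfl⟩⟩ : W) ∈ Submodule.span Ah (GW : Set W) :=
            hGW ▸ Submodule.mem_top
          have h2 := Submodule.apply_mem_span_image_of_mem_span
            (((IsScalarTower.toAlgHom Ah S K).comp W.val).toLinearMap) hd
          exact Algebra.span_le_adjoin Ah _ (Submodule.span_mono Set.subset_union_left h2)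
        · exact Algebra.subset_adjoin (Or.inr h)
      · rintro _ (⟨w, -, rfl⟩ | h)
        · exact hWW' w w.2
        · exact Algebra.subset_adjoin (Or.inr h)
    rw [hW'eq]
    refine fg_adjoin_of_finite ((GW.finite_toSet.image _).union (s.finite_toSet.image _)) ?_
    rintro _ (⟨w, -, rfl⟩ | ⟨y, -, rfl⟩)
    · exact (IsIntegral.map W.val (Algebra.IsIntegral.isIntegral (R := Ah) w)).map
        (IsScalarTower.toAlgHom Ah S K)
    · obtain ⟨p, hp, hpy⟩ := y.2.1
      have h1 : IsIntegral (integralClosure Ah K) (ρ y) := by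
        let g : D →+* integralClosure Ah K :=
          { toFun := fun d => ⟨μ (δ d), hint d⟩
            map_one' := Subtype.ext (map_one μ)
            map_mul' := fun a b => Subtype.ext (map_mul μ (δ a) (δ b))
            map_zero' := Subtype.ext (map_zero μ)
            map_add' := fun a b => Subtype.ext (map_add μ (δ a) (δ b)) }
        refine ⟨p.map g, hp.map g, ?_⟩
        rw [eval₂_map]
        have hcomp : (algebraMap (integralClosure Ah K) K).comp g =
            ρ.toRingHom.comp (algebraMap D (FractionRing E)) := RingHom.ext fun d => (hρD d).symm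
        have h2 := congrArg ρ.toRingHom hpy
        rw [hom_eval₂, map_zero, ← hcomp] at h2
        exact h2
      exact isIntegral_trans _ h1
  haveI : IsNoetherian Ah W' := isNoetherian_of_isNoetherianRing_of_finite _ _
  -- approximation
  let GenN : Set K := Set.range (fun x : normBase A E => ρ x) ∪ Set.range (fun b => μ (φ b))
  let N' : Subalgebra Ah K := Algebra.adjoin Ah GenN
  have hNW : N' ≤ W' := Algebra.adjoin_le (by
    rintro _ (⟨x, rfl⟩ | ⟨b, rfl⟩)
    · exact hDW' ⟨x, normBase_le_normSub D x.2⟩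
    · exact hWW' _ (hφW b))
  let Nr : Subring W' := N'.toSubring.comap W'.val.toRingHom
  let R₀ : Ideal (normBase A E) := Ideal.jacobson ⊥
  let ιW : normBase A E →ₐ[A] W' :=
    { toFun := fun x => ⟨ρ x, hDW' ⟨x, normBase_le_normSub D x.2⟩⟩
      map_one' := Subtype.ext (map_one ρ)
      map_mul' := fun a b => Subtype.ext (map_mul ρ (a : FractionRing E) b)
      map_zero' := Subtype.ext (map_zero ρ)
      map_add' := fun a b => Subtype.ext (map_add ρ (a : FractionRing E) b)
      commutes' := fun a => Subtype.ext (ρ.commutes a) }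
  let J : Ideal W' := Ideal.span (ιW '' (R₀ : Set (normBase A E)))
  have hJmap : J = R₀.map ιW.toRingHom := rfl
  let νD : normSub D →+* W' :=
    { toFun := fun y => ⟨ρ y, hDW' y⟩
      map_one' := Subtype.ext (map_one ρ)
      map_mul' := fun a b => Subtype.ext (map_mul ρ (a : FractionRing E) b)
      map_zero' := Subtype.ext (map_zero ρ)
      map_add' := fun a b => Subtype.ext (map_add ρ (a : FractionRing E) b) }
  have hRadJ : ∀ z ∈ Ideal.jacobson (⊥ : Ideal (normSub D)), νD z ∈ J := by
    intro z hz
    have h : R₀.map (Subalgebra.inclusion (normBase_le_normSub D)) ≤ J.comap νD :=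
      Ideal.map_le_iff_le_comap.mpr fun x hx => Ideal.subset_span ⟨x, hx, Subtype.ext rfl⟩
    exact h (hRad hz)
  have hmDJ : ∀ d ∈ maximalIdeal D, νD (toNormSub D d) ∈ J := fun d hd => by
    refine hRadJ _ (Submodule.mem_sInf.mpr fun P hP => ?_)
    haveI := hP.2
    have hc : (Ideal.comap (toNormSub D).toRingHom P).IsMaximal :=
      Ideal.isMaximal_comap_of_isIntegral_of_isMaximal' _ (fun z => by
        obtain ⟨p, hp, hpz⟩ := z.2.1
        refine ⟨p, hp, Subtype.ext ?_⟩
        have hcomp : (normSub D).val.toRingHom.comp (toNormSub D).toRingHom =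
            algebraMap D (FractionRing E) := RingHom.ext fun _ => rfl
        show (normSub D).val.toRingHom (eval₂ (toNormSub D).toRingHom z p) = _
        rw [hom_eval₂, hcomp]
        exact hpz) P
    rw [← IsLocalRing.eq_maximalIdeal hc] at hd
    exact hd
  have hmA : (maximalIdeal Ah).map (algebraMap Ah W') ≤ J := by
    rw [← GrothLib.Hensel.IsHenselization.map_maximalIdeal (R := A) (S := Ah), Ideal.map_map,
      Ideal.map_le_iff_le_comap]
    intro a ha
    have h1 : toNormSub D (algebraMap A D a) = algebraMap A (normSub D) a := (toNormSub D).commutes a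
    have ha' : algebraMap A D a ∈ maximalIdeal D := fun hu' => ha (by
      have h := hu'.map ((algebraMap E S).comp (algebraMap D E))
      exact IsLocalHom.map_nonunit (f := algebraMap A S) a h)
    have h2 := hmDJ _ ha'
    rw [h1] at h2
    show algebraMap Ah W' (algebraMap A Ah a) ∈ J
    convert h2 using 1
    exact Subtype.ext ((IsScalarTower.algebraMap_apply A Ah K a).symm.trans (ρ.commutes a).symm)
  -- every element agrees with the subring modulo the ideal
  let good : Subalgebra Ah W' :=
    { carrier := {w | ∃ m ∈ Nr, w - m ∈ J}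
      mul_mem' := by
        rintro a b ⟨m, hm, ha⟩ ⟨m', hm', hb⟩
        refine ⟨m * m', mul_mem hm hm', ?_⟩
        rw [show a * b - m * m' = (a - m) * b + m * (b - m') by ring]
        exact add_mem (Ideal.mul_mem_right _ _ ha) (Ideal.mul_mem_left _ _ hb)
      add_mem' := by
        rintro a b ⟨m, hm, ha⟩ ⟨m', hm', hb⟩
        exact ⟨m + m', add_mem hm hm', by rw [add_sub_add_comm]; exact add_mem ha hb⟩
      algebraMap_mem' := fun h => ⟨algebraMap Ah W' h, N'.algebraMap_mem h, by rw [sub_self]; exact zero_mem _⟩ }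
  have hgoodD : ∀ d : D, νD (toNormSub D d) ∈ good := by
    intro d
    obtain ⟨b, hb⟩ := hWB _ (Algebra.subset_adjoin ⟨d, rfl⟩ : δ d ∈ W)
    refine ⟨⟨μ (φ b), hWW' _ (hφW b)⟩, Algebra.subset_adjoin (Or.inr ⟨b, rfl⟩), ?_⟩
    -- an element of the maximal ideal of the finite algebra
    have hw : δ d - φ b ∈ W := sub_mem (Algebra.subset_adjoin ⟨d, rfl⟩) (hφW b)
    have key : ∀ w ∈ W, ∃ d₀ : D, ∃ h : μ w ∈ W', (⟨μ w, h⟩ : W') - νD (toNormSub D d₀) ∈ J ∧
        w - δ d₀ ∈ maximalIdeal S := by
      intro w hw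
      refine Algebra.adjoin_induction (fun z hz => ?_) (fun h => ?_) (fun z z' _ _ h h' => ?_)
        (fun z z' _ _ h h' => ?_) hw
      · obtain ⟨e, rfl⟩ := hz
        refine ⟨e, hWW' _ (Algebra.subset_adjoin ⟨e, rfl⟩), ?_, by simp⟩
        rw [show (⟨μ (δ e), _⟩ : W') = νD (toNormSub D e) from Subtype.ext (hρD e).symm, sub_self]
        exact zero_mem _
      · obtain ⟨a, ha⟩ := GrothLib.Hensel.IsHenselization.exists_sub_mem (R := A) (S := Ah) h
        refine ⟨algebraMap A D a, hWW' _ (W.algebraMap_mem h), ?_, ?_⟩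
        · convert hmA (Ideal.mem_map_of_mem _ ha) using 1
          refine Subtype.ext ?_
          show μ (algebraMap Ah S h) - ρ (toNormSub D (algebraMap A D a) : FractionRing E) =
            algebraMap Ah K (h - algebraMap A Ah a)
          rw [hρD, ← hA, ← map_sub, ← map_sub, ← IsScalarTower.algebraMap_apply]
        · rw [← hA, ← map_sub]
          exact fun hu' => ha (IsLocalHom.map_nonunit _ hu')
      · obtain ⟨e, he, hz, hz2⟩ := h
        obtain ⟨e', he', hz', hz2'⟩ := h'
        refine ⟨e + e', by rw [map_add]; exact add_mem he he', ?_, by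
          rw [show δ (e + e') = δ e + δ e' from rfl, add_sub_add_comm]; exact add_mem hz2 hz2'⟩
        rw [map_add (toNormSub D), map_add νD, show (⟨μ (z + z'), _⟩ : W') = ⟨μ z, he⟩ + ⟨μ z', he'⟩ from
          Subtype.ext (map_add μ z z'), add_sub_add_comm]
        exact add_mem hz hz'
      · obtain ⟨e, he, hz, hz2⟩ := h
        obtain ⟨e', he', hz', hz2'⟩ := h'
        refine ⟨e * e', by rw [map_mul]; exact mul_mem he he', ?_, by
          rw [show δ (e * e') = δ e * δ e' from rfl,
            show z * z' - δ e * δ e' = (z - δ e) * z' + δ e * (z' - δ e') by ring]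
          exact add_mem (Ideal.mul_mem_right _ _ hz2) (Ideal.mul_mem_left _ _ hz2')⟩
        rw [map_mul (toNormSub D), map_mul νD, show (⟨μ (z * z'), _⟩ : W') = ⟨μ z, he⟩ * ⟨μ z', he'⟩ from
          Subtype.ext (map_mul μ z z')]
        set a := (⟨μ z, he⟩ : W')
        set a' := (⟨μ z', he'⟩ : W')
        rw [show a * a' - νD (toNormSub D e) * νD (toNormSub D e') =
          (a - νD (toNormSub D e)) * a' + νD (toNormSub D e) * (a' - νD (toNormSub D e')) by ring]
        exact add_mem (Ideal.mul_mem_right _ _ hz) (Ideal.mul_mem_left _ _ hz')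
    obtain ⟨d₀, h0, hJ0, hS0⟩ := key _ hw
    have hd₀ : d₀ ∈ maximalIdeal D := fun hu' => by
      have h1 : IsUnit (δ d₀) := hu'.map ((algebraMap E S).comp (algebraMap D E))
      have h2 : δ d₀ ∈ maximalIdeal S := by
        simpa using Ideal.sub_mem _ hb hS0
      exact h2 h1
    have h3 := add_mem hJ0 (hmDJ d₀ hd₀)
    rw [sub_add_cancel] at h3
    convert h3 using 1
    refine Subtype.ext ?_
    show ρ (toNormSub D d : FractionRing E) - μ (φ b) = μ (δ d - φ b)
    rw [hρD, map_sub]
  have hgoodB : ∀ y : normSub D, νD y ∈ good := by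
    intro y
    obtain ⟨z, hz, hyz⟩ := hgen y
    have hz' : νD z ∈ good := by
      refine Algebra.adjoin_induction (fun x hx => ?_) (fun a => ?_) (fun x x' _ _ h h' => ?_)
        (fun x x' _ _ h h' => ?_) hz
      · rcases hx with hx | ⟨d, rfl⟩
        · exact ⟨νD x, Algebra.subset_adjoin (Or.inl ⟨⟨x, hx⟩, rfl⟩), by rw [sub_self]; exact zero_mem _⟩
        · exact hgoodD d
      · rw [show νD (algebraMap A (normSub D) a) = algebraMap Ah W' (algebraMap A Ah a) from
          Subtype.ext ((ρ.commutes a).trans (IsScalarTower.algebraMap_apply A Ah K a))]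
        exact good.algebraMap_mem _
      · rw [map_add]; exact add_mem h h'
      · rw [map_mul]; exact mul_mem h h'
    obtain ⟨m, hm, hzm⟩ := hz'
    refine ⟨m, hm, ?_⟩
    have h2 := add_mem (hRadJ _ hyz) hzm
    rwa [map_sub, sub_add_sub_cancel] at h2
  have hgood : ∀ w : W', w ∈ good := by
    intro w
    have hle : W' ≤ good.map W'.val := Algebra.adjoin_le (by
      rintro _ (⟨d, rfl⟩ | ⟨y, hy, rfl⟩)
      · exact ⟨_, hgoodD d, hρD d⟩
      · exact ⟨_, hgoodB y, rfl⟩)
    obtain ⟨w', hw', he⟩ := hle w.2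
    rwa [← Subtype.ext (a1 := w') (a2 := w) he]
  -- Nakayama
  haveI : Algebra.IsIntegral A (normBase A E) := Algebra.IsIntegral.of_finite _ _
  haveI : IsNoetherianRing (normBase A E) := IsNoetherianRing.of_finite A _
  obtain ⟨m, hm⟩ := exists_jacobson_pow_le A (normBase A E)
  have hJm : J ^ m ≤ (maximalIdeal Ah).map (algebraMap Ah W') := by
    rw [hJmap, ← Ideal.map_pow]
    refine (Ideal.map_mono hm).trans ?_
    rw [Ideal.map_map, show ιW.toRingHom.comp (algebraMap A (normBase A E)) =
        (algebraMap Ah W').comp (algebraMap A Ah) from RingHom.ext fun a => Subtype.ext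
          ((ρ.commutes a).trans (IsScalarTower.algebraMap_apply A Ah K a)), ← Ideal.map_map,
      GrothLib.Hensel.IsHenselization.map_maximalIdeal]
  have htopN : (⊤ : Submodule Ah W') ≤ Subalgebra.toSubmodule (N'.comap W'.val) := by
    refine Submodule.le_of_le_smul_of_le_jacobson_bot Module.Finite.fg_top
      (maximalIdeal_le_jacobson ⊥) fun w _ => ?_
    obtain ⟨x, hx, hwx⟩ := exists_sub_mem_pow Nr (ιW '' (R₀ : Set (normBase A E)))
      (by rintro _ ⟨x, -, rfl⟩; exact Algebra.subset_adjoin (Or.inl ⟨x, rfl⟩)) hgood m w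
    refine Submodule.mem_sup.mpr ⟨x, hx, w - x, ?_, by abel⟩
    rw [Ideal.smul_top_eq_map, Submodule.restrictScalars_mem]
    exact hJm hwx
  -- denominators
  have hden : ∀ z ∈ N', ∃ a ∈ nonZeroDivisors A, ∃ b : B, algebraMap A K a * z = μ (φ b) := by
    intro z hz
    refine Algebra.adjoin_induction (fun y hy => ?_) (fun h => ⟨1, one_mem _, algebraMap Ah B h, ?_⟩)
      (fun y y' _ _ h h' => ?_) (fun y y' _ _ h h' => ?_) hz
    · rcases hy with ⟨x, rfl⟩ | ⟨b, rfl⟩
      · obtain ⟨-, a, ha, c, hc⟩ := mem_normBase_iff.mp x.2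
        refine ⟨a, ha, algebraMap Ah B (algebraMap A Ah c), ?_⟩
        rw [φ.commutes, ← ρ.commutes, ← map_mul, hc, ρ.commutes, ← IsScalarTower.algebraMap_apply A Ah S]
        exact IsScalarTower.algebraMap_apply A S K c
      · exact ⟨1, one_mem _, b, by rw [map_one, one_mul]⟩
    · rw [map_one, one_mul, φ.commutes]
      exact IsScalarTower.algebraMap_apply Ah S K h
    · obtain ⟨a, ha, b, hb⟩ := h
      obtain ⟨a', ha', b', hb'⟩ := h'
      refine ⟨a * a', mul_mem ha ha', algebraMap Ah B (algebraMap A Ah a') * b + algebraMap Ah B (algebraMap A Ah a) * b', ?_⟩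
      rw [map_add, map_mul φ, map_mul φ, map_add, map_mul μ, map_mul μ, φ.commutes, φ.commutes, ← hb, ← hb',
        ← IsScalarTower.algebraMap_apply A Ah S, ← IsScalarTower.algebraMap_apply A Ah S,
        show μ (algebraMap A S a') = algebraMap A K a' from (IsScalarTower.algebraMap_apply A S K a').symm,
        show μ (algebraMap A S a) = algebraMap A K a from (IsScalarTower.algebraMap_apply A S K a).symm,
        map_mul]
      ring
    · obtain ⟨a, ha, b, hb⟩ := h
      obtain ⟨a', ha', b', hb'⟩ := h'
      exact ⟨a * a', mul_mem ha ha', b * b', by rw [map_mul φ, map_mul μ, ← hb, ← hb', map_mul]; ring⟩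
  have hDB : ∀ d : D, ∃ b : B, φ b = δ d := by
    intro d
    have h1 : μ (δ d) ∈ N' := htopN (show (⟨μ (δ d), hWW' _ (Algebra.subset_adjoin ⟨d, rfl⟩)⟩ : W') ∈
      (⊤ : Submodule Ah W') from trivial)
    obtain ⟨a, ha, b, hb⟩ := hden _ h1
    have h2 : algebraMap A S a * δ d = φ b := IsFractionRing.injective S K (by
      rw [map_mul, ← IsScalarTower.algebraMap_apply A S K]; exact hb)
    let aB : B := algebraMap Ah B (algebraMap A Ah a)
    have haB : φ aB = algebraMap A S a := by
      rw [φ.commutes, ← IsScalarTower.algebraMap_apply]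
    have hmem : b ∈ Ideal.span {aB} := by
      rw [← Ideal.comap_map_eq_self_of_faithfullyFlat (B := S) (Ideal.span {aB}), Ideal.mem_comap,
        Ideal.map_span, Set.image_singleton, Ideal.mem_span_singleton']
      refine ⟨δ d, ?_⟩
      show δ d * φ aB = φ b
      rw [haB, mul_comm, h2]
    obtain ⟨b', hb'⟩ := Ideal.mem_span_singleton'.mp hmem
    refine ⟨b', ?_⟩
    have hregS : IsUnit (algebraMap A K a) := hu a ha
    refine IsFractionRing.injective S K (hregS.mul_left_cancel ?_)
    rw [IsScalarTower.algebraMap_apply A S K, ← map_mul, ← map_mul, h2, ← hb', map_mul φ, haB, mul_comm]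
  -- approximation in the maximal ideal
  let mS : ℕ → Ideal S := fun N => (maximalIdeal A ^ N).map (algebraMap A S)
  have hmapB : ∀ N, (maximalIdeal Ah ^ N).map (algebraMap Ah B) =
      (maximalIdeal A ^ N).map ((algebraMap Ah B).comp (algebraMap A Ah)) := fun N => by
    rw [← Ideal.map_map, Ideal.map_pow (algebraMap A Ah),
      GrothLib.Hensel.IsHenselization.map_maximalIdeal]
  have happrox : ∀ N (b : B), ∃ d : D, φ b - δ d ∈ mS N := by
    intro N
    induction N with
    | zero => exact fun b => ⟨0, by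
        show _ ∈ Ideal.map _ (maximalIdeal A ^ 0)
        rw [pow_zero, Ideal.one_eq_top, Ideal.map_top]; trivial⟩
    | succ N ih =>
      intro b
      obtain ⟨d, hd⟩ := ih b
      obtain ⟨b₀, hb₀⟩ := hDB d
      rw [← hb₀, ← map_sub] at hd
      have hz : b - b₀ ∈ (maximalIdeal A ^ N).map ((algebraMap Ah B).comp (algebraMap A Ah)) := by
        rw [← Ideal.comap_map_eq_self_of_faithfullyFlat (B := S)
          (Ideal.map ((algebraMap Ah B).comp (algebraMap A Ah)) (maximalIdeal A ^ N)), Ideal.mem_comap,
          Ideal.map_map, show (algebraMap B S).comp ((algebraMap Ah B).comp (algebraMap A Ah)) =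
            algebraMap A S from RingHom.ext fun a => (φ.commutes _).trans
              (IsScalarTower.algebraMap_apply A Ah S a).symm]
        exact hd
      suffices h : ∀ z ∈ (maximalIdeal A ^ N).map ((algebraMap Ah B).comp (algebraMap A Ah)),
          ∃ d' : D, φ z - δ d' ∈ mS (N + 1) by
        obtain ⟨d', hd'⟩ := h _ hz
        refine ⟨d + d', ?_⟩
        rw [map_sub, hb₀] at hd'
        rw [show δ (d + d') = δ d + δ d' from rfl, ← sub_sub]
        exact hd'
      intro z hz
      refine Submodule.span_induction (fun y hy => ?_) ⟨0, by simp [mS, show δ 0 = 0 from rfl]⟩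
        (fun y y' _ _ h h' => ?_) (fun c y _ h => ?_) hz
      · obtain ⟨a, ha, rfl⟩ := hy
        refine ⟨algebraMap A D a, ?_⟩
        rw [RingHom.comp_apply, φ.commutes, hA, sub_self]
        exact zero_mem _
      · obtain ⟨e, he⟩ := h
        obtain ⟨e', he'⟩ := h'
        exact ⟨e + e', by
          rw [map_add, show δ (e + e') = δ e + δ e' from rfl, add_sub_add_comm]; exact add_mem he he'⟩
      · obtain ⟨e, he⟩ := h
        obtain ⟨e₁, he₁⟩ := hWres _ (hφW c)
        refine ⟨e₁ * e, ?_⟩
        rw [smul_eq_mul, map_mul, show δ (e₁ * e) = δ e₁ * δ e from rfl,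
          show φ c * φ y - δ e₁ * δ e = δ e₁ * (φ y - δ e) + φ y * (φ c - δ e₁) by ring]
        refine add_mem (Ideal.mul_mem_left _ _ he) ?_
        show _ ∈ (maximalIdeal A ^ (N + 1)).map (algebraMap A S)
        rw [pow_succ, Ideal.map_mul]
        refine Ideal.mul_mem_mul ?_ ?_
        · have h5 := Ideal.mem_map_of_mem φ.toRingHom
            (show y ∈ (maximalIdeal A ^ N).map ((algebraMap Ah B).comp (algebraMap A Ah)) from by assumption)
          rw [Ideal.map_map, show φ.toRingHom.comp ((algebraMap Ah B).comp (algebraMap A Ah)) =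
            algebraMap A S from RingHom.ext fun a => (φ.commutes _).trans
              (IsScalarTower.algebraMap_apply A Ah S a).symm] at h5
          exact h5
        · rw [GrothLib.Hensel.IsStrictHenselization.map_maximalIdeal (R := A) (S := S)]
          exact he₁
  -- conclusion
  refine le_antisymm (Ideal.map_le_iff_le_comap.mpr fun a ha hu' => ?_) fun d hd => ?_
  · exact ha (IsLocalHom.map_nonunit (f := algebraMap A S) a
      ((hu'.map ((algebraMap E S).comp (algebraMap D E))) : _))
  obtain ⟨b, hb⟩ := hDB d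
  have hbm : b ∈ (maximalIdeal A).map ((algebraMap Ah B).comp (algebraMap A Ah)) := by
    rw [← Ideal.map_map, GrothLib.Hensel.IsHenselization.map_maximalIdeal, hmB]
    exact fun hu' => hd (hDunit d (hb ▸ hu'.map φ))
  suffices h : ∃ y ∈ (maximalIdeal A).map (algebraMap A D), φ b - δ y ∈ mS n by
    obtain ⟨y, hy, hby⟩ := h
    have h2 : ((d - y : D) : E) ∈ (maximalIdeal A ^ n).map (algebraMap A E) := by
      rw [← Ideal.comap_map_eq_self_of_faithfullyFlat (B := S)
        ((maximalIdeal A ^ n).map (algebraMap A E)), Ideal.mem_comap, Ideal.map_map,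
        ← IsScalarTower.algebraMap_eq]
      rw [hb] at hby
      exact hby
    simpa using add_mem (htop _ h2) hy
  refine Submodule.span_induction (fun y hy => ?_) ⟨0, zero_mem _, by simp [show δ 0 = 0 from rfl]⟩
    (fun y y' _ _ h h' => ?_) (fun c y _ h => ?_) hbm
  · obtain ⟨a, ha, rfl⟩ := hy
    refine ⟨algebraMap A D a, Ideal.mem_map_of_mem _ ha, ?_⟩
    rw [RingHom.comp_apply, φ.commutes, hA, sub_self]
    exact zero_mem _
  · obtain ⟨e, he, he1⟩ := h
    obtain ⟨e', he', he1'⟩ := h'
    exact ⟨e + e', add_mem he he', by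
      rw [map_add, show δ (e + e') = δ e + δ e' from rfl, add_sub_add_comm]; exact add_mem he1 he1'⟩
  · obtain ⟨e, he, he1⟩ := h
    obtain ⟨e₁, he₁⟩ := happrox n c
    refine ⟨e₁ * e, Ideal.mul_mem_left _ _ he, ?_⟩
    rw [smul_eq_mul, map_mul, show δ (e₁ * e) = δ e₁ * δ e from rfl,
      show φ c * φ y - δ e₁ * δ e = δ e₁ * (φ y - δ e) + φ y * (φ c - δ e₁) by ring]
    exact add_mem (Ideal.mul_mem_left _ _ he1) (Ideal.mul_mem_left _ _ he₁)

end GrothLib.EssEtLoc
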