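import Groth.Agent.Lib.EssEtLoc.StrictNorm

/-!
# Normalization of a subring dominated by a strict henselization, and its henselization
-/

universe u

open IsLocalRing TensorProduct

noncomputable section

namespace GrothLib.EssEtLoc

variable {A S : Type u} [CommRing A] [IsLocalRing A] [IsReduced A] [IsNoetherianRing A] [CommRing S]
  [IsLocalRing S] [Algebra A S] [IsLocalHom (algebraMap A S)]
  [hS : _root_.Hensel.IsStrictHenselization A S]

theorem isReduced_subalgebra_strict (D : Subalgebra A S) :
    IsReduced D ∧ (minimalPrimes D).Finite := by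
  haveI : IsReduced S :=
    (GrothLib.Hensel.IsStrictHenselization.isReduced_iff (R := A) (S := S)).mp inferInstance
  haveI : IsNoetherianRing S :=
    (GrothLib.Hensel.IsStrictHenselization.isNoetherianRing_iff (R := A) (S := S)).mp inferInstance
  refine ⟨isReduced_of_injective D.val Subtype.val_injective, ?_⟩
  refine ((minimalPrimes.finite_of_isNoetherianRing S).image fun q => q.comap D.val.toRingHom).subset ?_
  intro p hp
  haveI := hp.1.1
  obtain ⟨q, hq, hqp⟩ := Ideal.exists_comap_eq_of_mem_minimalPrimes_of_injective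
    (f := D.val.toRingHom) Subtype.val_injective p hp
  haveI := hq
  obtain ⟨q₀, hq₀, hle⟩ := Ideal.exists_minimalPrimes_le (I := (⊥ : Ideal S)) (J := q) bot_le
  haveI : q₀.IsPrime := hq₀.1.1
  refine ⟨q₀, hq₀, le_antisymm ?_ (hp.2 ⟨inferInstance, bot_le⟩ ?_)⟩
  · exact (Ideal.comap_mono hle).trans hqp.le
  · exact (Ideal.comap_mono hle).trans hqp.le

theorem exists_mul_eq_algebraMap (D : Subalgebra A S) (d : D) (hd : d ∈ nonZeroDivisors D) :
    ∃ c : D, ∃ a ∈ nonZeroDivisors A, d * c = algebraMap A D a := by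
  obtain ⟨E, _, hsE, -, hE⟩ := exists_subalgebra (A := A) (S := S) {(d : S)}
  let dE : E := ⟨d, hsE (by simp)⟩
  obtain ⟨z, ⟨b, hb, d₀, hd₀, hbz⟩, a, ha, hza⟩ :=
    exists_mul_eq (minimalPrimes.finite_of_isNoetherianRing A) hE (fracSub A (D.comap E.val))
      (s := algebraMap E (FractionRing E) dE)
      ⟨1, one_mem _, dE, d.2, by rw [map_one, one_mul]⟩ (by
        rintro z ⟨b, hb, d₀, hd₀, hbz⟩ hz
        refine (isUnit_algebraMap_fractionRing hE hb).mul_right_eq_zero.mp ?_
        rw [hbz]
        have h1 : algebraMap E (FractionRing E) (dE * d₀) = 0 := by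
          rw [map_mul, ← hbz, mul_left_comm, hz, mul_zero]
        have h2 : dE * d₀ = 0 := IsFractionRing.injective E _ (h1.trans (map_zero _).symm)
        have h3 : (⟨(d₀ : S), hd₀⟩ : D) = 0 := (mem_nonZeroDivisors_iff_left.mp hd) _
          (Subtype.ext (congrArg Subtype.val h2 :))
        have h4 : d₀ = 0 := Subtype.ext (congrArg Subtype.val h3 :)
        rw [h4, map_zero])
  refine ⟨⟨(d₀ : S), hd₀⟩, b * a, mul_mem hb ha, Subtype.ext ?_⟩
  have h1 : algebraMap E (FractionRing E) (dE * d₀) = algebraMap E (FractionRing E) (algebraMap A E (b * a)) := by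
    rw [map_mul, ← hbz, mul_left_comm, hza, ← map_mul, ← IsScalarTower.algebraMap_apply]
  exact (congrArg Subtype.val (IsFractionRing.injective E _ h1) :)

theorem isUnit_algebraMap_subalgebra (D : Subalgebra A S) {d : D} (hd : d ∈ nonZeroDivisors D) :
    IsUnit (algebraMap D (FractionRing S) d) := by
  obtain ⟨c, a, ha, h⟩ := exists_mul_eq_algebraMap D d hd
  refine isUnit_of_mul_isUnit_left (y := algebraMap D (FractionRing S) c) ?_
  rw [← map_mul, h, ← IsScalarTower.algebraMap_apply]
  exact isUnit_algebraMap_fraction_strict ha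

/-- The strict henselization is integral over every subring containing the henselization of the base. -/
theorem isIntegral_of_henselization (s : S) :
    ∃ (_ : Algebra (GrothLib.Hensel.Hens A) S), IsScalarTower A (GrothLib.Hensel.Hens A) S ∧
      IsIntegral (GrothLib.Hensel.Hens A) s := by
  classical
  haveI : HenselianLocalRing (GrothLib.Hensel.Hens A) := (GrothLib.Hensel.Hens.isHenselization A).henselian
  haveI := hS.henselian
  obtain ⟨gh, hgh, -⟩ := (GrothLib.Hensel.Hens.isHenselization A).universal S (algebraMap A S) ‹_›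
  letI : Algebra (GrothLib.Hensel.Hens A) S := gh.toAlgebra
  haveI : IsScalarTower A (GrothLib.Hensel.Hens A) S := IsScalarTower.of_algebraMap_eq' hgh.symm
  obtain ⟨hloc, hSh⟩ := isStrictHenselization_of_henselization (A := A)
    (Ah := GrothLib.Hensel.Hens A) (Ash := S)
  haveI := hloc
  haveI := hSh
  obtain ⟨C, _, _, _, φC, hCfin, -, -, -, -, -, -, hsub, -⟩ :=
    exists_galois_cover (GrothLib.Hensel.Hens A) S {s}
  obtain ⟨c, hc⟩ := hsub (Finset.mem_coe.mpr (Finset.mem_singleton_self s))
  haveI := hCfin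
  exact ⟨inferInstance, inferInstance, hc ▸ (Algebra.IsIntegral.isIntegral c).map φC⟩

variable (D : Subalgebra A S) [IsLocalRing D] [IsLocalHom (algebraMap D S)]
  (Dh : Type u) [CommRing Dh] [IsLocalRing Dh] [Algebra D Dh] [IsLocalHom (algebraMap D Dh)]
  [hDh : _root_.Hensel.IsHenselization D Dh] [Algebra Dh S] [IsScalarTower D Dh S]

omit [IsReduced A] [IsNoetherianRing A] hS [IsLocalHom (algebraMap A S)] in
include D hDh in
theorem isLocalHom_henselization : IsLocalHom (algebraMap Dh S) := by
  refine ((local_hom_TFAE (algebraMap Dh S)).out 0 2 rfl rfl).mpr ?_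
  rw [← GrothLib.Hensel.IsHenselization.map_maximalIdeal (R := D) (S := Dh), Ideal.map_map,
    ← IsScalarTower.algebraMap_eq]
  exact ((local_hom_TFAE (algebraMap D S)).out 0 2 rfl rfl).mp ‹_›

include D hDh in
/-- The image of the henselization contains that of the henselization of the base. -/
theorem exists_comp_henselization :
    ∃ (u : GrothLib.Hensel.Hens A →+* Dh), ∀ [Algebra (GrothLib.Hensel.Hens A) S]
      [IsScalarTower A (GrothLib.Hensel.Hens A) S],
      (algebraMap Dh S).comp u = algebraMap (GrothLib.Hensel.Hens A) S := by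
  haveI := hDh.henselian
  haveI := hS.henselian
  haveI := isLocalHom_henselization D Dh
  haveI : IsLocalHom (algebraMap A D) := ⟨fun a ha => by
    have h := ha.map (algebraMap D S)
    rw [← IsScalarTower.algebraMap_apply] at h
    exact IsLocalHom.map_nonunit a h⟩
  obtain ⟨v, hv, -⟩ := (GrothLib.Hensel.Hens.isHenselization A).universal Dh
    ((algebraMap D Dh).comp (algebraMap A D)) (RingHom.isLocalHom_comp _ _)
  refine ⟨v, fun {_} {_} => ?_⟩
  obtain ⟨g, -, huniq⟩ := (GrothLib.Hensel.Hens.isHenselization A).universal S (algebraMap A S) ‹_›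
  refine (huniq _ ?_).trans (huniq _ (IsScalarTower.algebraMap_eq A _ S).symm).symm
  show ((algebraMap Dh S).comp v).comp (algebraMap A (GrothLib.Hensel.Hens A)) = algebraMap A S
  rw [RingHom.comp_assoc, hv, ← RingHom.comp_assoc, ← IsScalarTower.algebraMap_eq,
    ← IsScalarTower.algebraMap_eq]

variable {A' D' : Subalgebra A (FractionRing S)} (hle : A' ≤ D') (ι : D →ₐ[A] D')
  (hA' : ∀ x : (FractionRing S), x ∈ A' ↔ (IsIntegral A x ∧
    ∃ a ∈ nonZeroDivisors A, ∃ b : A, algebraMap A (FractionRing S) a * x = algebraMap A (FractionRing S) b))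
  (hD' : ∀ x : (FractionRing S), x ∈ D' ↔ (IsIntegral D x ∧
    ∃ a ∈ nonZeroDivisors A, ∃ d ∈ D, algebraMap A (FractionRing S) a * x = algebraMap S (FractionRing S) d))
  (hι : ∀ d : D, (ι d : (FractionRing S)) = algebraMap S (FractionRing S) d)

omit [IsLocalRing D] [IsLocalHom (algebraMap D S)] in
include hD' in
theorem mem_of_isIntegral_of_mul_mem {x : FractionRing S} (hx : IsIntegral D x) {d : D}
    (hd : d ∈ nonZeroDivisors D) (b : D)
    (h : algebraMap D (FractionRing S) d * x = algebraMap D (FractionRing S) b) : x ∈ D' := by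
  obtain ⟨c, a, ha, hca⟩ := exists_mul_eq_algebraMap D d hd
  refine (hD' _).mpr ⟨hx, a, ha, ((b * c : D) : S), (b * c : D).2, ?_⟩
  rw [IsScalarTower.algebraMap_apply A D (FractionRing S), ← hca, map_mul, mul_right_comm, h, ← map_mul]
  rfl

omit [IsLocalRing D] [IsLocalHom (algebraMap D S)] [IsLocalRing A] [IsReduced A] [IsNoetherianRing A]
  [IsLocalHom (algebraMap A S)] hS [IsLocalRing S] in
include hD' in
theorem isIntegral_coe (x : D') : IsIntegral S (x : FractionRing S) :=
  ((hD' _).mp x.2).1.tower_top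

/-- The map to the normalization of the strict henselization. -/
def toStrictNorm (h : ∀ x : D', IsIntegral S (x : FractionRing S)) :
    D' →+* integralClosure S (FractionRing S) where
  toFun x := ⟨x, h x⟩
  map_one' := rfl
  map_mul' _ _ := rfl
  map_zero' := rfl
  map_add' _ _ := rfl

omit [IsReduced A] [IsNoetherianRing A] hS [IsLocalHom (algebraMap A S)] in
include hD' hι in
theorem isMaximal_comap_toStrictNorm (M : Ideal (integralClosure S (FractionRing S))) [M.IsMaximal] :
    (M.comap (toStrictNorm (isIntegral_coe D hD'))).IsMaximal := by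
  haveI : (M.comap (toStrictNorm (isIntegral_coe D hD'))).IsPrime := Ideal.IsPrime.comap _
  refine Ideal.isMaximal_of_isIntegral_of_isMaximal_comap' ι.toRingHom (fun z => by
    obtain ⟨p, hp, hpz⟩ := ((hD' _).mp z.2).1
    refine ⟨p, hp, Subtype.ext ?_⟩
    have hcomp : D'.val.toRingHom.comp ι.toRingHom = algebraMap D (FractionRing S) :=
      RingHom.ext fun d => hι d
    show D'.val.toRingHom (Polynomial.eval₂ ι.toRingHom z p) = _
    rw [Polynomial.hom_eval₂, hcomp]
    exact hpz) _ ?_
  convert maximalIdeal.isMaximal D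
  ext d
  have hm := IsLocalRing.eq_maximalIdeal (Ideal.isMaximal_comap_of_isIntegral_of_isMaximal (R := S) M)
  have h1 : toStrictNorm (isIntegral_coe D hD') (ι d) =
      algebraMap S (integralClosure S (FractionRing S)) (d : S) := Subtype.ext (hι d)
  show toStrictNorm (isIntegral_coe D hD') (ι d) ∈ M ↔ _
  rw [h1, ← Ideal.mem_comap, hm]
  exact ⟨fun h hd => h (hd.map (algebraMap D S)),
    fun h hd => h (IsLocalHom.map_nonunit (f := algebraMap D S) d hd)⟩

omit [IsLocalRing D] [IsLocalHom (algebraMap D S)] [IsLocalRing A] [IsReduced A] [IsNoetherianRing A]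
  [IsLocalHom (algebraMap A S)] hS [IsLocalRing S] in
include hι in
theorem coe_productMap_map (t : A' ⊗[A] D) :
    ((Algebra.TensorProduct.productMap (Subalgebra.inclusion hle) ι t : D') : FractionRing S) =
      Algebra.TensorProduct.productMap A'.val (IsScalarTower.toAlgHom A S (FractionRing S))
        (Algebra.TensorProduct.map (AlgHom.id A A') D.val t) := by
  induction t using TensorProduct.induction_on with
  | zero => simp
  | tmul a d =>
    rw [Algebra.TensorProduct.map_tmul, Algebra.TensorProduct.productMap_apply_tmul,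
      Algebra.TensorProduct.productMap_apply_tmul, Subalgebra.coe_mul, hι]
    rfl
  | add t t' h h' => rw [map_add, map_add, map_add, Subalgebra.coe_add, h, h']

include hA' hD' hι in
/-- Residual generation gives lying over in the normalization of the strict henselization. -/
theorem exists_maximal_over (hsurj : Function.Surjective
      ((Ideal.Quotient.mkₐ A (Ideal.jacobson (⊥ : Ideal D'))).comp
        (Algebra.TensorProduct.productMap (Subalgebra.inclusion hle) ι)))
    (N : Ideal D') [N.IsMaximal] :
    ∃ M : Ideal (integralClosure S (FractionRing S)), M.IsMaximal ∧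
      M.comap (toStrictNorm (isIntegral_coe D hD')) = N := by
  letI : Field (D' ⧸ N) := Ideal.Quotient.field N
  let Ω := AlgebraicClosure (D' ⧸ N)
  obtain ⟨π, hπ⟩ : ∃ π : D' →ₐ[A] Ω, ∀ z, π z = 0 ↔ z ∈ N :=
    ⟨(IsScalarTower.toAlgHom A (D' ⧸ N) Ω).comp (Ideal.Quotient.mkₐ A N), fun z => by
      show algebraMap _ Ω (Ideal.Quotient.mk N z) = 0 ↔ _
      rw [map_eq_zero, Ideal.Quotient.eq_zero_iff_mem]⟩
  have hker : ∀ d ∈ maximalIdeal D, π (ι d) = 0 := fun d hd => by
    rw [hπ]
    rw [← comap_eq_maximalIdeal D ι hι (fun x => ((hD' _).mp x.2).1) N] at hd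
    exact hd
  letI : Algebra (ResidueField D) Ω :=
    (Ideal.Quotient.lift _ (π.toRingHom.comp ι.toRingHom) hker).toAlgebra
  haveI : IsLocalHom (algebraMap A D) := ⟨fun a ha => by
    have h := ha.map (algebraMap D S)
    rw [← IsScalarTower.algebraMap_apply] at h
    exact IsLocalHom.map_nonunit a h⟩
  haveI : IsScalarTower (ResidueField A) (ResidueField D) (ResidueField S) :=
    IsScalarTower.of_algebraMap_eq fun x => by
      obtain ⟨a, rfl⟩ := residue_surjective x
      rfl
  haveI := hS.isSepClosure.separable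
  haveI : Algebra.IsAlgebraic (ResidueField D) (ResidueField S) :=
    Algebra.IsAlgebraic.tower_top (K := ResidueField A) _
  obtain ⟨χ₀, hχ₀⟩ : ∃ χ₀ : ResidueField S →+* Ω, ∀ d : D, χ₀ (residue S (d : S)) = π (ι d) :=
    ⟨(IsAlgClosed.lift : ResidueField S →ₐ[ResidueField D] Ω).toRingHom,
      fun e => (IsAlgClosed.lift : ResidueField S →ₐ[ResidueField D] Ω).commutes (residue D e)⟩
  let χ : S →ₐ[A] Ω :=
    { toRingHom := χ₀.comp (residue S)
      commutes' := fun a => (hχ₀ (algebraMap A D a)).trans (by rw [AlgHom.commutes, AlgHom.commutes]) }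
  obtain ⟨M, hM, hMiff⟩ := exists_maximal_of_hom hA' (π.comp (Subalgebra.inclusion hle)) χ fun x hx => by
    show χ₀ (residue S x) = 0
    rw [(residue_eq_zero_iff x).mpr hx, map_zero]
  refine ⟨M, hM, ?_⟩
  haveI := hM
  haveI hMD := isMaximal_comap_toStrictNorm D ι hD' hι M
  have hcomp : (Algebra.TensorProduct.lift (π.comp (Subalgebra.inclusion hle)) χ
        fun _ _ => Commute.all _ _).comp (Algebra.TensorProduct.map (AlgHom.id A A') D.val) =
      π.comp (Algebra.TensorProduct.productMap (Subalgebra.inclusion hle) ι) := by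
    refine Algebra.TensorProduct.ext' fun a d => ?_
    rw [AlgHom.comp_apply, AlgHom.comp_apply, Algebra.TensorProduct.map_tmul,
      Algebra.TensorProduct.lift_tmul, Algebra.TensorProduct.productMap_apply_tmul, map_mul, ← hχ₀]
    rfl
  ext x
  obtain ⟨t, ht⟩ := hsurj (Ideal.Quotient.mk _ x)
  rw [AlgHom.comp_apply, Ideal.Quotient.mkₐ_eq_mk, Ideal.Quotient.eq] at ht
  have h1 : Algebra.TensorProduct.productMap (Subalgebra.inclusion hle) ι t - x ∈ N :=
    (sInf_le ⟨bot_le, inferInstance⟩ : Ideal.jacobson (⊥ : Ideal D') ≤ N) ht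
  have h2 : Algebra.TensorProduct.productMap (Subalgebra.inclusion hle) ι t - x ∈
      M.comap (toStrictNorm (isIntegral_coe D hD')) :=
    (sInf_le ⟨bot_le, hMD⟩ : Ideal.jacobson (⊥ : Ideal D') ≤ _) ht
  have key : Algebra.TensorProduct.productMap (Subalgebra.inclusion hle) ι t ∈
      M.comap (toStrictNorm (isIntegral_coe D hD')) ↔
      Algebra.TensorProduct.productMap (Subalgebra.inclusion hle) ι t ∈ N := by
    rw [Ideal.mem_comap, hMiff (Algebra.TensorProduct.map (AlgHom.id A A') D.val t) _
      (coe_productMap_map D hle ι hι t), ← hπ,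
      show π (Algebra.TensorProduct.productMap (Subalgebra.inclusion hle) ι t) =
        Algebra.TensorProduct.lift (π.comp (Subalgebra.inclusion hle)) χ (fun _ _ => Commute.all _ _)
          (Algebra.TensorProduct.map (AlgHom.id A A') D.val t) from (AlgHom.congr_fun hcomp t).symm]
  constructor
  · intro hx
    simpa using N.sub_mem (key.mp (by simpa using add_mem h2 hx)) h1
  · intro hx
    simpa using Ideal.sub_mem _ (key.mpr (by simpa using add_mem h1 hx)) h2

end GrothLib.EssEtLoc
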