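import Groth.Agent.Lib.EssEtLoc.NoetherianIntermediate

/-!
# Residue generators of the normalization of a strict henselization
-/

universe u

open IsLocalRing TensorProduct

noncomputable section

namespace GrothLib.EssEtLoc

set_option maxHeartbeats 1000000 in
-- normalizations of total fraction rings have slow instance search
theorem exists_generators_strictNorm {A S : Type u} [CommRing A] [HenselianLocalRing A] [IsReduced A]
    [IsNoetherianRing A] [CommRing S] [IsLocalRing S] [Algebra A S] [IsLocalHom (algebraMap A S)]
    [_root_.Hensel.IsStrictHenselization A S] (hN : CAlg.IsNagata A) :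
    ∃ G : Finset (integralClosure S (FractionRing S)), ∀ M' : Ideal (integralClosure S (FractionRing S)),
      M'.IsMaximal → ∀ w : integralClosure S (FractionRing S), w ∈ Subring.closure
        (Set.range (algebraMap A (integralClosure S (FractionRing S))) ∪ G ∪
          {s | ∃ p : Polynomial A, p.Monic ∧ p.aeval s ∈ M' ∧ (p.map (Ideal.Quotient.mk
            (M'.comap (algebraMap A (integralClosure S (FractionRing S)))))).Separable}) := by
  classical
  have hA' : ∀ x : FractionRing S, x ∈ baseNorm A S ↔ (IsIntegral A x ∧ ∃ a ∈ nonZeroDivisors A, ∃ b : A,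
      algebraMap A (FractionRing S) a * x = algebraMap A (FractionRing S) b) := fun _ => Iff.rfl
  haveI := finite_normalization_base hA' hN
  obtain ⟨G, hG⟩ : (⊤ : Submodule A (baseNorm A S)).FG := Module.Finite.fg_top
  let ι : baseNorm A S →+* integralClosure S (FractionRing S) :=
    (baseNorm A S).val.toRingHom.codRestrict _ fun a => (a.2.1 : IsIntegral A _).tower_top
  refine ⟨G.image ι, fun M' hM' w => ?_⟩
  haveI := hM'
  obtain ⟨t, ht⟩ := exists_productMap_eq hA' (w : FractionRing S) w.2
  set C := Subring.closure (Set.range (algebraMap A (integralClosure S (FractionRing S))) ∪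
    ↑(G.image ι) ∪ {s | ∃ p : Polynomial A, p.Monic ∧ p.aeval s ∈ M' ∧ (p.map (Ideal.Quotient.mk
      (M'.comap (algebraMap A (integralClosure S (FractionRing S)))))).Separable})
  suffices hC : ∀ t : baseNorm A S ⊗[A] S, ∃ z ∈ C, (z : FractionRing S) = strictMul (baseNorm A S) t by
    obtain ⟨z, hz, hzt⟩ := hC t
    rwa [show w = z from Subtype.ext (ht.symm.trans hzt.symm)]
  intro t
  induction t using TensorProduct.induction_on with
  | zero => exact ⟨0, zero_mem _, by rw [map_zero]; rfl⟩
  | tmul a s =>
    refine ⟨ι a * algebraMap S _ s, mul_mem ?_ (Subring.subset_closure (Or.inr ?_)), ?_⟩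
    · refine Submodule.span_induction (p := fun z _ => ι z ∈ C)
        (fun z hz => Subring.subset_closure (Or.inl (Or.inr (Finset.mem_coe.mpr (Finset.mem_image_of_mem _ hz)))))
        (by rw [map_zero]; exact zero_mem _) (fun z z' _ _ h h' => by rw [map_add]; exact add_mem h h')
        (fun c z _ h => ?_) (hG ▸ Submodule.mem_top : a ∈ Submodule.span A (G : Set (baseNorm A S)))
      rw [Algebra.smul_def, map_mul]
      exact mul_mem (Subring.subset_closure (Or.inl (Or.inl ⟨c, Subtype.ext rfl⟩))) h
    · haveI := ‹_root_.Hensel.IsStrictHenselization A S›.isSepClosure.separable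
      have hx := Algebra.IsSeparable.isSeparable (ResidueField A) (residue S s)
      obtain ⟨p, hp, -, hpm⟩ := Polynomial.lifts_and_degree_eq_and_monic
        (Polynomial.map_surjective (residue A) residue_surjective (minpoly (ResidueField A) (residue S s)))
        (minpoly.monic hx.isIntegral)
      refine ⟨p, hpm, ?_, ?_⟩
      · rw [Polynomial.aeval_algebraMap_apply]
        refine mem_of_residue_eq M' ?_
        rw [← residue_eq_zero_iff, Polynomial.aeval_def, Polynomial.hom_eval₂,
          show (residue S).comp (algebraMap A S) =
            (algebraMap (ResidueField A) (ResidueField S)).comp (residue A) from rfl,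
          ← Polynomial.eval₂_map, hp, ← Polynomial.aeval_def, minpoly.aeval]
      · have hle : maximalIdeal A ≤ M'.comap (algebraMap A _) := fun a ha => by
          rw [Ideal.mem_comap, IsScalarTower.algebraMap_apply A S]
          exact mem_of_residue_eq M' fun hu => ha (IsLocalHom.map_nonunit a hu)
        let q : ResidueField A →+* A ⧸ M'.comap (algebraMap A (integralClosure S (FractionRing S))) :=
          Ideal.Quotient.factor hle
        rw [show Ideal.Quotient.mk (M'.comap (algebraMap A (integralClosure S (FractionRing S)))) =
          q.comp (residue A) from RingHom.ext fun _ => rfl, ← Polynomial.map_map, hp]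
        exact Polynomial.Separable.map (f := q) hx
    · rw [Algebra.TensorProduct.productMap_apply_tmul]
      rfl
  | add t t' h h' =>
    obtain ⟨z, hz, hzt⟩ := h
    obtain ⟨z', hz', hzt'⟩ := h'
    exact ⟨z + z', add_mem hz hz', by rw [map_add, Subalgebra.coe_add, hzt, hzt']⟩

end GrothLib.EssEtLoc
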