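import Groth.Agent.Lib.EssEtLoc.StrictResidue
import Groth.Agent.Lib.EssEtLoc.ResidueInter
import Groth.Agent.Lib.EssEtLoc.StageDescent

/-!
# The residual conditions make the henselization ind-essentially étale
-/

universe u

open IsLocalRing TensorProduct

noncomputable section

namespace GrothLib.EssEtLoc

variable {A S : Type u} [CommRing A] [IsLocalRing A] [IsReduced A] [IsNoetherianRing A] [CommRing S]
  [IsLocalRing S] [Algebra A S] [IsLocalHom (algebraMap A S)]
  [hS : _root_.Hensel.IsStrictHenselization A S]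
  {A' : Subalgebra A (FractionRing S)}
  (hA' : ∀ x : (FractionRing S), x ∈ A' ↔ (IsIntegral A x ∧
    ∃ a ∈ nonZeroDivisors A, ∃ b : A, algebraMap A (FractionRing S) a * x = algebraMap A (FractionRing S) b))

omit [IsLocalRing S] [IsLocalHom (algebraMap A S)] hS in
/-- A non-zero-divisor of the henselization divides one of the base. -/
theorem exists_mul_eq_algebraMap_henselization {Ah : Type u} [CommRing Ah] [IsLocalRing Ah] [Algebra A Ah]
    [IsLocalHom (algebraMap A Ah)] [_root_.Hensel.IsHenselization A Ah]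
    {h : Ah} (hh : h ∈ nonZeroDivisors Ah) :
    ∃ y : Ah, ∃ a ∈ nonZeroDivisors A, h * y = algebraMap A Ah a := by
  haveI := GrothLib.Hensel.IsHenselization.flat (R := A) (S := Ah)
  obtain ⟨E, _, hsE, -, hE⟩ := exists_subalgebra_of_etaleStages
    (GrothLib.Hensel.IsHenselization.etaleStages (A := A) (S := Ah)) {h}
  let hE' : E := ⟨h, hsE (by simp)⟩
  have hnz : hE' ∈ nonZeroDivisors E := by
    rw [mem_nonZeroDivisors_iff_right]
    intro y hy
    exact Subtype.ext ((mem_nonZeroDivisors_iff_right.mp hh) _ (congrArg Subtype.val hy :))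
  obtain ⟨hloc, -⟩ := fractionRing_structure (minimalPrimes.finite_of_isNoetherianRing A) hE
  obtain ⟨v, hv⟩ := (IsLocalization.map_units (FractionRing E) (⟨hE', hnz⟩ : nonZeroDivisors E)).exists_right_inv
  obtain ⟨⟨e, ⟨_, a, ha, rfl⟩⟩, hev⟩ :=
    IsLocalization.surj ((nonZeroDivisors A).map (algebraMap A E)) v
  refine ⟨(e : Ah), a, ha, ?_⟩
  have h1 : algebraMap E (FractionRing E) (hE' * e) = algebraMap E (FractionRing E) (algebraMap A E a) := by
    rw [map_mul, show algebraMap E (FractionRing E) e = v * algebraMap E (FractionRing E) (algebraMap A E a)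
      from hev.symm, ← mul_assoc, hv, one_mul]
  exact (congrArg Subtype.val (IsFractionRing.injective E _ h1) :)

include hA' in
/-- The normalization of the henselization is generated by that of the base. -/
theorem exists_tensor_normBase {Ah : Type u} [CommRing Ah] [IsLocalRing Ah] [Algebra A Ah]
    [IsLocalHom (algebraMap A Ah)] [_root_.Hensel.IsHenselization A Ah] [Algebra Ah S]
    [IsScalarTower A Ah S] (x : FractionRing S) (hx : IsIntegral Ah x)
    {a : A} (ha : a ∈ nonZeroDivisors A) (h : Ah)
    (hah : algebraMap A (FractionRing S) a * x = algebraMap S (FractionRing S) (algebraMap Ah S h)) :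
    ∃ t : A' ⊗[A] Ah, strictMul A' (Algebra.TensorProduct.map (AlgHom.id A A')
      (IsScalarTower.toAlgHom A Ah S) t) = x := by
  classical
  haveI := GrothLib.Hensel.IsHenselization.flat (R := A) (S := Ah)
  obtain ⟨p, hp, hpx⟩ := hx
  obtain ⟨E, _, hsE, -, hE⟩ := exists_subalgebra_of_etaleStages
    (GrothLib.Hensel.IsHenselization.etaleStages (A := A) (S := Ah))
    ({h} ∪ (Finset.range (p.natDegree + 1)).image p.coeff)
  haveI : Module.Flat A S := GrothLib.Hensel.IsStrictHenselization.flat (R := A) (S := S)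
  haveI := formallyEtale hE
  haveI := essFiniteType hE
  let φ : E →ₐ[A] S := (IsScalarTower.toAlgHom A Ah S).comp E.val
  haveI := isLocalHom_algHom hE φ
  have hφinj : Function.Injective φ := injective_of_isLocalHom φ
  obtain ⟨hloc, -⟩ := fractionRing_structure (minimalPrimes.finite_of_isNoetherianRing A) hE
  let f : E →ₐ[A] FractionRing S := (IsScalarTower.toAlgHom A S (FractionRing S)).comp φ
  have hu' : ∀ y : (nonZeroDivisors A).map (algebraMap A E), IsUnit (f y) := by
    rintro ⟨_, b, hb, rfl⟩
    rw [f.commutes]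
    exact isUnit_algebraMap_fraction_strict hb
  obtain ⟨ρ, hρ⟩ : ∃ ρ : FractionRing E →ₐ[A] FractionRing S,
      ∀ e, ρ (algebraMap E (FractionRing E) e) = algebraMap S (FractionRing S) (φ e) :=
    ⟨IsLocalization.liftAlgHom (f := f) hu', fun e => IsLocalization.lift_eq _ e⟩
  have hρinj : Function.Injective ρ := (injective_iff_map_eq_zero ρ).mpr fun w hw => by
    obtain ⟨⟨e, m⟩, hem⟩ := IsLocalization.surj ((nonZeroDivisors A).map (algebraMap A E)) w
    have h1 : algebraMap S (FractionRing S) (φ e) = 0 := by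
      rw [← hρ, show algebraMap E (FractionRing E) e = w * algebraMap E (FractionRing E) m from hem.symm,
        map_mul, hw, zero_mul]
    have h2 : e = 0 := hφinj ((IsFractionRing.injective S (FractionRing S)
      (h1.trans (map_zero _).symm)).trans (map_zero _).symm)
    exact (IsLocalization.map_units (FractionRing E) m).mul_left_eq_zero.mp
      (hem.trans (by rw [h2, map_zero]))
  obtain ⟨v, hv⟩ := (isUnit_algebraMap_fractionRing hE ha).exists_right_inv
  obtain ⟨y, hy⟩ : ∃ y, ρ y = x := by
    refine ⟨algebraMap E (FractionRing E) ⟨h, hsE (by simp)⟩ * v, ?_⟩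
    have h1 : algebraMap A (FractionRing S) a * ρ v = 1 := by
      rw [← ρ.commutes, ← map_mul, hv, map_one]
    rw [map_mul, hρ]
    show algebraMap S (FractionRing S) (algebraMap Ah S h) * ρ v = x
    rw [← hah, mul_right_comm, h1, one_mul]
  have hcoeff : ∀ i, p.coeff i ∈ E := fun i => by
    by_cases hi : i < p.natDegree + 1
    · exact hsE (Finset.mem_union_right _ (Finset.mem_image_of_mem _ (Finset.mem_range.mpr hi)))
    · rw [Polynomial.coeff_eq_zero_of_natDegree_lt (by omega)]
      exact zero_mem _
  obtain ⟨q, hqp, -, hqm⟩ := Polynomial.lifts_and_degree_eq_and_monic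
    ((Polynomial.lifts_iff_coeff_lifts p).mpr fun i => ⟨⟨_, hcoeff i⟩, rfl⟩ :
      p ∈ Polynomial.lifts E.val.toRingHom) hp
  have hyint : IsIntegral E y := ⟨q, hqm, hρinj (by
    show ρ.toRingHom _ = ρ _
    rw [map_zero, Polynomial.hom_eval₂, show ρ.toRingHom.comp (algebraMap E (FractionRing E)) =
      (algebraMap Ah (FractionRing S)).comp E.val.toRingHom from RingHom.ext fun e =>
        (hρ e).trans (IsScalarTower.algebraMap_apply Ah S (FractionRing S) (e : Ah)).symm,
      ← Polynomial.eval₂_map, hqp]
    rw [← hy] at hpx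
    exact hpx)⟩
  obtain ⟨z, hz⟩ := (normMul_bijective (minimalPrimes.finite_of_isNoetherianRing A) hE).2 ⟨y, hyint⟩
  rw [← hy, show y = (normMul z : FractionRing E) from (congrArg Subtype.val hz).symm]
  clear hz
  induction z using TensorProduct.induction_on with
  | zero => exact ⟨0, by simp⟩
  | tmul c e =>
    have hc : ρ (c : FractionRing E) ∈ A' := by
      obtain ⟨hi, d, hd, b, hdb⟩ := mem_normBase_iff.mp c.2
      exact (hA' _).mpr ⟨hi.map ρ, d, hd, b, by rw [← ρ.commutes, ← map_mul, hdb, ρ.commutes]⟩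
    refine ⟨⟨_, hc⟩ ⊗ₜ (e : Ah), ?_⟩
    rw [Algebra.TensorProduct.map_tmul, Algebra.TensorProduct.productMap_apply_tmul, coe_normMul,
      map_mul, hρ]
    rfl
  | add z z' h h' =>
    obtain ⟨t, ht⟩ := h
    obtain ⟨t', ht'⟩ := h'
    exact ⟨t + t', by rw [map_add, map_add, ht, ht', map_add, Subalgebra.coe_add, map_add]⟩

include hA' in
/-- The two radicals vanish at every maximal ideal. -/
theorem mem_of_mem_sup (t : A' ⊗[A] S)
    (ht : t ∈ (Ideal.jacobson (⊥ : Ideal A')).map
        (Algebra.TensorProduct.includeLeft : A' →ₐ[A] A' ⊗[A] S) ⊔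
      (maximalIdeal S).map (Algebra.TensorProduct.includeRight : S →ₐ[A] A' ⊗[A] S))
    (M : Ideal (integralClosure S (FractionRing S))) [M.IsMaximal]
    (w : integralClosure S (FractionRing S)) (hw : (w : FractionRing S) = strictMul A' t) : w ∈ M := by
  let f : A' ⊗[A] S →+* integralClosure S (FractionRing S) :=
    { toFun := fun t => ⟨strictMul A' t, isIntegral_productMap hA' t⟩
      map_one' := Subtype.ext (map_one _)
      map_mul' := fun _ _ => Subtype.ext (map_mul _ _ _)
      map_zero' := Subtype.ext (map_zero _)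
      map_add' := fun _ _ => Subtype.ext (map_add _ _ _) }
  rw [show w = f t from Subtype.ext hw]
  suffices h : (Ideal.jacobson (⊥ : Ideal A')).map
        (Algebra.TensorProduct.includeLeft : A' →ₐ[A] A' ⊗[A] S) ⊔
      (maximalIdeal S).map (Algebra.TensorProduct.includeRight : S →ₐ[A] A' ⊗[A] S) ≤ M.comap f from h ht
  refine sup_le (Ideal.map_le_iff_le_comap.mpr fun r hr => ?_)
    (Ideal.map_le_iff_le_comap.mpr fun s hs => ?_)
  · haveI : Algebra.IsIntegral A A' := ⟨fun x => by
      obtain ⟨p, hp, hpx⟩ := ((hA' _).mp x.2).1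
      refine ⟨p, hp, Subtype.ext ?_⟩
      show A'.val.toRingHom (Polynomial.eval₂ (algebraMap A A') x p) = _
      rw [Polynomial.hom_eval₂]
      exact hpx⟩
    let g : A' →+* integralClosure S (FractionRing S) :=
      f.comp (Algebra.TensorProduct.includeLeft : A' →ₐ[A] A' ⊗[A] S).toRingHom
    haveI : (M.comap g).IsPrime := Ideal.IsPrime.comap _
    have hP : (M.comap g).IsMaximal := by
      refine Ideal.isMaximal_of_isIntegral_of_isMaximal_comap (R := A) _ ?_
      convert maximalIdeal.isMaximal A
      ext a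
      have h1 : g (algebraMap A A' a) = algebraMap S (integralClosure S (FractionRing S)) (algebraMap A S a) :=
        Subtype.ext (by
          show strictMul A' ((algebraMap A A' a) ⊗ₜ[A] (1 : S)) = _
          rw [Algebra.TensorProduct.productMap_apply_tmul, map_one, mul_one]
          exact IsScalarTower.algebraMap_apply A S (FractionRing S) a)
      show g (algebraMap A A' a) ∈ M ↔ _
      rw [h1, ← Ideal.mem_comap,
        IsLocalRing.eq_maximalIdeal (Ideal.isMaximal_comap_of_isIntegral_of_isMaximal (R := S) M)]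
      exact ⟨fun h ha => h (ha.map _), fun h ha => h (IsLocalHom.map_nonunit a ha)⟩
    exact (sInf_le ⟨bot_le, hP⟩ : Ideal.jacobson (⊥ : Ideal A') ≤ _) hr
  · show f ((1 : A') ⊗ₜ[A] s) ∈ M
    rw [show f ((1 : A') ⊗ₜ[A] s) = algebraMap S _ s from Subtype.ext (by
      show strictMul A' ((1 : A') ⊗ₜ[A] s) = _
      rw [Algebra.TensorProduct.productMap_apply_tmul, map_one, one_mul]
      rfl)]
    exact mem_of_residue_eq M hs

end GrothLib.EssEtLoc
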