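import Groth.Agent.Lib.EssEtLoc.StrictInd

/-!
# Residual conditions and ind-essentially étale henselizations
-/

universe u

open IsLocalRing TensorProduct

noncomputable section

namespace GrothLib.EssEtLoc

/-- Residual elements of two subalgebras lift to their intersection. -/
theorem exists_inter_lift {Ah S : Type u} [CommRing Ah] [HenselianLocalRing Ah] [CommRing S]
    [IsLocalRing S] [Algebra Ah S] [IsLocalHom (algebraMap Ah S)]
    [_root_.Hensel.IsStrictHenselization Ah S] (U V : Subalgebra Ah S) [Module.Finite Ah U]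
    (hV : ∀ v ∈ V, IsIntegral Ah v) (c : S) (hc : c ∈ U) (d : S) (hd : d ∈ V)
    (hcd : c - d ∈ maximalIdeal S) : ∃ w ∈ U ⊓ V, c - w ∈ maximalIdeal S := by
  obtain ⟨hUh, hUS, hAU⟩ := finite_subalgebra_henselian U
  haveI := hUh
  haveI := hUS
  haveI := hAU
  let W₁ : Subalgebra Ah S := Algebra.adjoin Ah {d}
  haveI : Module.Finite Ah W₁ := Module.Finite.iff_fg.mpr (hV d hd).fg_adjoin_singleton
  obtain ⟨B, _, _, _, φ, -, hφ, hB, -, hφW, hWB⟩ := exists_etale_lift_residue W₁
  haveI := hφ
  let χ : U ⧸ maximalIdeal U →ₐ[Ah] ResidueField S :=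
    Ideal.Quotient.liftₐ (maximalIdeal U)
      ((IsScalarTower.toAlgHom Ah S (ResidueField S)).comp U.val) fun x hx => by
        show residue S (x : S) = 0
        rw [residue_eq_zero_iff]
        exact fun hu => hx (IsLocalHom.map_nonunit (f := algebraMap U S) x hu)
  letI := Ideal.Quotient.field (maximalIdeal U)
  have hχ : Function.Injective χ := RingHom.injective χ.toRingHom
  have hres : ∀ b, residue S (φ b) ∈ χ.range := by
    intro b
    refine Algebra.adjoin_induction (p := fun w _ => residue S w ∈ χ.range) (fun w hw => ?_) (fun h => ?_)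
      (fun w w' _ _ h h' => by rw [map_add]; exact add_mem h h')
      (fun w w' _ _ h h' => by rw [map_mul]; exact mul_mem h h') (hφW b)
    · obtain rfl := Set.mem_singleton_iff.mp hw
      refine ⟨Ideal.Quotient.mk _ ⟨c, hc⟩, ?_⟩
      show residue S c = residue S w
      rw [← sub_eq_zero, ← map_sub, residue_eq_zero_iff]
      exact hcd
    · exact χ.range.algebraMap_mem h
  obtain ⟨σ, hσ⟩ : ∃ σ : B →ₐ[Ah] U ⧸ maximalIdeal U, ∀ b, χ (σ b) = residue S (φ b) :=
    ⟨(AlgEquiv.ofInjective χ hχ).symm.toAlgHom.comp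
      (((IsScalarTower.toAlgHom Ah S (ResidueField S)).comp φ).codRestrict χ.range hres), fun b =>
        congrArg Subtype.val ((AlgEquiv.ofInjective χ hχ).apply_symm_apply ⟨_, hres b⟩)⟩
  obtain ⟨τ, hτ⟩ := exists_algHom_of_residue hB σ
  have heq : φ = U.val.comp τ := algHom_ext_residue hB φ (U.val.comp τ) (RingHom.ext fun b => by
    show residue S (φ b) = residue S ((τ b : U) : S)
    rw [← hσ, ← hτ]
    rfl)
  obtain ⟨b, hb⟩ := hWB d (Algebra.subset_adjoin rfl)
  refine ⟨φ b, ⟨?_, ?_⟩, ?_⟩
  · rw [heq]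
    exact (τ b).2
  · exact (Algebra.adjoin_le (Set.singleton_subset_iff.mpr hd) : W₁ ≤ V) (hφW b)
  · rw [show c - φ b = (c - d) + (d - φ b) by ring]
    exact add_mem hcd hb

variable {A S : Type u} [CommRing A] [IsLocalRing A] [IsReduced A] [IsNoetherianRing A] [CommRing S]
  [IsLocalRing S] [Algebra A S] [IsLocalHom (algebraMap A S)]
  [hS : _root_.Hensel.IsStrictHenselization A S]
  {A' : Subalgebra A (FractionRing S)}
  (hA' : ∀ x : (FractionRing S), x ∈ A' ↔ (IsIntegral A x ∧
    ∃ a ∈ nonZeroDivisors A, ∃ b : A, algebraMap A (FractionRing S) a * x = algebraMap A (FractionRing S) b))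

include hA' in
theorem finite_normalization_base (hN : CAlg.IsNagata A) : Module.Finite A A' := by
  obtain ⟨E, _, -, -, hE⟩ := exists_subalgebra (A := A) (S := S) ∅
  obtain ⟨ρ, hρ, -, hρinj⟩ := exists_fracMap E hE
  haveI := finite_normBase hN hE
  have hmem : ∀ y : normBase A E, ρ (y : FractionRing E) ∈ A' := fun y =>
    (hA' _).mpr ((mem_range_normBase hE ρ hρinj _).mpr ⟨y, y.2, rfl⟩)
  refine Module.Finite.of_surjective
    (((ρ.comp (normBase A E).val).codRestrict A' hmem).toLinearMap) fun x => ?_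
  obtain ⟨y, hy, hyx⟩ := (mem_range_normBase hE ρ hρinj _).mp ((hA' _).mp x.2)
  exact ⟨⟨y, hy⟩, Subtype.ext hyx⟩

variable (Ah : Type u) [CommRing Ah] [HenselianLocalRing Ah] [Algebra A Ah]
  [IsLocalHom (algebraMap A Ah)] [hh : _root_.Hensel.IsHenselization A Ah] [Algebra Ah S]
  [IsScalarTower A Ah S] [IsLocalHom (algebraMap Ah S)] [hSh : _root_.Hensel.IsStrictHenselization Ah S]

include hA' hh hS hSh in
theorem finite_normBase_henselization [IsReduced Ah] [IsNoetherianRing Ah] (hN : CAlg.IsNagata A)
    (E : Subalgebra Ah S) [IsLocalRing E] (hE : EGA4loc.IsEssentiallyEtale Ah E) :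
    Module.Finite Ah (normBase Ah E) := by
  classical
  haveI := finite_normalization_base hA' hN
  obtain ⟨G, hG⟩ : (⊤ : Submodule A A').FG := Module.Finite.fg_top
  obtain ⟨ρ, hρ, hu, hρinj⟩ := exists_fracMap E hE
  let M₀ : Submodule Ah (FractionRing S) :=
    Submodule.span Ah (Subtype.val '' (G : Set A'))
  haveI : Module.Finite Ah M₀ := Module.Finite.iff_fg.mpr (Submodule.fg_span (G.finite_toSet.image _))
  haveI : IsNoetherian Ah M₀ := isNoetherian_of_isNoetherianRing_of_finite _ _
  have hmem : ∀ y : normBase Ah E, ρ (y : FractionRing E) ∈ M₀ := by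
    intro y
    obtain ⟨hi, h, hh', b, hb⟩ := mem_normBase_iff.mp y.2
    obtain ⟨z, a, ha, hza⟩ := exists_mul_eq_algebraMap_henselization (A := A) hh'
    obtain ⟨t, ht⟩ := exists_tensor_normBase hA' (ρ (y : FractionRing E)) (hi.map ρ) ha (z * b) (by
      rw [IsScalarTower.algebraMap_apply A Ah (FractionRing S), ← hza, map_mul, map_mul (algebraMap Ah S),
        map_mul, ← IsScalarTower.algebraMap_apply, ← IsScalarTower.algebraMap_apply]
      rw [mul_comm (algebraMap Ah (FractionRing S) h), mul_assoc, ← ρ.commutes h, ← map_mul, hb, ρ.commutes])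
    rw [← ht]
    clear ht
    induction t using TensorProduct.induction_on with
    | zero => rw [map_zero, map_zero]; exact zero_mem _
    | tmul c e =>
      rw [Algebra.TensorProduct.map_tmul, Algebra.TensorProduct.productMap_apply_tmul]
      have hc : (c : FractionRing S) ∈ M₀ := by
        refine Submodule.span_induction (p := fun w _ => ((w : A') : FractionRing S) ∈ M₀)
          (fun w hw => Submodule.subset_span ⟨w, hw, rfl⟩) (zero_mem _)
          (fun w w' _ _ h h' => add_mem h h') (fun a w _ h => ?_) (hG ▸ Submodule.mem_top : c ∈ Submodule.span A (G : Set A'))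
        rw [show ((a • w : A') : FractionRing S) = algebraMap A Ah a • (w : FractionRing S) from by
          rw [algebraMap_smul]; rfl]
        exact Submodule.smul_mem _ _ h
      show (c : FractionRing S) * algebraMap S (FractionRing S) (algebraMap Ah S e) ∈ M₀
      rw [← IsScalarTower.algebraMap_apply, mul_comm, ← Algebra.smul_def]
      exact Submodule.smul_mem _ _ hc
    | add t t' h h' => rw [map_add, map_add]; exact add_mem h h'
  exact Module.Finite.of_injective
    ((ρ.toLinearMap ∘ₗ (normBase Ah E).val.toLinearMap).codRestrict M₀ hmem)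
    fun x y h => Subtype.ext (hρinj (congrArg Subtype.val h :))

omit [IsLocalHom (algebraMap Ah S)] hSh hh [IsLocalHom (algebraMap A Ah)] in
theorem isIntegral_strictNorm_of_stage (hint : ∀ s : S, IsIntegral Ah s) {R : Type u} [CommRing R]
    [Algebra Ah R] (j : R →+* integralClosure S (FractionRing S))
    (hj : j.comp (algebraMap Ah R) = (algebraMap S (integralClosure S (FractionRing S))).comp (algebraMap Ah S)) :
    j.IsIntegral := by
  intro w
  haveI : Algebra.IsIntegral Ah S := ⟨hint⟩
  obtain ⟨q, hq, hqw⟩ := (isIntegral_trans (A := S) w (Algebra.IsIntegral.isIntegral w) : IsIntegral Ah w)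
  refine ⟨q.map (algebraMap Ah R), hq.map _, ?_⟩
  rw [Polynomial.eval₂_map, hj]
  exact hqw

set_option maxHeartbeats 1600000 in
-- tensor products of subalgebras of total fraction rings
include hA' hh hS hSh in
/-- An element of the normalization over the henselization of the base has residues generated by the
base normalization and a finite stage. -/
theorem exists_congr_stage (hN : CAlg.IsNagata A)
    (hint : ∀ s : S, IsIntegral Ah s) [IsReduced Ah] [IsNoetherianRing Ah]
    (Ec : Subalgebra Ah S) [IsLocalRing Ec] [Module.Finite Ah Ec]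
    (hE : EGA4loc.IsEssentiallyEtale Ah Ec) (W : Subalgebra Ah S) (hWE : W ≤ Ec)
    (P : Subalgebra A S) (hP : ∀ (x : FractionRing S) (p : Polynomial S), p.Monic →
      (∀ i, p.coeff i ∈ W) → p.eval₂ (algebraMap S (FractionRing S)) x = 0 →
      ∀ a ∈ nonZeroDivisors A, ∀ w ∈ W,
        algebraMap A (FractionRing S) a * x = algebraMap S (FractionRing S) w →
        ∃ t : A' ⊗[A] P, StrictCongr A' x (Algebra.TensorProduct.map (AlgHom.id A A') P.val t))
    (hres : ∀ c ∈ Ec, ∀ d ∈ P, c - d ∈ maximalIdeal S → ∃ w ∈ W, c - w ∈ maximalIdeal S)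
    (ρ : FractionRing Ec →ₐ[Ah] FractionRing S) (hρinj : Function.Injective ρ)
    (hρ : ∀ e : Ec, ρ (algebraMap Ec (FractionRing Ec) e) = algebraMap S (FractionRing S) (e : S))
    (x : normSub (W.comap Ec.val)) :
    ∃ t : A' ⊗[A] (W.restrictScalars A), StrictCongr A' (ρ (x : FractionRing Ec))
      (Algebra.TensorProduct.map (AlgHom.id A A') (W.restrictScalars A).val t) := by
  classical
  obtain ⟨hxi, h, hh', w, hw, hxw⟩ := mem_normSub_iff.mp x.2
  obtain ⟨y, a, ha, hya⟩ := exists_mul_eq_algebraMap_henselization (A := A) hh'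
  obtain ⟨p, hp, hpx⟩ := hxi
  obtain ⟨t₂, ht₂⟩ := hP (ρ (x : FractionRing Ec))
    (p.map (Ec.val.toRingHom.comp (W.comap Ec.val).val.toRingHom)) (hp.map _)
    (fun i => by rw [Polynomial.coeff_map]; exact (p.coeff i).2)
    (by
      rw [Polynomial.eval₂_map, show (algebraMap S (FractionRing S)).comp
        (Ec.val.toRingHom.comp (W.comap Ec.val).val.toRingHom) =
          ρ.toRingHom.comp (algebraMap (W.comap Ec.val) (FractionRing Ec)) from
        RingHom.ext fun d => (hρ (d : Ec)).symm]
      show Polynomial.eval₂ _ (ρ.toRingHom _) p = 0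
      rw [← Polynomial.hom_eval₂, hpx, map_zero])
    a ha (algebraMap Ah S y * (w : S)) (mul_mem (W.algebraMap_mem y) hw) (by
      rw [map_mul, ← IsScalarTower.algebraMap_apply, IsScalarTower.algebraMap_apply A Ah (FractionRing S),
        ← hya, map_mul, mul_comm (algebraMap Ah (FractionRing S) h), mul_assoc, ← ρ.commutes h, ← map_mul,
        hxw, hρ])
  -- generated by the stage
  obtain ⟨t₁, ht₁⟩ : ∃ t₁ : A' ⊗[A] (Ec.restrictScalars A),
      strictMul A' (Algebra.TensorProduct.map (AlgHom.id A A') (Ec.restrictScalars A).val t₁) =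
        ρ (x : FractionRing Ec) := by
    obtain ⟨z, hz⟩ := (normMul_bijective (minimalPrimes.finite_of_isNoetherianRing Ah) hE).2
      ⟨(x : FractionRing Ec), isIntegral_of_mem_normSub x.2⟩
    rw [show (x : FractionRing Ec) = (normMul z : FractionRing Ec) from (congrArg Subtype.val hz).symm]
    clear hz
    induction z using TensorProduct.induction_on with
    | zero => exact ⟨0, by simp⟩
    | tmul b c =>
      obtain ⟨hbi, h, hh', b₀, hb⟩ := mem_normBase_iff.mp b.2
      obtain ⟨z₀, a₀, ha₀, hza⟩ := exists_mul_eq_algebraMap_henselization (A := A) hh'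
      obtain ⟨t, ht⟩ := exists_tensor_normBase hA' (ρ (b : FractionRing Ec)) (hbi.map ρ) ha₀ (z₀ * b₀) (by
        rw [IsScalarTower.algebraMap_apply A Ah (FractionRing S), ← hza, map_mul, map_mul (algebraMap Ah S),
          map_mul, ← IsScalarTower.algebraMap_apply, ← IsScalarTower.algebraMap_apply]
        rw [mul_comm (algebraMap Ah (FractionRing S) h), mul_assoc, ← ρ.commutes h, ← map_mul, hb, ρ.commutes])
      refine ⟨Algebra.TensorProduct.map (AlgHom.id A A')
        ((IsScalarTower.toAlgHom A Ah S).codRestrict (Ec.restrictScalars A) fun r => Ec.algebraMap_mem r) t *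
          (1 ⊗ₜ (⟨(c : S), c.2⟩ : Ec.restrictScalars A)), ?_⟩
      rw [map_mul, map_mul, Algebra.TensorProduct.map_tmul, Algebra.TensorProduct.productMap_apply_tmul,
        map_one, map_one, one_mul, coe_normMul, map_mul, hρ, ← ht]
      congr 1
      refine congrArg (strictMul A') ?_
      rw [← AlgHom.comp_apply, ← Algebra.TensorProduct.map_comp]
      rfl
    | add z z' h h' =>
      obtain ⟨t, ht⟩ := h
      obtain ⟨t', ht'⟩ := h'
      exact ⟨t + t', by rw [map_add, map_add, ht, ht', map_add, Subalgebra.coe_add, map_add]⟩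
  obtain ⟨t₃, ht₃⟩ := exists_congr_of_residue_inter (Ec.restrictScalars A) P (W.restrictScalars A)
    hres (Ideal.jacobson (⊥ : Ideal A')) t₁ t₂ (mem_map_of_forall_maximal hA' hN _
      (⟨_, isIntegral_productMap hA' _⟩ : integralClosure S (FractionRing S)) rfl fun M hM => by
      refine ht₂ M hM _ ?_
      show strictMul A' _ = _
      rw [map_sub, ht₁])
  refine ⟨t₃, fun M hM w hw => ?_⟩
  haveI := hM
  exact mem_of_mem_sup hA' _ ht₃ M w (by rw [map_sub, ht₁]; exact hw)

set_option maxHeartbeats 1600000 in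
-- tensor products of subalgebras of total fraction rings
include hA' hh hS hSh in
/-- A finite stage satisfying the residual hypotheses is essentially étale over the henselization. -/
theorem isEssentiallyEtale_stage (hN : CAlg.IsNagata A)
    (hint : ∀ s : S, IsIntegral Ah s) [IsReduced Ah] [IsNoetherianRing Ah]
    (Ec : Subalgebra Ah S) [IsLocalRing Ec] [Module.Finite Ah Ec]
    (hE : EGA4loc.IsEssentiallyEtale Ah Ec) (W : Subalgebra Ah S) [IsLocalRing W] [Module.Finite Ah W]
    [IsLocalHom (algebraMap W S)] (hWE : W ≤ Ec)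
    (P : Subalgebra A S) (hP : ∀ (x : FractionRing S) (p : Polynomial S), p.Monic →
      (∀ i, p.coeff i ∈ W) → p.eval₂ (algebraMap S (FractionRing S)) x = 0 →
      ∀ a ∈ nonZeroDivisors A, ∀ w ∈ W,
        algebraMap A (FractionRing S) a * x = algebraMap S (FractionRing S) w →
        ∃ t : A' ⊗[A] P, StrictCongr A' x (Algebra.TensorProduct.map (AlgHom.id A A') P.val t))
    (hres : ∀ c ∈ Ec, ∀ d ∈ P, c - d ∈ maximalIdeal S → ∃ w ∈ W, c - w ∈ maximalIdeal S) :
    EGA4loc.IsEssentiallyEtale Ah W := by
  classical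
  haveI := finite_normBase_henselization hA' Ah hN Ec hE
  obtain ⟨ρ, hρ, hu, hρinj⟩ := exists_fracMap Ec hE
  haveI := isReduced_of_isEssentiallyEtale hE
  let WE : Subalgebra Ah Ec := W.comap Ec.val
  let eW : WE ≃ₐ[Ah] W :=
    { toFun := fun d => ⟨((d : Ec) : S), d.2⟩
      invFun := fun d => ⟨⟨d, hWE d.2⟩, d.2⟩
      left_inv := fun _ => rfl
      right_inv := fun _ => rfl
      map_mul' := fun _ _ => rfl
      map_add' := fun _ _ => rfl
      commutes' := fun _ => rfl }
  haveI : IsLocalRing WE := eW.symm.toRingEquiv.isLocalRing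
  haveI : IsLocalHom (algebraMap WE Ec) := ⟨fun d hd => by
    have h1 : IsUnit ((eW d : W) : S) := hd.map (algebraMap Ec S)
    have h2 : IsUnit (eW d) := IsLocalHom.map_nonunit (f := algebraMap W S) (eW d) h1
    simpa using h2.map eW.symm⟩
  haveI : Module.Finite Ah WE := Module.Finite.equiv eW.symm.toLinearEquiv
  haveI := finite_integralClosure_of_normBase (minimalPrimes.finite_of_isNoetherianRing Ah) hE
  haveI : Module.Finite Ah (integralClosure Ec (FractionRing Ec)) := Module.Finite.trans Ec _
  haveI : IsNoetherian Ah (integralClosure Ec (FractionRing Ec)) :=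
    isNoetherian_of_isNoetherianRing_of_finite _ _
  haveI : Module.Finite Ah (normSub WE) := Module.Finite.of_injective (normSubIncl WE).toLinearMap
    fun x y h => Subtype.ext (congrArg Subtype.val h :)
  -- maximal ideals lift
  have hjint : ∀ y : normSub WE, IsIntegral S (ρ (y : FractionRing Ec)) := fun y => by
    obtain ⟨p, hp, hpy⟩ := isIntegral_of_mem_normSub y.2
    refine ⟨p.map Ec.val.toRingHom, hp.map _, ?_⟩
    rw [Polynomial.eval₂_map, ← show ρ.toRingHom.comp (algebraMap Ec (FractionRing Ec)) =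
      (algebraMap S (FractionRing S)).comp Ec.val.toRingHom from RingHom.ext hρ]
    show Polynomial.eval₂ _ (ρ.toRingHom _) p = 0
    rw [← Polynomial.hom_eval₂, hpy, map_zero]
  let j : normSub WE →+* integralClosure S (FractionRing S) :=
    { toFun := fun y => ⟨ρ (y : FractionRing Ec), hjint y⟩
      map_one' := Subtype.ext (map_one ρ)
      map_mul' := fun _ _ => Subtype.ext (map_mul ρ _ _)
      map_zero' := Subtype.ext (map_zero ρ)
      map_add' := fun _ _ => Subtype.ext (map_add ρ _ _) }
  have hjinj : Function.Injective j := fun x y h => Subtype.ext (hρinj (congrArg Subtype.val h :))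
  have hjalg : j.IsIntegral := isIntegral_strictNorm_of_stage Ah hint j (RingHom.ext fun a => Subtype.ext (by
    show ρ (algebraMap Ah (FractionRing Ec) a) = algebraMap S (FractionRing S) (algebraMap Ah S a)
    rw [ρ.commutes, IsScalarTower.algebraMap_apply Ah S (FractionRing S)]))
  have hgen : ∀ x : normSub WE, ∃ z ∈ Algebra.adjoin Ah
      ({y : normSub WE | (y : FractionRing Ec) ∈ normBase Ah Ec} ∪ Set.range (toNormSub WE)),
      x - z ∈ Ideal.jacobson (⊥ : Ideal (normSub WE)) := by
    intro x
    obtain ⟨t, ht⟩ := exists_congr_stage hA' Ah hN hint Ec hE W hWE P hP hres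
      ρ hρinj hρ x
    obtain ⟨z, hz, hzt⟩ : ∃ z ∈ Algebra.adjoin Ah
        ({y : normSub WE | (y : FractionRing Ec) ∈ normBase Ah Ec} ∪ Set.range (toNormSub WE)),
        ρ (z : FractionRing Ec) =
          strictMul A' (Algebra.TensorProduct.map (AlgHom.id A A') (W.restrictScalars A).val t) := by
      clear ht
      induction t using TensorProduct.induction_on with
      | zero => exact ⟨0, zero_mem _, by simp⟩
      | tmul c w =>
        obtain ⟨hci, a, ha, b, hab⟩ := (hA' _).mp c.2
        obtain ⟨v, hv⟩ := (isUnit_algebraMap_fraction_strict (A := A) (S := S) ha).exists_right_inv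
        have haE : algebraMap A Ah a ∈ nonZeroDivisors Ah := by
          rw [mem_nonZeroDivisors_iff_right]
          intro r hr
          haveI := GrothLib.Hensel.IsHenselization.flat (R := A) (S := Ah)
          have hreg : IsSMulRegular A a := fun p q hpq => by
            simp only [smul_eq_mul] at hpq
            exact (mul_cancel_left_mem_nonZeroDivisors ha).mp hpq
          exact (hreg.of_flat (S := Ah))
            (show algebraMap A Ah a * r = algebraMap A Ah a * 0 by rw [mul_zero, mul_comm]; exact hr)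
        obtain ⟨y, hy, hyc⟩ := (mem_range_normBase (A := Ah) hE ρ hρinj (c : FractionRing S)).mp
          ⟨hci.tower_top, algebraMap A Ah a, haE, algebraMap A Ah b, by
            rw [← IsScalarTower.algebraMap_apply, ← IsScalarTower.algebraMap_apply, hab]⟩
        refine ⟨(⟨y, normBase_le_normSub WE hy⟩ : normSub WE) * toNormSub WE ⟨⟨(w : S), hWE w.2⟩, w.2⟩,
          mul_mem (Algebra.subset_adjoin (Or.inl hy)) (Algebra.subset_adjoin (Or.inr ⟨_, rfl⟩)), ?_⟩
        rw [Algebra.TensorProduct.map_tmul, Algebra.TensorProduct.productMap_apply_tmul, Subalgebra.coe_mul,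
          map_mul, hyc]
        exact congrArg (fun r => (c : FractionRing S) * r) (hρ ⟨(w : S), hWE w.2⟩)
      | add t t' h h' =>
        obtain ⟨z, hz, hzt⟩ := h
        obtain ⟨z', hz', hzt'⟩ := h'
        exact ⟨z + z', add_mem hz hz', by rw [Subalgebra.coe_add, map_add, hzt, hzt', map_add, map_add]⟩
    refine ⟨z, hz, Submodule.mem_sInf.mpr ?_⟩
    rintro (N : Ideal (normSub WE)) ⟨-, hN'⟩
    haveI := hN'
    letI : Algebra (normSub WE) (integralClosure S (FractionRing S)) := j.toAlgebra
    haveI : Algebra.IsIntegral (normSub WE) (integralClosure S (FractionRing S)) := ⟨hjalg⟩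
    obtain ⟨M, hM, hMN⟩ := Ideal.exists_ideal_over_maximal_of_isIntegral
      (S := integralClosure S (FractionRing S)) N (by
        rw [show RingHom.ker (algebraMap (normSub WE) (integralClosure S (FractionRing S))) = ⊥ from
          (RingHom.injective_iff_ker_eq_bot _).mp hjinj]
        exact bot_le)
    rw [← hMN]
    refine ht M hM _ ?_
    show ρ ((x - z : normSub WE) : FractionRing Ec) = _
    rw [Subalgebra.coe_sub, map_sub, hzt]
  -- the criterion
  obtain ⟨G, hG⟩ : (⊤ : Submodule Ah (normSub WE)).FG := Module.Finite.fg_top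
  have hsgen : ∀ y : normSub WE,
      (y : FractionRing Ec) ∈ Algebra.adjoin WE (((G : Set (normSub WE))).image Subtype.val) := by
    intro y
    refine Submodule.span_induction (p := fun w _ => ((w : normSub WE) : FractionRing Ec) ∈
      Algebra.adjoin WE (((G : Set (normSub WE))).image Subtype.val))
      (fun w hw => Algebra.subset_adjoin ⟨w, hw, rfl⟩) (zero_mem _) (fun w w' _ _ h h' => add_mem h h')
      (fun a w _ h => ?_) (hG ▸ Submodule.mem_top : y ∈ Submodule.span Ah (G : Set (normSub WE)))
    rw [show ((a • w : normSub WE) : FractionRing Ec) =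
      algebraMap WE (FractionRing Ec) (algebraMap Ah WE a) * (w : FractionRing Ec) from Algebra.smul_def a _]
    exact mul_mem (Subalgebra.algebraMap_mem _ _) h
  have hRad : Ideal.jacobson (⊥ : Ideal (normSub WE)) ≤
      (Ideal.jacobson (⊥ : Ideal (normBase Ah Ec))).map (Subalgebra.inclusion (normBase_le_normSub WE)) := by
    intro z hz
    refine mem_map_of_normSubIncl_mem hE WE hgen _ z (mem_map_jacobson_normBase hE _ fun M hM => ?_)
    haveI := hM
    exact (sInf_le ⟨bot_le, isMaximal_comap_normSubIncl hE WE M⟩ :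
      Ideal.jacobson (⊥ : Ideal (normSub WE)) ≤ M.comap (normSubIncl WE)) hz
  obtain ⟨n, htop⟩ : ∃ n : ℕ, ∀ d : WE, (d : Ec) ∈ (maximalIdeal Ah ^ n).map (algebraMap Ah Ec) →
      d ∈ (maximalIdeal Ah).map (algebraMap Ah WE) := by
    obtain ⟨k, hk⟩ := Ideal.exists_pow_inf_eq_pow_smul (maximalIdeal Ah) (Subalgebra.toSubmodule WE)
    refine ⟨k + 1, fun d hd => ?_⟩
    have h1 : (d : Ec) ∈ maximalIdeal Ah ^ (k + 1) • (⊤ : Submodule Ah Ec) ⊓ Subalgebra.toSubmodule WE := by
      refine ⟨?_, d.2⟩
      rw [SetLike.mem_coe, Ideal.smul_top_eq_map]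
      exact hd
    rw [hk (k + 1) (Nat.le_succ k), Nat.add_sub_cancel_left, pow_one] at h1
    have h2 : (d : Ec) ∈ maximalIdeal Ah • Subalgebra.toSubmodule WE :=
      Submodule.smul_mono le_rfl inf_le_right h1
    rw [show Subalgebra.toSubmodule WE = Submodule.map WE.val.toLinearMap ⊤ from by
      ext r; simp, ← Submodule.map_smul''] at h2
    obtain ⟨d', hd', hdd⟩ := h2
    rw [show d = d' from Subtype.ext hdd.symm]
    have h3 : d' ∈ maximalIdeal Ah • (⊤ : Submodule Ah WE) := hd'
    rw [Ideal.smul_top_eq_map] at h3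
    exact h3
  have hmax := map_maximalIdeal_of_residual Ec hE WE G hsgen hRad hgen htop
  haveI : IsLocalHom (algebraMap Ah W) := ⟨fun a ha => by
    have h := ha.map (algebraMap W S)
    rw [← IsScalarTower.algebraMap_apply] at h
    exact IsLocalHom.map_nonunit a h⟩
  refine isEssentiallyEtale_of_map_maximalIdeal W (le_antisymm
    (Ideal.map_le_iff_le_comap.mpr fun a ha hu => ha (IsLocalHom.map_nonunit a hu)) fun d hd => ?_)
  have h1 : eW.symm d ∈ maximalIdeal WE := fun hu => hd (by simpa using hu.map eW)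
  rw [← hmax] at h1
  have h2 := Ideal.mem_map_of_mem eW.toAlgHom.toRingHom h1
  rw [Ideal.map_map, show eW.toAlgHom.toRingHom.comp (algebraMap Ah WE) = algebraMap Ah W from
    eW.toAlgHom.comp_algebraMap] at h2
  simpa using h2

variable (D : Subalgebra A S) [IsLocalRing D] [IsLocalHom (algebraMap D S)]
  (Dh : Type u) [CommRing Dh] [IsLocalRing Dh] [Algebra D Dh] [IsLocalHom (algebraMap D Dh)]
  [hDh : _root_.Hensel.IsHenselization D Dh] [Algebra Dh S] [IsScalarTower D Dh S]
  {D' : Subalgebra A (FractionRing S)} (hle : A' ≤ D') (ι : D →ₐ[A] D')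
  (hD' : ∀ x : (FractionRing S), x ∈ D' ↔ (IsIntegral D x ∧
    ∃ a ∈ nonZeroDivisors A, ∃ d ∈ D, algebraMap A (FractionRing S) a * x = algebraMap S (FractionRing S) d))
  (hι : ∀ d : D, (ι d : (FractionRing S)) = algebraMap S (FractionRing S) d)

omit hh hSh [IsLocalHom (algebraMap A Ah)] [IsLocalHom (algebraMap Ah S)] in
include hA' hD' hι hDh hS in
/-- The residual conditions give ind-essentially étale henselizations. -/
theorem indEssentiallyEtale_of_conditions (hN : CAlg.IsNagata A)
    (hfin : {N : Ideal D' | N.IsMaximal}.Finite)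
    (hsurj : Function.Surjective ((Ideal.Quotient.mkₐ A (Ideal.jacobson (⊥ : Ideal D'))).comp
      (Algebra.TensorProduct.productMap (Subalgebra.inclusion hle) ι))) :
    Function.Injective (algebraMap Dh S) ∧
      ∀ s : Finset S, (s : Set S) ⊆ Set.range (algebraMap Dh S) →
        ∃ E : Subalgebra A S, (s : Set S) ⊆ (E : Set S) ∧ (E : Set S) ⊆ Set.range (algebraMap Dh S) ∧
          ∃ _ : IsLocalRing E, EGA4loc.IsEssentiallyEtale A E := by
  classical
  have hinj := injective_of_lying_over D Dh ι hD' hι hfin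
    (fun N _ => exists_maximal_over D hle ι hA' hD' hι hsurj N)
  refine ⟨hinj, fun s hs => ?_⟩
  let Hh := GrothLib.Hensel.Hens A
  haveI : HenselianLocalRing Hh := (GrothLib.Hensel.Hens.isHenselization A).henselian
  haveI := hS.henselian
  obtain ⟨gh, hgh, -⟩ := (GrothLib.Hensel.Hens.isHenselization A).universal S (algebraMap A S) ‹_›
  letI : Algebra Hh S := gh.toAlgebra
  haveI : IsScalarTower A Hh S := IsScalarTower.of_algebraMap_eq' hgh.symm
  obtain ⟨hlocS, hSh⟩ := isStrictHenselization_of_henselization (A := A) (Ah := Hh) (Ash := S)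
  haveI := hlocS
  haveI := hSh
  haveI : IsNoetherianRing Hh :=
    (GrothLib.Hensel.IsHenselization.isNoetherianRing_iff (R := A) (S := Hh)).mp inferInstance
  haveI : IsReduced Hh := (GrothLib.Hensel.IsHenselization.isReduced_iff (R := A) (S := Hh)).mp inferInstance
  have hint : ∀ x : S, IsIntegral Hh x := by
    intro x
    obtain ⟨C, _, _, _, φC, hCfin, -, -, -, -, -, -, hsub, -⟩ := exists_galois_cover Hh S {x}
    obtain ⟨c, hc⟩ := hsub (Finset.mem_coe.mpr (Finset.mem_singleton_self x))
    haveI := hCfin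
    exact hc ▸ (Algebra.IsIntegral.isIntegral c).map φC
  obtain ⟨u, hu⟩ := exists_comp_henselization D Dh
  let Rθ : Subalgebra Hh S :=
    { (algebraMap Dh S).range.toSubsemiring with
      algebraMap_mem' := fun a => ⟨u a, by rw [← RingHom.comp_apply, hu]⟩ }
  obtain ⟨C, _, _, _, φC, hCfin, hCet, -, -, hφC, -, hmC, hsub, -⟩ := exists_galois_cover Hh S s
  haveI := hCfin
  haveI := hCet
  haveI := hφC
  obtain ⟨hloc, hlocEc, hEC⟩ := range_of_finite_etale' φC hmC
  haveI := hloc
  haveI : Module.Flat Hh S := GrothLib.Hensel.IsStrictHenselization.flat (R := Hh) (S := S)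
  haveI := formallyEtale hEC
  haveI := essFiniteType hEC
  have hEc := of_algEquiv hEC (AlgEquiv.ofInjective φC (injective_of_isLocalHom φC))
  haveI : Module.Finite Hh φC.range := Module.Finite.of_surjective φC.rangeRestrict.toLinearMap
    φC.rangeRestrict_surjective
  haveI : IsNoetherian Hh φC.range := isNoetherian_of_isNoetherianRing_of_finite _ _
  haveI : Module.Finite Hh (φC.range ⊓ Rθ : Subalgebra Hh S) := Module.Finite.of_injective
    (Subalgebra.inclusion (inf_le_left : φC.range ⊓ Rθ ≤ φC.range)).toLinearMap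
    (Subalgebra.inclusion_injective inf_le_left)
  obtain ⟨hWh, hWS, hAW⟩ := finite_subalgebra_henselian (φC.range ⊓ Rθ)
  haveI := hWh
  haveI := hWS
  haveI := hAW
  have hres : ∀ c ∈ φC.range, ∀ d ∈ D, c - d ∈ maximalIdeal S →
      ∃ w ∈ φC.range ⊓ Rθ, c - w ∈ maximalIdeal S := fun c hc d hd hcd =>
    exists_inter_lift φC.range Rθ (fun v _ => hint v) c hc d
      ⟨algebraMap D Dh ⟨d, hd⟩, (IsScalarTower.algebraMap_apply D Dh S ⟨d, hd⟩).symm⟩ hcd
  have hW := isEssentiallyEtale_stage hA' Hh hN hint φC.range hEc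
    (φC.range ⊓ Rθ) inf_le_left D (fun x p hp hcoeff hpx a ha w hw haw => by
      obtain ⟨q, hqp, -, hqm⟩ := Polynomial.lifts_and_degree_eq_and_monic
        ((Polynomial.lifts_iff_coeff_lifts p).mpr fun i => (hcoeff i).2 :
          p ∈ Polynomial.lifts (algebraMap Dh S)) hp
      obtain ⟨z, hz⟩ := hw.2
      exact exists_congr_of_mem_adjoin hA' D Dh hle ι hD' hι hsurj x
        (mem_adjoin_of_range D Dh hD' hinj x q hqm (by rw [← Polynomial.eval₂_map, hqp]; exact hpx)
          ha z (by rw [hz]; exact haw))) hres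
  haveI := flat hW
  haveI : Module.Free Hh (φC.range ⊓ Rθ : Subalgebra Hh S) := Module.free_of_flat_of_isLocalRing
  obtain ⟨E, hsE, hEW, hEloc, hE⟩ := exists_essentiallyEtale_le (A := A) (φC.range ⊓ Rθ)
    (map_maximalIdeal hW) s (fun x hx => ⟨hsub hx, hs hx⟩)
  exact ⟨E, hsE, hEW.trans fun w hw => hw.2, hEloc, hE⟩

end GrothLib.EssEtLoc
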