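import Groth.Agent.Lib.EssEtLoc.StrictDominated

/-!
# Injectivity of the henselization of a dominated subring and lying over
-/

universe u

open IsLocalRing TensorProduct

noncomputable section

namespace GrothLib.EssEtLoc

/-- Primes lift along a faithfully flat base change. -/
theorem exists_prime_over_includeRight {D Dh R : Type u} [CommRing D] [CommRing Dh] [CommRing R]
    [Algebra D Dh] [Algebra D R] [Module.FaithfullyFlat D Dh] (p : Ideal R) [p.IsPrime] :
    ∃ P : Ideal (Dh ⊗[D] R), P.IsPrime ∧
      P.comap (Algebra.TensorProduct.includeRight : R →ₐ[D] Dh ⊗[D] R).toRingHom = p := by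
  obtain ⟨P, hP⟩ := PrimeSpectrum.comap_surjective_of_faithfullyFlat (A := R) (B := R ⊗[D] Dh) ⟨p, ‹_›⟩
  refine ⟨P.asIdeal.comap (Algebra.TensorProduct.comm D Dh R).toAlgHom.toRingHom,
    P.isPrime.comap _, ?_⟩
  rw [Ideal.comap_comap]
  exact congrArg PrimeSpectrum.asIdeal hP

variable {A S : Type u} [CommRing A] [IsLocalRing A] [IsReduced A] [IsNoetherianRing A] [CommRing S]
  [IsLocalRing S] [Algebra A S] [IsLocalHom (algebraMap A S)]
  [hS : _root_.Hensel.IsStrictHenselization A S]

/-- The total fraction ring of a subalgebra maps to that of the strict henselization. -/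
def fracToStrict (D : Subalgebra A S) : FractionRing D →ₐ[D] FractionRing S :=
  IsLocalization.liftAlgHom (M := nonZeroDivisors D) (f := Algebra.ofId D (FractionRing S))
    fun y => isUnit_algebraMap_subalgebra D y.2

theorem fracToStrict_injective (D : Subalgebra A S) : Function.Injective (fracToStrict D) := by
  refine (injective_iff_map_eq_zero _).mpr fun x hx => ?_
  obtain ⟨⟨e, m⟩, hem⟩ := IsLocalization.surj (nonZeroDivisors D) x
  have h1 : algebraMap D (FractionRing S) e = 0 := by
    rw [← (fracToStrict D).commutes, show algebraMap D (FractionRing D) e =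
      x * algebraMap D (FractionRing D) m from hem.symm, map_mul, hx, zero_mul]
  have h2 : e = 0 := Subtype.ext (IsFractionRing.injective S (FractionRing S)
    ((show algebraMap S (FractionRing S) (e : S) = algebraMap D (FractionRing S) e from rfl).trans
      (h1.trans (map_zero _).symm)))
  exact (IsLocalization.map_units (FractionRing D) m).mul_left_eq_zero.mp
    (hem.trans (by rw [h2, map_zero]))

variable (D : Subalgebra A S) [IsLocalRing D] [IsLocalHom (algebraMap D S)]
  (Dh : Type u) [CommRing Dh] [IsLocalRing Dh] [Algebra D Dh] [IsLocalHom (algebraMap D Dh)]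
  [hDh : _root_.Hensel.IsHenselization D Dh] [Algebra Dh S] [IsScalarTower D Dh S]

/-- The comparison map of the henselization with the total fraction ring. -/
def henselToStrict : Dh ⊗[D] FractionRing D →ₐ[D] FractionRing S :=
  Algebra.TensorProduct.lift
    ((IsScalarTower.toAlgHom D S (FractionRing S)).comp (IsScalarTower.toAlgHom D Dh S))
    (fracToStrict D) fun _ _ => Commute.all _ _

omit [IsLocalHom (algebraMap D Dh)] hDh [IsLocalRing Dh] in
theorem henselToStrict_tmul (z : Dh) (x : FractionRing D) :
    henselToStrict D Dh (z ⊗ₜ[D] x) =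
      algebraMap S (FractionRing S) (algebraMap Dh S z) * fracToStrict D x :=
  Algebra.TensorProduct.lift_tmul _ _ _ _ _

/-- The comparison map on normalizations. -/
def henselNormToStrict : Dh ⊗[D] integralClosure D (FractionRing D) →ₐ[D] FractionRing S :=
  (henselToStrict D Dh).comp
    (Algebra.TensorProduct.map (AlgHom.id D Dh) (integralClosure D (FractionRing D)).val)

omit [IsLocalHom (algebraMap D Dh)] hDh [IsLocalRing Dh] in
theorem isIntegral_henselNormToStrict (t : Dh ⊗[D] integralClosure D (FractionRing D)) :
    IsIntegral S (henselNormToStrict D Dh t) := by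
  induction t using TensorProduct.induction_on with
  | zero => rw [map_zero]; exact isIntegral_zero
  | tmul z r =>
    rw [henselNormToStrict, AlgHom.comp_apply, Algebra.TensorProduct.map_tmul, henselToStrict_tmul]
    exact isIntegral_algebraMap.mul ((IsIntegral.map (fracToStrict D) r.2).tower_top)
  | add t t' h h' => rw [map_add]; exact h.add h'

/-- The comparison map into the normalization of the strict henselization. -/
def henselNormMap : Dh ⊗[D] integralClosure D (FractionRing D) →+* integralClosure S (FractionRing S) where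
  toFun t := ⟨henselNormToStrict D Dh t, isIntegral_henselNormToStrict D Dh t⟩
  map_one' := Subtype.ext (map_one _)
  map_mul' _ _ := Subtype.ext (map_mul _ _ _)
  map_zero' := Subtype.ext (map_zero _)
  map_add' _ _ := Subtype.ext (map_add _ _ _)

omit [IsLocalHom (algebraMap D Dh)] hDh [IsLocalRing Dh] in
theorem coe_henselNormMap_right (r : integralClosure D (FractionRing D)) :
    (henselNormMap D Dh (1 ⊗ₜ[D] r) : FractionRing S) = fracToStrict D (r : FractionRing D) := by
  show henselNormToStrict D Dh (1 ⊗ₜ[D] r) = _
  rw [henselNormToStrict, AlgHom.comp_apply, Algebra.TensorProduct.map_tmul, henselToStrict_tmul,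
    AlgHom.id_apply, map_one, map_one, one_mul]
  rfl

include hDh in
theorem isMaximal_comap_henselNormMap (M : Ideal (integralClosure S (FractionRing S))) [M.IsMaximal] :
    (M.comap (henselNormMap D Dh)).IsMaximal := by
  haveI := isLocalHom_henselization D Dh
  haveI : (M.comap (henselNormMap D Dh)).IsPrime := Ideal.IsPrime.comap _
  haveI : Algebra.IsIntegral D (integralClosure D (FractionRing D)) := inferInstance
  refine Ideal.isMaximal_of_isIntegral_of_isMaximal_comap (R := Dh) _ ?_
  convert maximalIdeal.isMaximal Dh
  ext z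
  have hm := IsLocalRing.eq_maximalIdeal (Ideal.isMaximal_comap_of_isIntegral_of_isMaximal (R := S) M)
  have h1 : henselNormMap D Dh (z ⊗ₜ[D] 1) =
      algebraMap S (integralClosure S (FractionRing S)) (algebraMap Dh S z) := Subtype.ext (by
    show henselNormToStrict D Dh (z ⊗ₜ[D] 1) = _
    rw [henselNormToStrict, AlgHom.comp_apply, Algebra.TensorProduct.map_tmul, henselToStrict_tmul,
      AlgHom.id_apply, map_one, map_one, mul_one]
    rfl)
  show henselNormMap D Dh (z ⊗ₜ[D] 1) ∈ M ↔ _
  rw [h1, ← Ideal.mem_comap, hm]
  exact ⟨fun h hz => h (hz.map (algebraMap Dh S)),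
    fun h hz => h (IsLocalHom.map_nonunit (f := algebraMap Dh S) z hz)⟩

variable {A' D' : Subalgebra A (FractionRing S)} (ι : D →ₐ[A] D')
  (hD' : ∀ x : (FractionRing S), x ∈ D' ↔ (IsIntegral D x ∧
    ∃ a ∈ nonZeroDivisors A, ∃ d ∈ D, algebraMap A (FractionRing S) a * x = algebraMap S (FractionRing S) d))
  (hι : ∀ d : D, (ι d : (FractionRing S)) = algebraMap S (FractionRing S) d)

omit [IsLocalRing D] [IsLocalHom (algebraMap D S)] in
include hD' in
theorem exists_equiv_normalization :
    ∃ e : integralClosure D (FractionRing D) ≃+* D',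
      ∀ y, (e y : FractionRing S) = fracToStrict D (y : FractionRing D) := by
  have hmem : ∀ y : integralClosure D (FractionRing D), fracToStrict D (y : FractionRing D) ∈ D' := by
    intro y
    obtain ⟨⟨b, d⟩, hbd⟩ := IsLocalization.surj (nonZeroDivisors D) (y : FractionRing D)
    refine mem_of_isIntegral_of_mul_mem D hD' (IsIntegral.map (fracToStrict D) y.2) d.2 b ?_
    rw [← (fracToStrict D).commutes, ← (fracToStrict D).commutes, ← map_mul, mul_comm]
    exact congrArg _ hbd
  let f : integralClosure D (FractionRing D) →+* D' :=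
    { toFun := fun y => ⟨_, hmem y⟩
      map_one' := Subtype.ext (map_one _)
      map_mul' := fun _ _ => Subtype.ext (map_mul _ _ _)
      map_zero' := Subtype.ext (map_zero _)
      map_add' := fun _ _ => Subtype.ext (map_add _ _ _) }
  have hf : Function.Bijective f := by
    refine ⟨fun x y h => Subtype.ext (fracToStrict_injective D (congrArg Subtype.val h :)), fun x => ?_⟩
    obtain ⟨hx, a, ha, d, hd, had⟩ := (hD' _).mp x.2
    have haD : algebraMap A D a ∈ nonZeroDivisors D := by
      rw [mem_nonZeroDivisors_iff_right]
      intro z hz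
      refine Subtype.ext (IsFractionRing.injective S (FractionRing S) ?_)
      have h1 := congrArg (algebraMap D (FractionRing S)) hz
      rw [map_mul, map_zero, ← IsScalarTower.algebraMap_apply] at h1
      exact ((isUnit_algebraMap_fraction_strict ha).mul_left_eq_zero.mp h1).trans (map_zero _).symm
    obtain ⟨v, hv⟩ := (IsLocalization.map_units (FractionRing D)
      (⟨_, haD⟩ : nonZeroDivisors D)).exists_right_inv
    obtain ⟨y, hy⟩ : ∃ y, fracToStrict D y = (x : FractionRing S) := by
      refine ⟨algebraMap D (FractionRing D) ⟨d, hd⟩ * v, ?_⟩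
      have h1 : algebraMap A (FractionRing S) a * fracToStrict D v = 1 := by
        rw [IsScalarTower.algebraMap_apply A D (FractionRing S), ← (fracToStrict D).commutes, ← map_mul,
          hv, map_one]
      rw [map_mul, AlgHom.commutes]
      show algebraMap S (FractionRing S) d * fracToStrict D v = _
      rw [← had, mul_right_comm, h1, one_mul]
    refine ⟨⟨y, ?_⟩, Subtype.ext hy⟩
    exact (isIntegral_algHom_iff (fracToStrict D) (fracToStrict_injective D)).mp (hy.symm ▸ hx)
  exact ⟨RingEquiv.ofBijective f hf, fun _ => rfl⟩

set_option maxHeartbeats 1600000 in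
-- subalgebras of total fraction rings and tensor products with them
include hD' hι hDh in
/-- Lying over in the normalization of the strict henselization makes the henselization inject. -/
theorem injective_of_lying_over (hfin : {N : Ideal D' | N.IsMaximal}.Finite)
    (hlift : ∀ (N : Ideal D') [N.IsMaximal],
      ∃ M : Ideal (integralClosure S (FractionRing S)), M.IsMaximal ∧
        M.comap (toStrictNorm (isIntegral_coe D hD')) = N) :
    Function.Injective (algebraMap Dh S) := by
  classical
  haveI := hDh.henselian
  obtain ⟨hred, hmin⟩ := isReduced_subalgebra_strict (A := A) D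
  haveI := hred
  haveI : IsReduced Dh := (GrothLib.Hensel.IsHenselization.isReduced_iff (R := D) (S := Dh)).mp hred
  haveI := GrothLib.Hensel.IsHenselization.flat (R := D) (S := Dh)
  haveI : Algebra.IsIntegral D (integralClosure D (FractionRing D)) := inferInstance
  obtain ⟨e, he⟩ := exists_equiv_normalization D hD'
  have hL : GrothLib.Hensel.AbsFlat (FractionRing D) := GrothLib.Hensel.absFlat_fractionRing D hmin
  have hd : ∀ k : FractionRing D, ∃ d a, IsUnit (algebraMap D (FractionRing D) d) ∧
      k * algebraMap D (FractionRing D) d = algebraMap D (FractionRing D) a := fun k => by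
    obtain ⟨⟨a, d⟩, h⟩ := IsLocalization.surj (nonZeroDivisors D) k
    exact ⟨d, a, IsLocalization.map_units _ d, h⟩
  have hcard : ENat.card (PrimeSpectrum (Dh ⊗[D] FractionRing D)) =
      ENat.card (MaximalSpectrum (integralClosure D (FractionRing D))) := by
    rw [GrothLib.Hensel.card_primeSpectrum_eq_card_maximalSpectrum
      (GrothLib.Hensel.IsHenselization.etaleStages (A := D) (S := Dh)) hL
      (integralClosure D (FractionRing D)).val Subtype.val_injective
      (fun k hk => ⟨⟨k, hk⟩, rfl⟩) hd,
      GrothLib.Hensel.card_maximalSpectrum_tensor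
        (GrothLib.Hensel.IsHenselization.exists_sub_mem (R := D))]
  haveI hfinR : Finite (MaximalSpectrum (integralClosure D (FractionRing D))) := by
    haveI := hfin.to_subtype
    refine Finite.of_injective (fun N : MaximalSpectrum (integralClosure D (FractionRing D)) =>
      (⟨N.asIdeal.comap e.symm.toRingHom,
        haveI := N.isMaximal
        Ideal.comap_isMaximal_of_surjective _ e.symm.surjective⟩ : {N : Ideal D' | N.IsMaximal}))
      fun N N' h => MaximalSpectrum.ext (Ideal.ext fun x => ?_)
    have := SetLike.ext_iff.mp (congrArg Subtype.val h) (e x)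
    simpa using this
  -- a point for each maximal ideal
  have hpt : ∀ N : MaximalSpectrum (integralClosure D (FractionRing D)),
      ∃ (M : Ideal (integralClosure S (FractionRing S))) (Q : Ideal (FractionRing S)), M.IsMaximal ∧
        Q.IsPrime ∧ (∀ w : integralClosure S (FractionRing S), (w : FractionRing S) ∈ Q → w ∈ M) ∧
        ∀ y, henselNormMap D Dh (1 ⊗ₜ[D] y) ∈ M ↔ y ∈ N.asIdeal := by
    intro N
    haveI := N.isMaximal
    haveI : (N.asIdeal.comap e.symm.toRingHom).IsMaximal :=
      Ideal.comap_isMaximal_of_surjective _ e.symm.surjective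
    obtain ⟨M, hM, hMN⟩ := hlift (N.asIdeal.comap e.symm.toRingHom)
    haveI := hM
    obtain ⟨r, hr, hrM⟩ := Ideal.exists_minimalPrimes_le
      (I := (⊥ : Ideal (integralClosure S (FractionRing S)))) (J := M) bot_le
    obtain ⟨Q, hQ, hQr⟩ := Ideal.exists_comap_eq_of_mem_minimalPrimes_of_injective
      (f := (integralClosure S (FractionRing S)).val.toRingHom) Subtype.val_injective r hr
    refine ⟨M, Q, hM, hQ, fun w hw => hrM (hQr ▸ hw), fun y => ?_⟩
    rw [show henselNormMap D Dh (1 ⊗ₜ[D] y) = toStrictNorm (isIntegral_coe D hD') (e y) from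
      Subtype.ext ((coe_henselNormMap_right D Dh y).trans (he y).symm), ← Ideal.mem_comap, hMN,
      Ideal.mem_comap]
    simp
  choose M Q hM hQ hQM hMN using hpt
  let q : MaximalSpectrum (integralClosure D (FractionRing D)) →
      PrimeSpectrum (Dh ⊗[D] FractionRing D) := fun N =>
    ⟨(Q N).comap (henselToStrict D Dh).toRingHom, (hQ N).comap _⟩
  have hqinj : Function.Injective q := by
    intro N N' h
    let P : Ideal (Dh ⊗[D] integralClosure D (FractionRing D)) :=
      (Q N).comap (henselNormToStrict D Dh).toRingHom
    haveI : P.IsPrime := (hQ N).comap _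
    have hPN' : P = (Q N').comap (henselNormToStrict D Dh).toRingHom := by
      have h' : (Q N).comap (henselToStrict D Dh).toRingHom = (Q N').comap (henselToStrict D Dh).toRingHom :=
        congrArg PrimeSpectrum.asIdeal h
      ext t
      exact SetLike.ext_iff.mp h' (Algebra.TensorProduct.map (AlgHom.id D Dh)
        (integralClosure D (FractionRing D)).val t)
    let T := (Dh ⊗[D] integralClosure D (FractionRing D)) ⧸ P
    haveI : Algebra.IsIntegral Dh T :=
      ⟨fun t => by
        obtain ⟨t, rfl⟩ := Ideal.Quotient.mk_surjective t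
        exact (Algebra.IsIntegral.isIntegral t).map (Ideal.Quotient.mkₐ Dh P)⟩
    haveI := hM N
    haveI := hM N'
    haveI h1 := isMaximal_comap_henselNormMap D Dh (M N)
    haveI h2 := isMaximal_comap_henselNormMap D Dh (M N')
    have hle : P ≤ (M N).comap (henselNormMap D Dh) := fun t ht => hQM N _ ht
    have hle' : P ≤ (M N').comap (henselNormMap D Dh) := fun t ht => hQM N' _ (hPN'.le ht)
    haveI i1 : (((M N).comap (henselNormMap D Dh)).map (Ideal.Quotient.mk P)).IsMaximal :=
      Ideal.IsMaximal.map_of_surjective_of_ker_le Ideal.Quotient.mk_surjective (by rwa [Ideal.mk_ker])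
    haveI i2 : (((M N').comap (henselNormMap D Dh)).map (Ideal.Quotient.mk P)).IsMaximal :=
      Ideal.IsMaximal.map_of_surjective_of_ker_le Ideal.Quotient.mk_surjective (by rwa [Ideal.mk_ker])
    have heq := GrothLib.Hensel.eq_of_isMaximal_of_isIntegral (S := Dh)
      (P := ((M N).comap (henselNormMap D Dh)).map (Ideal.Quotient.mk P))
      (Q := ((M N').comap (henselNormMap D Dh)).map (Ideal.Quotient.mk P))
    have h3 := congrArg (Ideal.comap (Ideal.Quotient.mk P)) heq
    rw [Ideal.comap_map_mk hle, Ideal.comap_map_mk hle'] at h3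
    refine MaximalSpectrum.ext (Ideal.ext fun y => ?_)
    rw [← hMN N y, ← hMN N' y]
    exact SetLike.ext_iff.mp h3 (1 ⊗ₜ[D] y)
  haveI : Finite (PrimeSpectrum (Dh ⊗[D] FractionRing D)) := by
    rw [← ENat.card_lt_top, hcard, ENat.card_lt_top]
    exact hfinR
  have hbij : Function.Bijective q := hqinj.bijective_of_nat_card_le (by
    letI := Fintype.ofFinite (PrimeSpectrum (Dh ⊗[D] FractionRing D))
    letI := Fintype.ofFinite (MaximalSpectrum (integralClosure D (FractionRing D)))
    rw [ENat.card_eq_coe_fintype_card, ENat.card_eq_coe_fintype_card] at hcard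
    rw [Nat.card_eq_fintype_card, Nat.card_eq_fintype_card]
    exact (Nat.cast_inj.mp hcard).le)
  refine (injective_iff_map_eq_zero _).mpr fun z hz => ?_
  have hnil : z ⊗ₜ[D] (1 : FractionRing D) ∈ nilradical (Dh ⊗[D] FractionRing D) := by
    rw [nilradical_eq_sInf, Submodule.mem_sInf]
    intro p hp
    obtain ⟨N, hN⟩ := hbij.2 ⟨p, hp⟩
    rw [show p = (Q N).comap (henselToStrict D Dh).toRingHom from (congrArg PrimeSpectrum.asIdeal hN).symm]
    show henselToStrict D Dh (z ⊗ₜ[D] 1) ∈ Q N
    rw [henselToStrict_tmul, hz, map_zero, zero_mul]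
    exact zero_mem _
  obtain ⟨k, hk⟩ := mem_nilradical.mp hnil
  have hker : z ^ k ∈ RingHom.ker (algebraMap Dh (Dh ⊗[D] FractionRing D)) := by
    rw [RingHom.mem_ker, map_pow]
    exact hk
  have h0 := mem_nilradical.mp (GrothLib.Hensel.ker_algebraMap_le_nilradical
    (K := FractionRing D) (fun a ha => by
      rw [IsFractionRing.injective D (FractionRing D) (ha.trans (map_zero _).symm)]
      exact IsNilpotent.zero) hker)
  exact IsReduced.eq_zero z (IsNilpotent.of_pow h0)

set_option maxHeartbeats 1600000 in
-- subalgebras of total fraction rings and tensor products with them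
include hD' hDh in
/-- If the henselization injects, every maximal ideal of the normalization lies under one of that of the
strict henselization. -/
theorem exists_maximal_over_of_injective (hinj : Function.Injective (algebraMap Dh S))
    (N : Ideal D') [N.IsMaximal] :
    ∃ M : Ideal (integralClosure S (FractionRing S)), M.IsMaximal ∧
      M.comap (toStrictNorm (isIntegral_coe D hD')) = N := by
  haveI := GrothLib.Hensel.IsHenselization.flat (R := D) (S := Dh)
  haveI := GrothLib.Hensel.IsHenselization.faithfullyFlat (R := D) (S := Dh)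
  obtain ⟨e, he⟩ := exists_equiv_normalization D hD'
  let R := integralClosure D (FractionRing D)
  haveI : (N.comap e.toRingHom).IsMaximal := Ideal.comap_isMaximal_of_surjective _ e.surjective
  -- the comparison map is injective
  have hd : ∀ k : FractionRing D, ∃ d a, IsUnit (algebraMap D (FractionRing D) d) ∧
      k * algebraMap D (FractionRing D) d = algebraMap D (FractionRing D) a := fun k => by
    obtain ⟨⟨a, d⟩, h⟩ := IsLocalization.surj (nonZeroDivisors D) k
    exact ⟨d, a, IsLocalization.map_units _ d, h⟩
  have hΦ : Function.Injective (henselToStrict D Dh) := by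
    refine (injective_iff_map_eq_zero _).mpr fun z hz => ?_
    obtain ⟨t, s, ht, hts⟩ := GrothLib.Hensel.exists_mul_algebraMap_eq (S := Dh) hd z
    rw [Algebra.TensorProduct.algebraMap_apply, Algebra.algebraMap_self, RingHom.id_apply] at hts ht
    rw [Algebra.TensorProduct.algebraMap_apply, Algebra.algebraMap_self, RingHom.id_apply] at hts
    have h1 := congrArg (henselToStrict D Dh) hts
    rw [map_mul, hz, zero_mul, henselToStrict_tmul, map_one, mul_one] at h1
    have h2 : s = 0 := hinj ((IsFractionRing.injective S (FractionRing S)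
      (h1.symm.trans (map_zero _).symm)).trans (map_zero _).symm)
    rw [h2, TensorProduct.zero_tmul] at hts
    exact ht.mul_left_eq_zero.mp hts
  have hj : Function.Injective (henselNormMap D Dh) := fun t t' h =>
    (Module.Flat.lTensor_preserves_injective_linearMap (M := Dh) R.val.toLinearMap Subtype.val_injective)
      (hΦ (congrArg Subtype.val h :))
  -- integrality
  have hint : (henselNormMap D Dh).IsIntegral := by
    intro w
    obtain ⟨u, hu⟩ := exists_comp_henselization D Dh
    obtain ⟨p, hp, hpw⟩ := w.2
    have hS0 : ∀ s : S, IsIntegral Dh s := by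
      intro s
      obtain ⟨_, _, hs⟩ := isIntegral_of_henselization (A := A) s
      obtain ⟨q, hq, hqs⟩ := hs
      refine ⟨q.map u, hq.map u, ?_⟩
      rw [Polynomial.eval₂_map, hu]
      exact hqs
    haveI : Algebra.IsIntegral Dh S := ⟨hS0⟩
    haveI : IsScalarTower Dh S (FractionRing S) := inferInstance
    have h1 : IsIntegral Dh (w : FractionRing S) := isIntegral_trans (A := S) _ w.2
    obtain ⟨q, hq, hqw⟩ := h1
    refine ⟨q.map (algebraMap Dh (Dh ⊗[D] R)), hq.map _, Subtype.ext ?_⟩
    show (integralClosure S (FractionRing S)).val.toRingHom (Polynomial.eval₂ (henselNormMap D Dh) w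
      (q.map (algebraMap Dh (Dh ⊗[D] R)))) = _
    rw [Polynomial.eval₂_map, Polynomial.hom_eval₂]
    suffices h : ((integralClosure S (FractionRing S)).val.toRingHom.comp (henselNormMap D Dh)).comp
        (algebraMap Dh (Dh ⊗[D] R)) = algebraMap Dh (FractionRing S) by
      rw [← RingHom.comp_assoc, h]; exact hqw
    refine RingHom.ext fun z => ?_
    show henselNormToStrict D Dh (z ⊗ₜ[D] 1) = _
    rw [henselNormToStrict, AlgHom.comp_apply, Algebra.TensorProduct.map_tmul, henselToStrict_tmul,
      AlgHom.id_apply, map_one, map_one, mul_one]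
    exact (IsScalarTower.algebraMap_apply Dh S (FractionRing S) z).symm
  obtain ⟨P, hPp, hP⟩ := exists_prime_over_includeRight (D := D) (Dh := Dh) (N.comap e.toRingHom)
  obtain ⟨P', hP', hPP'⟩ := Ideal.exists_le_maximal P hPp.ne_top
  haveI := hP'
  letI : Algebra (Dh ⊗[D] R) (integralClosure S (FractionRing S)) := (henselNormMap D Dh).toAlgebra
  haveI : Algebra.IsIntegral (Dh ⊗[D] R) (integralClosure S (FractionRing S)) := ⟨hint⟩
  obtain ⟨M, hM, hMP⟩ := Ideal.exists_ideal_over_maximal_of_isIntegral (S := integralClosure S (FractionRing S))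
    P' (by
      rw [show RingHom.ker (algebraMap (Dh ⊗[D] R) (integralClosure S (FractionRing S))) = ⊥ from
        (RingHom.injective_iff_ker_eq_bot _).mp hj]
      exact bot_le)
  refine ⟨M, hM, ((inferInstance : N.IsMaximal).eq_of_le ?_ fun x hx => ?_).symm⟩
  · exact (Ideal.IsPrime.comap (hK := hM.isPrime) (toStrictNorm (isIntegral_coe D hD'))).ne_top
  · have h1 : (1 : Dh) ⊗ₜ[D] e.symm x ∈ P' := hPP' (by
      have h2 : e.symm x ∈ N.comap e.toRingHom := by
        show e (e.symm x) ∈ N
        rw [e.apply_symm_apply]
        exact hx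
      rw [← hP] at h2
      exact h2)
    rw [← hMP] at h1
    have h3 : henselNormMap D Dh ((1 : Dh) ⊗ₜ[D] e.symm x) ∈ M := h1
    rwa [show henselNormMap D Dh ((1 : Dh) ⊗ₜ[D] e.symm x) = toStrictNorm (isIntegral_coe D hD') x from
      Subtype.ext ((coe_henselNormMap_right D Dh _).trans ((he _).symm.trans
        (congrArg Subtype.val (e.apply_symm_apply x))))] at h3

end GrothLib.EssEtLoc
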