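import Groth.Agent.Lib.EssEtLoc.Transport

/-!
# The normalization of a strict henselization as a base change of the normalization
-/

universe u

open IsLocalRing TensorProduct

noncomputable section

namespace GrothLib.EssEtLoc

/-- Finitely many elements of a local algebra with étale stages lie in an essentially étale subalgebra. -/
theorem exists_subalgebra_of_etaleStages {A T : Type u} [CommRing A] [IsLocalRing A] [CommRing T]
    [IsLocalRing T] [Algebra A T] [IsLocalHom (algebraMap A T)] [Module.Flat A T]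
    (hT : GrothLib.Hensel.EtaleStages A T) (s : Finset T) :
    ∃ (E : Subalgebra A T) (_ : IsLocalRing E), (s : Set T) ⊆ E ∧ IsLocalHom (algebraMap E T) ∧
      EGA4loc.IsEssentiallyEtale A E := by
  obtain ⟨N, _, _, _, φ, hφ⟩ := hT s
  obtain ⟨q, _, ψ, hE, hinj, hloc, hψ⟩ := exists_lift_localization φ
  let e : Localization.AtPrime q ≃ₐ[A] ψ.range := AlgEquiv.ofInjective ψ hinj
  haveI : IsLocalRing ψ.range := e.toRingEquiv.isLocalRing
  refine ⟨ψ.range, inferInstance, fun x hx => ?_, ⟨fun y hy => ?_⟩, of_algEquiv hE e⟩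
  · obtain ⟨c, rfl⟩ := hφ x hx
    exact ⟨_, hψ c⟩
  · obtain ⟨z, rfl⟩ := e.surjective y
    exact (hloc.map_nonunit z hy).map e

variable {A S : Type u} [CommRing A] [IsLocalRing A] [IsReduced A] [IsNoetherianRing A] [CommRing S]
  [IsLocalRing S] [Algebra A S] [IsLocalHom (algebraMap A S)]
  [hS : _root_.Hensel.IsStrictHenselization A S]

theorem isUnit_algebraMap_fraction_strict {a : A} (ha : a ∈ nonZeroDivisors A) :
    IsUnit (algebraMap A (FractionRing S) a) := by
  obtain ⟨E, _, -, -, hE⟩ := exists_subalgebra (A := A) (S := S) ∅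
  obtain ⟨ρ, -, hu, -⟩ := exists_fracMap E hE
  exact hu a ha

theorem exists_denominator (x : FractionRing S) :
    ∃ a ∈ nonZeroDivisors A, ∃ w : S,
      algebraMap A (FractionRing S) a * x = algebraMap S (FractionRing S) w := by
  classical
  obtain ⟨⟨p, q⟩, hpq⟩ := IsLocalization.surj (nonZeroDivisors S) x
  obtain ⟨E, _, hsE, -, hE⟩ := exists_subalgebra (A := A) (S := S) {p, (q : S)}
  obtain ⟨ρ, hρ, -, -⟩ := exists_fracMap E hE
  obtain ⟨hloc, -⟩ := fractionRing_structure (minimalPrimes.finite_of_isNoetherianRing A) hE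
  let qE : E := ⟨q, hsE (by simp)⟩
  have hq : qE ∈ nonZeroDivisors E := by
    rw [mem_nonZeroDivisors_iff_right]
    intro y hy
    exact Subtype.ext ((mem_nonZeroDivisors_iff_right.mp q.2) _ (congrArg Subtype.val hy :))
  obtain ⟨v, hv⟩ := (IsLocalization.map_units (FractionRing E) (⟨qE, hq⟩ : nonZeroDivisors E)).exists_right_inv
  obtain ⟨⟨e, ⟨_, a, ha, rfl⟩⟩, hev⟩ :=
    IsLocalization.surj ((nonZeroDivisors A).map (algebraMap A E)) v
  refine ⟨a, ha, p * (e : S), ?_⟩
  have h1 : algebraMap S (FractionRing S) (q : S) * ρ v = 1 := by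
    rw [show algebraMap S (FractionRing S) (q : S) = ρ (algebraMap E (FractionRing E) qE) from
      (hρ qE).symm, ← map_mul, hv, map_one]
  have h2 : algebraMap A (FractionRing S) a * ρ v = algebraMap S (FractionRing S) (e : S) := by
    rw [← hρ, ← ρ.commutes, ← map_mul, mul_comm, IsScalarTower.algebraMap_apply A E (FractionRing E)]
    exact congrArg ρ hev
  rw [map_mul, ← h2, ← hpq]
  calc algebraMap A (FractionRing S) a * x
      = algebraMap A (FractionRing S) a * x * (algebraMap S (FractionRing S) (q : S) * ρ v) := by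
        rw [h1, mul_one]
    _ = x * algebraMap S (FractionRing S) (q : S) * (algebraMap A (FractionRing S) a * ρ v) := by ring

/-- An element with numerator in an essentially étale stage, integral over it, comes from it. -/
theorem exists_mem_range_of_isIntegral (x : FractionRing S) (hx : IsIntegral S x) (s : Finset S) :
    ∃ (E : Subalgebra A S) (_ : IsLocalRing E) (ρ : FractionRing E →ₐ[A] FractionRing S),
      (s : Set S) ⊆ E ∧ EGA4loc.IsEssentiallyEtale A E ∧ Function.Injective ρ ∧
      (∀ e : E, ρ (algebraMap E (FractionRing E) e) = algebraMap S (FractionRing S) (e : S)) ∧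
      ∃ y : FractionRing E, IsIntegral E y ∧ ρ y = x := by
  classical
  obtain ⟨p, hp, hpx⟩ := hx
  obtain ⟨a, ha, w, haw⟩ := exists_denominator (A := A) x
  obtain ⟨E, _, hsE, -, hE⟩ :=
    exists_subalgebra (A := A) (S := S) (s ∪ {w} ∪ (Finset.range (p.natDegree + 1)).image p.coeff)
  obtain ⟨ρ, hρ, hu, hρinj⟩ := exists_fracMap E hE
  have hws : w ∈ E := hsE (by simp)
  have hcoeff : ∀ i, p.coeff i ∈ E := fun i => by
    by_cases hi : i < p.natDegree + 1
    · exact hsE (Finset.mem_union_right _ (Finset.mem_image_of_mem _ (Finset.mem_range.mpr hi)))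
    · rw [Polynomial.coeff_eq_zero_of_natDegree_lt (by omega)]
      exact zero_mem _
  obtain ⟨v, hv⟩ := (isUnit_algebraMap_fractionRing hE ha).exists_right_inv
  obtain ⟨y, hy⟩ : ∃ y, ρ y = x := ⟨algebraMap E (FractionRing E) ⟨w, hws⟩ * v, by
    rw [map_mul, hρ, ← haw, mul_right_comm, ← ρ.commutes, ← map_mul, hv, map_one, one_mul]⟩
  refine ⟨E, inferInstance, ρ, fun z hz => hsE (by simp [Finset.mem_coe.mp hz]), hE, hρinj, hρ, y, ?_, hy⟩
  have hlift : p ∈ Polynomial.lifts (algebraMap E S) :=
    (Polynomial.lifts_iff_coeff_lifts p).mpr fun i => ⟨⟨_, hcoeff i⟩, rfl⟩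
  obtain ⟨q, hqp, -, hqm⟩ := Polynomial.lifts_and_degree_eq_and_monic hlift hp
  refine ⟨q, hqm, hρinj ?_⟩
  show ρ.toRingHom _ = ρ _
  rw [map_zero, Polynomial.hom_eval₂, show ρ.toRingHom.comp (algebraMap E (FractionRing E)) =
    (algebraMap S (FractionRing S)).comp (algebraMap E S) from RingHom.ext hρ, ← Polynomial.eval₂_map, hqp]
  rw [← hy] at hpx
  exact hpx

variable {A' : Subalgebra A (FractionRing S)}
  (hA' : ∀ x : (FractionRing S), x ∈ A' ↔ (IsIntegral A x ∧
    ∃ a ∈ nonZeroDivisors A, ∃ b : A, algebraMap A (FractionRing S) a * x = algebraMap A (FractionRing S) b))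

include hA' in
theorem isIntegral_productMap (t : A' ⊗[A] S) :
    IsIntegral S (Algebra.TensorProduct.productMap A'.val
      (IsScalarTower.toAlgHom A S (FractionRing S)) t) := by
  induction t using TensorProduct.induction_on with
  | zero => rw [map_zero]; exact isIntegral_zero
  | tmul a s =>
    rw [Algebra.TensorProduct.productMap_apply_tmul]
    exact ((hA' _).mp a.2).1.tower_top.mul isIntegral_algebraMap
  | add t t' h h' => rw [map_add]; exact h.add h'

include hA' in
theorem exists_productMap_eq (x : FractionRing S) (hx : IsIntegral S x) :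
    ∃ t : A' ⊗[A] S, Algebra.TensorProduct.productMap A'.val
      (IsScalarTower.toAlgHom A S (FractionRing S)) t = x := by
  obtain ⟨E, _, ρ, -, hE, hρinj, hρ, y, hy, rfl⟩ := exists_mem_range_of_isIntegral (A := A) x hx ∅
  obtain ⟨z, hz⟩ := (normMul_bijective (minimalPrimes.finite_of_isNoetherianRing A) hE).2 ⟨y, hy⟩
  have hz' : (normMul z : FractionRing E) = y := congrArg Subtype.val hz
  rw [← hz']
  clear hz hz'
  induction z using TensorProduct.induction_on with
  | zero => exact ⟨0, by simp⟩
  | tmul a e =>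
    have ha : ρ (a : FractionRing E) ∈ A' :=
      (hA' _).mpr ((mem_range_normBase hE ρ hρinj _).mpr ⟨a, a.2, rfl⟩)
    refine ⟨⟨_, ha⟩ ⊗ₜ (e : S), ?_⟩
    rw [Algebra.TensorProduct.productMap_apply_tmul, coe_normMul, map_mul, hρ]
    rfl
  | add z z' h h' =>
    obtain ⟨t, ht⟩ := h
    obtain ⟨t', ht'⟩ := h'
    exact ⟨t + t', by rw [map_add, ht, ht', map_add, Subalgebra.coe_add, map_add]⟩

include hA' in
theorem productMap_injective :
    Function.Injective (Algebra.TensorProduct.productMap A'.val
      (IsScalarTower.toAlgHom A S (FractionRing S))) := by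
  rw [injective_iff_map_eq_zero]
  intro z hz
  haveI := GrothLib.Hensel.IsStrictHenselization.flat (R := A) (S := S)
  have hrep : ∀ z : A' ⊗[A] S, ∃ a ∈ nonZeroDivisors A, ∃ e : S, a • z = (1 : A') ⊗ₜ[A] e := by
    intro z
    induction z using TensorProduct.induction_on with
    | zero => exact ⟨1, one_mem _, 0, by simp⟩
    | tmul x e =>
      obtain ⟨-, a, ha, b, hab⟩ := (hA' _).mp x.2
      refine ⟨a, ha, b • e, ?_⟩
      rw [TensorProduct.smul_tmul', ← TensorProduct.smul_tmul]
      congr 1
      refine Subtype.ext ?_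
      show a • (x : FractionRing S) = b • (1 : FractionRing S)
      rw [Algebra.smul_def, hab, Algebra.smul_def, mul_one]
    | add z z' h h' =>
      obtain ⟨a, ha, e, he⟩ := h
      obtain ⟨a', ha', e', he'⟩ := h'
      refine ⟨a * a', mul_mem ha ha', a' • e + a • e', ?_⟩
      rw [TensorProduct.tmul_add, TensorProduct.tmul_smul, TensorProduct.tmul_smul, ← he, ← he',
        smul_add, smul_smul, smul_smul, mul_comm a' a]
  obtain ⟨a, ha, e, he⟩ := hrep z
  have h0 : algebraMap S (FractionRing S) e = 0 := by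
    have := congrArg (Algebra.TensorProduct.productMap A'.val
      (IsScalarTower.toAlgHom A S (FractionRing S))) he
    rw [map_smul, hz, smul_zero, Algebra.TensorProduct.productMap_apply_tmul, map_one, one_mul] at this
    exact this.symm
  have he0 : e = 0 := IsFractionRing.injective S (FractionRing S) (by rw [h0, map_zero])
  rw [he0, TensorProduct.tmul_zero] at he
  have hinj : Function.Injective (DistribSMul.toLinearMap A A' a) := fun x y h => by
    have h' : a • (x : FractionRing S) = a • (y : FractionRing S) := congrArg Subtype.val h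
    rw [Algebra.smul_def, Algebra.smul_def] at h'
    exact Subtype.ext ((isUnit_algebraMap_fraction_strict ha).mul_left_cancel h')
  refine Module.Flat.rTensor_preserves_injective_linearMap (M := S) _ hinj ?_
  rw [map_zero, ← he]
  clear hz he
  induction z using TensorProduct.induction_on with
  | zero => simp
  | tmul x e => rw [LinearMap.rTensor_tmul, DistribSMul.toLinearMap_apply, TensorProduct.smul_tmul']
  | add z z' h h' => rw [map_add, h, h', smul_add]

include hA' in
/-- A compatible pair of points gives a maximal ideal of the normalization of the strict henselization. -/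
theorem exists_maximal_of_hom {Ω : Type u} [Field Ω] [Algebra A Ω] (φ : A' →ₐ[A] Ω) (χ : S →ₐ[A] Ω)
    (hχ : ∀ s ∈ maximalIdeal S, χ s = 0) :
    ∃ M : Ideal (integralClosure S (FractionRing S)), M.IsMaximal ∧
      ∀ (t : A' ⊗[A] S) (w : integralClosure S (FractionRing S)),
        (w : FractionRing S) = Algebra.TensorProduct.productMap A'.val
          (IsScalarTower.toAlgHom A S (FractionRing S)) t →
        (w ∈ M ↔ Algebra.TensorProduct.lift φ χ (fun _ _ => Commute.all _ _) t = 0) := by
  let f : A' ⊗[A] S →ₐ[A] integralClosure S (FractionRing S) :=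
    { toFun := fun t => ⟨Algebra.TensorProduct.productMap A'.val
        (IsScalarTower.toAlgHom A S (FractionRing S)) t, isIntegral_productMap hA' t⟩
      map_one' := Subtype.ext (map_one _)
      map_mul' := fun _ _ => Subtype.ext (map_mul _ _ _)
      map_zero' := Subtype.ext (map_zero _)
      map_add' := fun _ _ => Subtype.ext (map_add _ _ _)
      commutes' := fun a => Subtype.ext (AlgHom.commutes _ a) }
  have hf : Function.Bijective f := by
    refine ⟨fun t t' h => productMap_injective hA' (congrArg Subtype.val h :), fun w => ?_⟩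
    obtain ⟨t, ht⟩ := exists_productMap_eq hA' (w : FractionRing S) w.2
    exact ⟨t, Subtype.ext ht⟩
  let e := AlgEquiv.ofBijective f hf
  let g : integralClosure S (FractionRing S) →ₐ[A] Ω :=
    (Algebra.TensorProduct.lift φ χ fun _ _ => Commute.all _ _).comp e.symm.toAlgHom
  have hg : ∀ t, g (f t) = Algebra.TensorProduct.lift φ χ (fun _ _ => Commute.all _ _) t := fun t => by
    show Algebra.TensorProduct.lift φ χ (fun _ _ => Commute.all _ _) (e.symm (e t)) = _
    rw [e.symm_apply_apply]
  haveI := RingHom.ker_isPrime g.toRingHom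
  refine ⟨RingHom.ker g.toRingHom, ?_, fun t w hw => ?_⟩
  · refine Ideal.isMaximal_of_isIntegral_of_isMaximal_comap (R := S) _ ?_
    convert maximalIdeal.isMaximal S
    ext s
    show g (algebraMap S _ s) = 0 ↔ _
    have h : algebraMap S (integralClosure S (FractionRing S)) s = f (1 ⊗ₜ[A] s) := Subtype.ext (by
      show _ = Algebra.TensorProduct.productMap A'.val _ (1 ⊗ₜ[A] s)
      rw [Algebra.TensorProduct.productMap_apply_tmul, map_one, one_mul]
      rfl)
    rw [h, hg, Algebra.TensorProduct.lift_tmul, map_one, one_mul]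
    exact ⟨fun h0 hu => (hu.map χ).ne_zero h0, hχ s⟩
  · rw [show w = f t from Subtype.ext hw, RingHom.mem_ker]
    show g (f t) = 0 ↔ _
    rw [hg]

set_option maxHeartbeats 1000000 in
-- base changes of subalgebras of total fraction rings
include hA' in
/-- Every maximal ideal of the normalization of a stage lifts to that of the strict henselization. -/
theorem exists_maximal_over_stage (E : Subalgebra A S) [IsLocalRing E]
    (hE : EGA4loc.IsEssentiallyEtale A E) (ψ : normBase A E ≃ₐ[A] A')
    (ME : Ideal (integralClosure E (FractionRing E))) [ME.IsMaximal] :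
    ∃ M : Ideal (integralClosure S (FractionRing S)), M.IsMaximal ∧
      ∀ (t : normBase A E ⊗[A] E) (w : integralClosure S (FractionRing S)),
        (w : FractionRing S) = Algebra.TensorProduct.productMap A'.val
          (IsScalarTower.toAlgHom A S (FractionRing S))
          (Algebra.TensorProduct.map ψ.toAlgHom E.val t) →
        (w ∈ M ↔ normMul t ∈ ME) := by
  haveI := isLocalHom_algebraMap hE
  haveI : IsLocalHom (algebraMap E S) := isLocalHom_algHom hE E.val
  letI : Field (integralClosure E (FractionRing E) ⧸ ME) := Ideal.Quotient.field ME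
  let Ω := AlgebraicClosure (integralClosure E (FractionRing E) ⧸ ME)
  obtain ⟨π, hπ⟩ : ∃ π : integralClosure E (FractionRing E) →ₐ[A] Ω, ∀ z, π z = 0 ↔ z ∈ ME :=
    ⟨(IsScalarTower.toAlgHom A (integralClosure E (FractionRing E) ⧸ ME) Ω).comp
      (Ideal.Quotient.mkₐ A ME), fun z => by
      show algebraMap _ Ω (Ideal.Quotient.mk ME z) = 0 ↔ _
      rw [map_eq_zero, Ideal.Quotient.eq_zero_iff_mem]⟩
  let χE : E →ₐ[A] Ω := π.comp (IsScalarTower.toAlgHom A E _)
  have hker : ∀ y ∈ maximalIdeal E, χE y = 0 := fun y hy => by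
    show π (algebraMap E _ y) = 0
    rw [hπ, ← Ideal.mem_comap,
      IsLocalRing.eq_maximalIdeal (Ideal.isMaximal_comap_of_isIntegral_of_isMaximal (R := E) ME)]
    exact hy
  letI : Algebra (ResidueField E) Ω := (Ideal.Quotient.lift _ χE.toRingHom hker).toAlgebra
  haveI : IsScalarTower (ResidueField A) (ResidueField E) (ResidueField S) :=
    IsScalarTower.of_algebraMap_eq fun x => by
      obtain ⟨a, rfl⟩ := residue_surjective x
      rfl
  haveI := hS.isSepClosure.separable
  haveI : Algebra.IsAlgebraic (ResidueField E) (ResidueField S) :=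
    Algebra.IsAlgebraic.tower_top (K := ResidueField A) _
  obtain ⟨χ₀, hχ₀⟩ : ∃ χ₀ : ResidueField S →+* Ω, ∀ e : E, χ₀ (residue S (e : S)) = χE e :=
    ⟨(IsAlgClosed.lift : ResidueField S →ₐ[ResidueField E] Ω).toRingHom,
      fun e => (IsAlgClosed.lift : ResidueField S →ₐ[ResidueField E] Ω).commutes (residue E e)⟩
  let χ : S →ₐ[A] Ω :=
    { toRingHom := χ₀.comp (residue S)
      commutes' := fun a => (hχ₀ (algebraMap A E a)).trans (χE.commutes a) }
  obtain ⟨g, hg⟩ : ∃ g : normBase A E →ₐ[A] Ω, ∀ y, g y = π (normMul (y ⊗ₜ[A] (1 : E))) :=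
    ⟨(π.comp (normMul (A := A) (E := E))).comp
      (Algebra.TensorProduct.includeLeft : normBase A E →ₐ[A] normBase A E ⊗[A] E), fun y => by
        simp only [AlgHom.comp_apply, Algebra.TensorProduct.includeLeft_apply]⟩
  obtain ⟨φ, hφ⟩ : ∃ φ : A' →ₐ[A] Ω, ∀ y, φ (ψ y) = π (normMul (y ⊗ₜ[A] (1 : E))) :=
    ⟨g.comp ψ.symm.toAlgHom, fun y => (congrArg g (ψ.symm_apply_apply y)).trans (hg y)⟩
  obtain ⟨M, hM, hMiff⟩ := exists_maximal_of_hom hA' φ χ fun x hx => by
    show χ₀ (residue S x) = 0
    rw [(residue_eq_zero_iff x).mpr hx, map_zero]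
  refine ⟨M, hM, fun t w hw => ?_⟩
  rw [hMiff _ w hw, ← hπ]
  have hcomp : (Algebra.TensorProduct.lift φ χ fun _ _ => Commute.all _ _).comp
      (Algebra.TensorProduct.map ψ.toAlgHom E.val) = π.comp (normMul (A := A) (E := E)) := by
    refine Algebra.TensorProduct.ext' fun y e => ?_
    rw [AlgHom.comp_apply, AlgHom.comp_apply, Algebra.TensorProduct.map_tmul,
      Algebra.TensorProduct.lift_tmul]
    show φ (ψ y) * χ₀ (residue S (e : S)) = _
    rw [hφ, hχ₀, show χE e = π (algebraMap E _ e) from rfl, ← map_mul]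
    congr 1
    exact Subtype.ext (by rw [Subalgebra.coe_mul, coe_normMul, coe_normMul, map_one, mul_one]; rfl)
  rw [show π (normMul t) = Algebra.TensorProduct.lift φ χ (fun _ _ => Commute.all _ _)
    (Algebra.TensorProduct.map ψ.toAlgHom E.val t) from (AlgHom.congr_fun hcomp t).symm]

include hA' in
/-- The radical of the normalization of the strict henselization is generated by that of the base. -/
theorem mem_map_of_forall_maximal (hN : CAlg.IsNagata A) (t : A' ⊗[A] S)
    (w : integralClosure S (FractionRing S))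
    (hw : (w : FractionRing S) = Algebra.TensorProduct.productMap A'.val
      (IsScalarTower.toAlgHom A S (FractionRing S)) t)
    (h : ∀ M : Ideal (integralClosure S (FractionRing S)), M.IsMaximal → w ∈ M) :
    t ∈ (Ideal.jacobson (⊥ : Ideal A')).map
      (Algebra.TensorProduct.includeLeft : A' →ₐ[A] A' ⊗[A] S) := by
  classical
  obtain ⟨s, hst⟩ : ∃ s : Finset S, t ∈ Algebra.adjoin A
      (Set.range (Algebra.TensorProduct.includeLeft : A' →ₐ[A] A' ⊗[A] S) ∪
        (Algebra.TensorProduct.includeRight : S →ₐ[A] A' ⊗[A] S) '' (s : Set S)) := by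
    clear hw
    induction t using TensorProduct.induction_on with
    | zero => exact ⟨∅, zero_mem _⟩
    | tmul a x =>
      refine ⟨{x}, ?_⟩
      rw [show a ⊗ₜ[A] x = (Algebra.TensorProduct.includeLeft : A' →ₐ[A] A' ⊗[A] S) a *
        (Algebra.TensorProduct.includeRight : S →ₐ[A] A' ⊗[A] S) x by
          rw [Algebra.TensorProduct.includeLeft_apply, Algebra.TensorProduct.includeRight_apply,
            Algebra.TensorProduct.tmul_mul_tmul, mul_one, one_mul]]
      exact mul_mem (Algebra.subset_adjoin (Or.inl ⟨a, rfl⟩))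
        (Algebra.subset_adjoin (Or.inr ⟨x, by simp, rfl⟩))
    | add t t' h h' =>
      obtain ⟨s, hs⟩ := h
      obtain ⟨s', hs'⟩ := h'
      refine ⟨s ∪ s', add_mem (Algebra.adjoin_mono ?_ hs) (Algebra.adjoin_mono ?_ hs')⟩
      · exact Set.union_subset_union_right _ (Set.image_mono (by simp))
      · exact Set.union_subset_union_right _ (Set.image_mono (by simp))
  obtain ⟨E, _, hsE, hEloc, hE⟩ := exists_subalgebra (A := A) (S := S) s
  haveI := hEloc
  obtain ⟨ρ, hρ, -, hρinj⟩ := exists_fracMap E hE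
  haveI := finite_normBase hN hE
  have hψmem : ∀ y : normBase A E, ρ (y : FractionRing E) ∈ A' := fun y =>
    (hA' _).mpr ((mem_range_normBase hE ρ hρinj _).mpr ⟨y, y.2, rfl⟩)
  obtain ⟨ψ, hψ⟩ : ∃ e : normBase A E ≃ₐ[A] A', ∀ y, (e y : FractionRing S) = ρ (y : FractionRing E) :=
    ⟨AlgEquiv.ofBijective ((ρ.comp (normBase A E).val).codRestrict A' hψmem) (by
      refine ⟨fun x y h => Subtype.ext (hρinj (congrArg Subtype.val h :)), fun x => ?_⟩
      obtain ⟨y, hy, hyx⟩ := (mem_range_normBase hE ρ hρinj _).mp ((hA' _).mp x.2)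
      exact ⟨⟨y, hy⟩, Subtype.ext hyx⟩), fun _ => rfl⟩
  let c : normBase A E ⊗[A] E →ₐ[A] A' ⊗[A] S := Algebra.TensorProduct.map ψ.toAlgHom E.val
  obtain ⟨tE, rfl⟩ : ∃ tE, c tE = t := by
    have hle : Algebra.adjoin A (Set.range (Algebra.TensorProduct.includeLeft : A' →ₐ[A] A' ⊗[A] S) ∪
        (Algebra.TensorProduct.includeRight : S →ₐ[A] A' ⊗[A] S) '' (s : Set S)) ≤ c.range := by
      refine Algebra.adjoin_le ?_
      rintro _ (⟨a, rfl⟩ | ⟨x, hx, rfl⟩)
      · exact ⟨ψ.symm a ⊗ₜ 1, by
          show Algebra.TensorProduct.map ψ.toAlgHom E.val (ψ.symm a ⊗ₜ[A] (1 : E)) = _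
          rw [Algebra.TensorProduct.map_tmul, map_one]
          show ψ (ψ.symm a) ⊗ₜ[A] (1 : S) = _
          rw [ψ.apply_symm_apply]; rfl⟩
      · exact ⟨1 ⊗ₜ ⟨x, hsE hx⟩, by
          show Algebra.TensorProduct.map ψ.toAlgHom E.val ((1 : normBase A E) ⊗ₜ[A] (⟨x, hsE hx⟩ : E)) = _
          rw [Algebra.TensorProduct.map_tmul, map_one]; rfl⟩
    exact hle hst
  have hall : ∀ ME : Ideal (integralClosure E (FractionRing E)), ME.IsMaximal → normMul tE ∈ ME := by
    intro ME hME
    haveI := hME
    obtain ⟨M, hM, hMiff⟩ := exists_maximal_over_stage hA' E hE ψ ME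
    exact (hMiff tE w hw).mp (h M hM)
  have hmem := mem_map_jacobson_normBase hE (normMul tE) hall
  rw [← Ideal.map_map] at hmem
  obtain ⟨t', ht', htt'⟩ := (Ideal.mem_map_iff_of_surjective _
    (normMul_bijective (minimalPrimes.finite_of_isNoetherianRing A) hE).2).mp hmem
  rw [show tE = t' from (normMul_bijective (minimalPrimes.finite_of_isNoetherianRing A) hE).1 htt'.symm]
  have h3 := Ideal.mem_map_of_mem c.toRingHom ht'
  rw [Ideal.map_map] at h3
  suffices hle : (Ideal.jacobson (⊥ : Ideal (normBase A E))).map (c.toRingHom.comp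
      (Algebra.TensorProduct.includeLeft : normBase A E →ₐ[A] normBase A E ⊗[A] E).toRingHom) ≤
      (Ideal.jacobson (⊥ : Ideal A')).map
        (Algebra.TensorProduct.includeLeft : A' →ₐ[A] A' ⊗[A] S) from hle h3
  refine Ideal.map_le_iff_le_comap.mpr fun x hx => ?_
  show c (x ⊗ₜ[A] (1 : E)) ∈ (Ideal.jacobson (⊥ : Ideal A')).map
    (Algebra.TensorProduct.includeLeft : A' →ₐ[A] A' ⊗[A] S)
  rw [show c (x ⊗ₜ[A] (1 : E)) = (Algebra.TensorProduct.includeLeft : A' →ₐ[A] A' ⊗[A] S) (ψ x) from by
    show Algebra.TensorProduct.map ψ.toAlgHom E.val (x ⊗ₜ[A] (1 : E)) = _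
    rw [Algebra.TensorProduct.map_tmul, map_one]; rfl]
  refine Ideal.mem_map_of_mem _ (Submodule.mem_sInf.mpr ?_)
  rintro (P : Ideal A') ⟨-, hP⟩
  haveI := hP
  exact (sInf_le ⟨bot_le, Ideal.comap_isMaximal_of_surjective ψ.toAlgHom.toRingHom ψ.surjective (K := P)⟩ :
    Ideal.jacobson (⊥ : Ideal (normBase A E)) ≤ _) hx

end GrothLib.EssEtLoc
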