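import Groth.Agent.Lib.EssEtLoc.StrictInjective

/-!
# Residues of the normalization of a dominated subring
-/

universe u

open IsLocalRing TensorProduct

noncomputable section

namespace GrothLib.EssEtLoc

/-- Modulo the two radicals an element of a tensor product is detected on a larger residue field. -/
theorem mem_sup_of_map_mem {A B D S : Type u} [CommRing A] [IsLocalRing A] [CommRing B] [CommRing D]
    [IsLocalRing D] [CommRing S] [IsLocalRing S] [Algebra A B] [Algebra A D] [Algebra A S] [Algebra D S]
    [IsScalarTower A D S] [IsLocalHom (algebraMap A D)] [IsLocalHom (algebraMap A S)]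
    [IsLocalHom (algebraMap D S)] (I : Ideal B) (t : B ⊗[A] D)
    (ht : Algebra.TensorProduct.map (AlgHom.id A B) (IsScalarTower.toAlgHom A D S) t ∈
      I.map (Algebra.TensorProduct.includeLeft : B →ₐ[A] B ⊗[A] S)) :
    t ∈ I.map (Algebra.TensorProduct.includeLeft : B →ₐ[A] B ⊗[A] D) ⊔
      (maximalIdeal D).map (Algebra.TensorProduct.includeRight : D →ₐ[A] B ⊗[A] D) := by
  set RHS := I.map (Algebra.TensorProduct.includeLeft : B →ₐ[A] B ⊗[A] D) ⊔
    (maximalIdeal D).map (Algebra.TensorProduct.includeRight : D →ₐ[A] B ⊗[A] D)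
  let hD : ResidueField D →ₐ[A] (B ⊗[A] D) ⧸ RHS :=
    Ideal.Quotient.liftₐ (maximalIdeal D)
      ((Ideal.Quotient.mkₐ A RHS).comp Algebra.TensorProduct.includeRight) fun d hd => by
        rw [AlgHom.comp_apply, Ideal.Quotient.mkₐ_eq_mk, Ideal.Quotient.eq_zero_iff_mem]
        exact Ideal.mem_sup_right (Ideal.mem_map_of_mem _ hd)
  haveI : IsScalarTower (ResidueField A) (ResidueField D) (ResidueField S) :=
    IsScalarTower.of_algebraMap_eq fun x => by
      obtain ⟨a, rfl⟩ := residue_surjective x
      show residue S (algebraMap A S a) = residue S (algebraMap D S (algebraMap A D a))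
      rw [← IsScalarTower.algebraMap_apply]
  obtain ⟨r, hr⟩ := LinearMap.exists_leftInverse_of_injective
    (IsScalarTower.toAlgHom (ResidueField A) (ResidueField D) (ResidueField S)).toLinearMap
    (LinearMap.ker_eq_bot.mpr (algebraMap (ResidueField D) (ResidueField S)).injective)
  let g : S →ₗ[A] (B ⊗[A] D) ⧸ RHS :=
    hD.toLinearMap ∘ₗ (r.restrictScalars A) ∘ₗ (IsScalarTower.toAlgHom A S (ResidueField S)).toLinearMap
  let mkA : B →ₐ[A] (B ⊗[A] D) ⧸ RHS :=
    (Ideal.Quotient.mkₐ A RHS).comp Algebra.TensorProduct.includeLeft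
  let G : B ⊗[A] S →ₗ[A] (B ⊗[A] D) ⧸ RHS :=
    TensorProduct.lift ((LinearMap.mul A _).compl₁₂ mkA.toLinearMap g)
  have hG : ∀ a s, G (a ⊗ₜ s) = mkA a * g s := fun a s => TensorProduct.lift.tmul _ _
  have hzero : ∀ z ∈ I.map
      (Algebra.TensorProduct.includeLeft : B →ₐ[A] B ⊗[A] S), G z = 0 := by
    intro z hz
    refine Submodule.span_induction (p := fun y _ => ∀ c : B ⊗[A] S, G (c * y) = 0) (fun y hy => ?_)
      (fun c => by rw [mul_zero, map_zero]) (fun y y' _ _ h h' c => by rw [mul_add, map_add, h, h', add_zero])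
      (fun b y _ h c => by rw [smul_eq_mul, ← mul_assoc]; exact h _) hz 1 |> fun h => by rwa [one_mul] at h
    obtain ⟨r₀, hr₀, rfl⟩ := hy
    intro c
    induction c using TensorProduct.induction_on with
    | zero => rw [zero_mul, map_zero]
    | tmul a s =>
      rw [Algebra.TensorProduct.includeLeft_apply, Algebra.TensorProduct.tmul_mul_tmul, mul_one, hG,
        map_mul, show mkA r₀ = 0 from Ideal.Quotient.eq_zero_iff_mem.mpr
          (Ideal.mem_sup_left (Ideal.mem_map_of_mem _ hr₀)), mul_zero, zero_mul]
    | add c c' h h' => rw [add_mul, map_add, h, h', add_zero]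
  have hmk : ∀ t : B ⊗[A] D, G (Algebra.TensorProduct.map (AlgHom.id A B) (IsScalarTower.toAlgHom A D S) t) =
      Ideal.Quotient.mk RHS t := by
    intro t
    induction t using TensorProduct.induction_on with
    | zero => rw [map_zero, map_zero, map_zero]
    | tmul a d =>
      rw [Algebra.TensorProduct.map_tmul, hG]
      have hgd : g (algebraMap D S d) = Ideal.Quotient.mk RHS ((1 : B) ⊗ₜ[A] d) := by
        show hD (r (residue S (algebraMap D S d))) = _
        rw [show r (residue S (algebraMap D S d)) = residue D d from LinearMap.congr_fun hr (residue D d)]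
        rfl
      show mkA a * g (algebraMap D S d) = _
      rw [hgd, show mkA a = Ideal.Quotient.mk RHS (a ⊗ₜ[A] (1 : D)) from rfl, ← map_mul,
        Algebra.TensorProduct.tmul_mul_tmul, mul_one, one_mul]
    | add t t' h h' => rw [map_add, map_add, h, h', map_add]
  rw [← Ideal.Quotient.eq_zero_iff_mem, ← hmk]
  exact hzero _ ht


variable {A S : Type u} [CommRing A] [IsLocalRing A] [IsReduced A] [IsNoetherianRing A] [CommRing S]
  [IsLocalRing S] [Algebra A S] [IsLocalHom (algebraMap A S)]
  [hS : _root_.Hensel.IsStrictHenselization A S]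
  {A' : Subalgebra A (FractionRing S)}
  (hA' : ∀ x : (FractionRing S), x ∈ A' ↔ (IsIntegral A x ∧
    ∃ a ∈ nonZeroDivisors A, ∃ b : A, algebraMap A (FractionRing S) a * x = algebraMap A (FractionRing S) b))

/-- The multiplication map into the total fraction ring. -/
abbrev strictMul (A' : Subalgebra A (FractionRing S)) : A' ⊗[A] S →ₐ[A] FractionRing S :=
  Algebra.TensorProduct.productMap A'.val (IsScalarTower.toAlgHom A S (FractionRing S))

include hA' in
theorem finite_maximal_strictNorm (hN : CAlg.IsNagata A) :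
    {M : Ideal (integralClosure S (FractionRing S)) | M.IsMaximal}.Finite := by
  classical
  obtain ⟨E, _, -, -, hE⟩ := exists_subalgebra (A := A) (S := S) ∅
  obtain ⟨ρ, hρ, -, hρinj⟩ := exists_fracMap E hE
  haveI := finite_normBase hN hE
  obtain ⟨G, hG⟩ : (⊤ : Submodule A (normBase A E)).FG := Module.Finite.fg_top
  let f : normBase A E → integralClosure S (FractionRing S) := fun y =>
    ⟨ρ (y : FractionRing E), ((mem_normBase_iff.mp y.2).1.map ρ).tower_top⟩
  haveI : Module.Finite S (integralClosure S (FractionRing S)) := by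
    refine ⟨⟨G.image f, eq_top_iff.mpr fun w _ => ?_⟩⟩
    obtain ⟨t, ht⟩ := exists_productMap_eq hA' (w : FractionRing S) w.2
    suffices h : ∀ t : A' ⊗[A] S, ∃ z ∈ Submodule.span S (↑(G.image f) : Set (integralClosure S (FractionRing S))),
        (z : FractionRing S) = strictMul A' t by
      obtain ⟨z, hz, hzt⟩ := h t
      rwa [show w = z from Subtype.ext (ht.symm.trans hzt.symm)]
    intro t
    induction t using TensorProduct.induction_on with
    | zero => exact ⟨0, zero_mem _, by simp⟩
    | tmul a s =>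
      obtain ⟨y, hy, hya⟩ := (mem_range_normBase hE ρ hρinj _).mp ((hA' _).mp a.2)
      have hymem : f ⟨y, hy⟩ ∈ Submodule.span S (↑(G.image f) : Set (integralClosure S (FractionRing S))) := by
        have h : (⟨y, hy⟩ : normBase A E) ∈ Submodule.span A (G : Set (normBase A E)) :=
          hG ▸ Submodule.mem_top
        refine Submodule.span_induction (fun z hz => ?_) ?_ (fun z z' _ _ h h' => ?_) (fun c z _ h => ?_) h
        · exact Submodule.subset_span (by simpa using ⟨z.1, z.2, hz, rfl⟩)
        · rw [show f 0 = 0 from Subtype.ext (map_zero ρ)]; exact zero_mem _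
        · rw [show f (z + z') = f z + f z' from Subtype.ext (map_add ρ _ _)]; exact add_mem h h'
        · rw [show f (c • z) = algebraMap A S c • f z from Subtype.ext (by
            show ρ (c • (z : FractionRing E)) = algebraMap A S c • ρ (z : FractionRing E)
            rw [map_smul, algebraMap_smul])]
          exact Submodule.smul_mem _ _ h
      refine ⟨s • f ⟨y, hy⟩, Submodule.smul_mem _ _ hymem, ?_⟩
      rw [Algebra.TensorProduct.productMap_apply_tmul]
      show s • ρ y = _
      rw [hya, Algebra.smul_def, mul_comm]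
      rfl
    | add t t' h h' =>
      obtain ⟨z, hz, hzt⟩ := h
      obtain ⟨z', hz', hzt'⟩ := h'
      exact ⟨z + z', add_mem hz hz', by rw [map_add, Subalgebra.coe_add, hzt, hzt']⟩
  haveI : Algebra.IsIntegral S (integralClosure S (FractionRing S)) := Algebra.IsIntegral.of_finite _ _
  refine (Algebra.QuasiFinite.finite_primesOver (maximalIdeal S)
    (S := integralClosure S (FractionRing S))).subset fun M hM => ?_
  haveI : M.IsMaximal := hM
  exact ⟨hM.isPrime, ⟨(IsLocalRing.eq_maximalIdeal
    (Ideal.isMaximal_comap_of_isIntegral_of_isMaximal (R := S) M)).symm⟩⟩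

/-- Congruence of an element with a tensor at all maximal ideals of the normalization. -/
def StrictCongr (A' : Subalgebra A (FractionRing S)) (x : FractionRing S) (t : A' ⊗[A] S) : Prop :=
  ∀ (M : Ideal (integralClosure S (FractionRing S))), M.IsMaximal →
    ∀ (w : integralClosure S (FractionRing S)), (w : FractionRing S) = x - strictMul A' t → w ∈ M

omit [IsReduced A] [IsNoetherianRing A] hS [IsLocalHom (algebraMap A S)] in
theorem mem_of_residue_eq (M : Ideal (integralClosure S (FractionRing S))) [M.IsMaximal] {s : S}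
    (hs : s ∈ maximalIdeal S) : algebraMap S (integralClosure S (FractionRing S)) s ∈ M := by
  rw [← IsLocalRing.eq_maximalIdeal (Ideal.isMaximal_comap_of_isIntegral_of_isMaximal (R := S) M)] at hs
  exact hs

variable (D : Subalgebra A S) [IsLocalRing D] [IsLocalHom (algebraMap D S)]
  (Dh : Type u) [CommRing Dh] [IsLocalRing Dh] [Algebra D Dh] [IsLocalHom (algebraMap D Dh)]
  [hDh : _root_.Hensel.IsHenselization D Dh] [Algebra Dh S] [IsScalarTower D Dh S]
  {D' : Subalgebra A (FractionRing S)} (hle : A' ≤ D') (ι : D →ₐ[A] D')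
  (hD' : ∀ x : (FractionRing S), x ∈ D' ↔ (IsIntegral D x ∧
    ∃ a ∈ nonZeroDivisors A, ∃ d ∈ D, algebraMap A (FractionRing S) a * x = algebraMap S (FractionRing S) d))
  (hι : ∀ d : D, (ι d : (FractionRing S)) = algebraMap S (FractionRing S) d)

include hDh in
omit [IsReduced A] [IsNoetherianRing A] hS [IsLocalHom (algebraMap A S)] in
theorem exists_sub_mem_of_range (z : Dh) :
    ∃ d : D, algebraMap Dh S z - (d : S) ∈ maximalIdeal S := by
  obtain ⟨d, hd⟩ := GrothLib.Hensel.IsHenselization.exists_sub_mem (R := D) (S := Dh) z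
  refine ⟨d, ?_⟩
  haveI := isLocalHom_henselization D Dh
  rw [show (d : S) = algebraMap Dh S (algebraMap D Dh d) from
    (IsScalarTower.algebraMap_apply D Dh S d), ← map_sub]
  exact fun hu => hd (IsLocalHom.map_nonunit _ hu)

include hA' hD' hι hDh in
/-- Elements generated by the normalization and the image of the henselization have residues generated
by the base normalization and the subring. -/
theorem exists_congr_of_mem_adjoin (hsurj : Function.Surjective
      ((Ideal.Quotient.mkₐ A (Ideal.jacobson (⊥ : Ideal D'))).comp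
        (Algebra.TensorProduct.productMap (Subalgebra.inclusion hle) ι)))
    (x : FractionRing S) (hx : x ∈ Algebra.adjoin A ((D' : Set (FractionRing S)) ∪
      Set.range (fun z : Dh => algebraMap S (FractionRing S) (algebraMap Dh S z)))) :
    ∃ t : A' ⊗[A] D, StrictCongr A' x (Algebra.TensorProduct.map (AlgHom.id A A') D.val t) := by
  suffices h : IsIntegral S x ∧ ∃ t : A' ⊗[A] D,
      StrictCongr A' x (Algebra.TensorProduct.map (AlgHom.id A A') D.val t) from h.2
  refine Algebra.adjoin_induction (fun y hy => ?_) (fun a => ?_) (fun y y' _ _ h h' => ?_)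
    (fun y y' _ _ h h' => ?_) hx
  · rcases hy with hy | ⟨z, rfl⟩
    · refine ⟨isIntegral_coe D hD' ⟨y, hy⟩, ?_⟩
      obtain ⟨t, ht⟩ := hsurj (Ideal.Quotient.mk _ ⟨y, hy⟩)
      rw [AlgHom.comp_apply, Ideal.Quotient.mkₐ_eq_mk, Ideal.Quotient.eq] at ht
      refine ⟨t, fun M hM w hw => ?_⟩
      haveI := hM
      have hmax := isMaximal_comap_toStrictNorm D ι hD' hι M
      have h1 := (sInf_le ⟨bot_le, hmax⟩ : Ideal.jacobson (⊥ : Ideal D') ≤ _) (neg_mem ht)
      rw [neg_sub] at h1
      rw [show w = toStrictNorm (isIntegral_coe D hD')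
          (⟨y, hy⟩ - Algebra.TensorProduct.productMap (Subalgebra.inclusion hle) ι t) from
        Subtype.ext (hw.trans (by
          show y - _ = ((⟨y, hy⟩ - _ : D') : FractionRing S)
          rw [Subalgebra.coe_sub, coe_productMap_map D hle ι hι t]))]
      exact h1
    · refine ⟨isIntegral_algebraMap, ?_⟩
      obtain ⟨d, hd⟩ := exists_sub_mem_of_range D Dh z
      refine ⟨1 ⊗ₜ d, fun M hM w hw => ?_⟩
      haveI := hM
      convert mem_of_residue_eq M hd using 1
      refine Subtype.ext (hw.trans ?_)
      rw [Algebra.TensorProduct.map_tmul, Algebra.TensorProduct.productMap_apply_tmul, map_one, map_one,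
        one_mul]
      exact (map_sub (algebraMap S (FractionRing S)) _ _).symm
  · refine ⟨isIntegral_algebraMap.tower_top, algebraMap A _ a, fun M hM w hw => ?_⟩
    have h0 : w = 0 := Subtype.ext (by rw [hw, AlgHom.commutes, AlgHom.commutes, sub_self]; rfl)
    rw [h0]
    exact zero_mem _
  · obtain ⟨hy, t, ht⟩ := h
    obtain ⟨hy', t', ht'⟩ := h'
    refine ⟨hy.add hy', t + t', fun M hM w hw => ?_⟩
    rw [map_add, map_add, add_sub_add_comm] at hw
    let w₁ : integralClosure S (FractionRing S) :=
      ⟨y, hy⟩ - ⟨strictMul A' (Algebra.TensorProduct.map (AlgHom.id A A') D.val t), isIntegral_productMap hA' _⟩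
    let w₂ : integralClosure S (FractionRing S) :=
      ⟨y', hy'⟩ - ⟨strictMul A' (Algebra.TensorProduct.map (AlgHom.id A A') D.val t'), isIntegral_productMap hA' _⟩
    rw [show w = w₁ + w₂ from Subtype.ext hw]
    exact add_mem (ht M hM w₁ rfl) (ht' M hM w₂ rfl)
  · obtain ⟨hy, t, ht⟩ := h
    obtain ⟨hy', t', ht'⟩ := h'
    refine ⟨hy.mul hy', t * t', fun M hM w hw => ?_⟩
    rw [map_mul, map_mul] at hw
    let z₁ : integralClosure S (FractionRing S) :=
      ⟨strictMul A' (Algebra.TensorProduct.map (AlgHom.id A A') D.val t), isIntegral_productMap hA' _⟩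
    let z₂ : integralClosure S (FractionRing S) :=
      ⟨strictMul A' (Algebra.TensorProduct.map (AlgHom.id A A') D.val t'), isIntegral_productMap hA' _⟩
    let w₁ : integralClosure S (FractionRing S) := ⟨y, hy⟩ - z₁
    let w₂ : integralClosure S (FractionRing S) := ⟨y', hy'⟩ - z₂
    rw [show w = w₁ * ⟨y', hy'⟩ + z₁ * w₂ from Subtype.ext (hw.trans (by
      simp only [Subalgebra.coe_add, Subalgebra.coe_mul, Subalgebra.coe_sub, w₁, w₂, z₁, z₂]
      ring))]
    exact add_mem (Ideal.mul_mem_right _ _ (ht M hM w₁ rfl)) (Ideal.mul_mem_left _ _ (ht' M hM w₂ rfl))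

include hD' hDh in
/-- Integral elements with numerator in the image of the henselization are generated by the
normalization and that image. -/
theorem mem_adjoin_of_range (hinj : Function.Injective (algebraMap Dh S)) (x : FractionRing S)
    (p : Polynomial Dh) (hp : p.Monic)
    (hpx : p.eval₂ ((algebraMap S (FractionRing S)).comp (algebraMap Dh S)) x = 0)
    {a : A} (ha : a ∈ nonZeroDivisors A) (z : Dh)
    (hz : algebraMap A (FractionRing S) a * x = algebraMap S (FractionRing S) (algebraMap Dh S z)) :
    x ∈ Algebra.adjoin A ((D' : Set (FractionRing S)) ∪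
      Set.range (fun z : Dh => algebraMap S (FractionRing S) (algebraMap Dh S z))) := by
  classical
  obtain ⟨hred, hmin⟩ := isReduced_subalgebra_strict (A := A) D
  haveI := hred
  haveI := GrothLib.Hensel.IsHenselization.flat (R := D) (S := Dh)
  obtain ⟨E, _, hsE, -, hE⟩ := exists_subalgebra_of_etaleStages
    (GrothLib.Hensel.IsHenselization.etaleStages (A := D) (S := Dh))
    ({z} ∪ (Finset.range (p.natDegree + 1)).image p.coeff)
  obtain ⟨hloc, -⟩ := fractionRing_structure hmin hE
  let f : E →ₐ[D] FractionRing S :=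
    ((IsScalarTower.toAlgHom D S (FractionRing S)).comp (IsScalarTower.toAlgHom D Dh S)).comp E.val
  have hu' : ∀ y : (nonZeroDivisors D).map (algebraMap D E), IsUnit (f y) := by
    rintro ⟨_, d, hd, rfl⟩
    rw [f.commutes]
    exact isUnit_algebraMap_subalgebra D hd
  obtain ⟨ρ, hρ⟩ : ∃ ρ : FractionRing E →ₐ[D] FractionRing S,
      ∀ e, ρ (algebraMap E (FractionRing E) e) = f e :=
    ⟨IsLocalization.liftAlgHom (f := f) hu', fun e => IsLocalization.lift_eq _ e⟩
  have hρinj : Function.Injective ρ := (injective_iff_map_eq_zero ρ).mpr fun w hw => by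
    obtain ⟨⟨e, m⟩, hem⟩ := IsLocalization.surj ((nonZeroDivisors D).map (algebraMap D E)) w
    have h1 : f e = 0 := by
      rw [← hρ, show algebraMap E (FractionRing E) e = w * algebraMap E (FractionRing E) m from hem.symm,
        map_mul, hw, zero_mul]
    have h2 : e = 0 := Subtype.ext (hinj ((IsFractionRing.injective S (FractionRing S)
      (h1.trans (map_zero _).symm)).trans (map_zero _).symm))
    exact (IsLocalization.map_units (FractionRing E) m).mul_left_eq_zero.mp
      (hem.trans (by rw [h2, map_zero]))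
  have haD : algebraMap A D a ∈ nonZeroDivisors D := by
    rw [mem_nonZeroDivisors_iff_right]
    intro w hw
    refine Subtype.ext (IsFractionRing.injective S (FractionRing S) ?_)
    have h1 := congrArg (algebraMap D (FractionRing S)) hw
    rw [map_mul, map_zero, ← IsScalarTower.algebraMap_apply] at h1
    exact ((isUnit_algebraMap_fraction_strict ha).mul_left_eq_zero.mp h1).trans (map_zero _).symm
  obtain ⟨v, hv⟩ := (isUnit_algebraMap_fractionRing (A := D) (E := E) hE haD).exists_right_inv
  have hzE : z ∈ E := hsE (by simp)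
  obtain ⟨y, hy⟩ : ∃ y, ρ y = x := by
    refine ⟨algebraMap E (FractionRing E) ⟨z, hzE⟩ * v, ?_⟩
    have h1 : algebraMap A (FractionRing S) a * ρ v = 1 := by
      rw [IsScalarTower.algebraMap_apply A D (FractionRing S), ← ρ.commutes, ← map_mul, hv, map_one]
    rw [map_mul, hρ]
    show algebraMap S (FractionRing S) (algebraMap Dh S z) * ρ v = x
    rw [← hz, mul_right_comm, h1, one_mul]
  have hcoeff : ∀ i, p.coeff i ∈ E := fun i => by
    by_cases hi : i < p.natDegree + 1
    · exact hsE (Finset.mem_union_right _ (Finset.mem_image_of_mem _ (Finset.mem_range.mpr hi)))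
    · rw [Polynomial.coeff_eq_zero_of_natDegree_lt (by omega)]
      exact zero_mem _
  obtain ⟨q, hqp, -, hqm⟩ := Polynomial.lifts_and_degree_eq_and_monic
    ((Polynomial.lifts_iff_coeff_lifts p).mpr fun i => ⟨⟨_, hcoeff i⟩, rfl⟩ :
      p ∈ Polynomial.lifts E.val.toRingHom) hp
  have hyint : IsIntegral E y := ⟨q, hqm, hρinj (by
    show ρ.toRingHom _ = ρ _
    rw [map_zero, Polynomial.hom_eval₂, show ρ.toRingHom.comp (algebraMap E (FractionRing E)) =
      ((algebraMap S (FractionRing S)).comp (algebraMap Dh S)).comp E.val.toRingHom from RingHom.ext hρ,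
      ← Polynomial.eval₂_map, hqp]
    rw [← hy] at hpx
    exact hpx)⟩
  rw [← hy]
  refine Algebra.adjoin_induction (p := fun w _ => ρ w ∈ Algebra.adjoin A _) (fun w hw => ?_)
    (fun e => ?_) (fun w w' _ _ h h' => ?_) (fun w w' _ _ h h' => ?_)
    (mem_adjoin_of_isIntegral hmin hE y hyint)
  · obtain ⟨hwi, d, hd, b, hdb⟩ := hw
    refine Algebra.subset_adjoin (Or.inl (mem_of_isIntegral_of_mul_mem D hD' (hwi.map ρ) hd b ?_))
    rw [← ρ.commutes, ← ρ.commutes, ← map_mul, hdb]
  · rw [hρ]
    exact Algebra.subset_adjoin (Or.inr ⟨(e : Dh), rfl⟩)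
  · rw [map_add]; exact add_mem h h'
  · rw [map_mul]; exact mul_mem h h'

set_option maxHeartbeats 800000 in
-- tensor products of subalgebras of total fraction rings
include hA' hD' hι hDh in
/-- An ind-essentially étale henselization gives the residual conditions. -/
theorem conditions_of_indEssentiallyEtale (hN : CAlg.IsNagata A)
    (hinj : Function.Injective (algebraMap Dh S))
    (hind : ∀ s : Finset S, (s : Set S) ⊆ Set.range (algebraMap Dh S) →
      ∃ E : Subalgebra A S, (s : Set S) ⊆ (E : Set S) ∧ (E : Set S) ⊆ Set.range (algebraMap Dh S) ∧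
        ∃ _ : IsLocalRing E, EGA4loc.IsEssentiallyEtale A E) :
    {N : Ideal D' | N.IsMaximal}.Finite ∧
      Function.Surjective ((Ideal.Quotient.mkₐ A (Ideal.jacobson (⊥ : Ideal D'))).comp
        (Algebra.TensorProduct.productMap (Subalgebra.inclusion hle) ι)) ∧
      RingHom.ker ((Ideal.Quotient.mkₐ A (Ideal.jacobson (⊥ : Ideal D'))).comp
        (Algebra.TensorProduct.productMap (Subalgebra.inclusion hle) ι)) =
        (Ideal.jacobson (⊥ : Ideal A')).map
            (Algebra.TensorProduct.includeLeft : A' →ₐ[A] A' ⊗[A] D) ⊔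
          (maximalIdeal D).map
            (Algebra.TensorProduct.includeRight : D →ₐ[A] A' ⊗[A] D) := by
  classical
  have hlift := fun (N : Ideal D') [N.IsMaximal] => exists_maximal_over_of_injective D Dh hD' hinj N
  refine ⟨?_, ?_, le_antisymm ?_ ?_⟩
  · refine ((finite_maximal_strictNorm hA' hN).image
      fun M => M.comap (toStrictNorm (isIntegral_coe D hD'))).subset fun N hN' => ?_
    haveI : N.IsMaximal := hN'
    obtain ⟨M, hM, hMN⟩ := hlift N
    exact ⟨M, hM, hMN⟩
  · intro q
    obtain ⟨x, rfl⟩ := Ideal.Quotient.mk_surjective q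
    obtain ⟨⟨p, hp, hpx⟩, a, ha, d, hd, had⟩ := (hD' _).mp x.2
    obtain ⟨E, hsE, hEr, hEloc, hE⟩ := hind
      ({d} ∪ (Finset.range (p.natDegree + 1)).image (fun i => ((p.coeff i : D) : S))) (by
        have hDr : ∀ d : D, (d : S) ∈ Set.range (algebraMap Dh S) := fun d =>
          ⟨algebraMap D Dh d, (IsScalarTower.algebraMap_apply D Dh S d).symm⟩
        intro s hs
        rcases Finset.mem_union.mp hs with hs | hs
        · rw [Finset.mem_singleton] at hs
          exact hs ▸ hDr ⟨d, hd⟩
        · obtain ⟨i, -, rfl⟩ := Finset.mem_image.mp hs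
          exact hDr _)
    haveI := hEloc
    obtain ⟨ρ, hρ, -, hρinj⟩ := exists_fracMap E hE
    obtain ⟨v, hv⟩ := (isUnit_algebraMap_fractionRing hE ha).exists_right_inv
    obtain ⟨y, hy⟩ : ∃ y, ρ y = (x : FractionRing S) := by
      refine ⟨algebraMap E (FractionRing E) ⟨d, hsE (by simp)⟩ * v, ?_⟩
      rw [map_mul, hρ, ← had, mul_right_comm, ← ρ.commutes, ← map_mul, hv, map_one, one_mul]
    have hyint : IsIntegral E y := by
      have hcoeff : ∀ i, ((p.coeff i : D) : S) ∈ E := fun i => by
        by_cases hi : i < p.natDegree + 1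
        · exact hsE (Finset.mem_union_right _ (Finset.mem_image_of_mem _ (Finset.mem_range.mpr hi)))
        · rw [Polynomial.coeff_eq_zero_of_natDegree_lt (by omega)]
          exact zero_mem _
      obtain ⟨q, hqp, -, hqm⟩ := Polynomial.lifts_and_degree_eq_and_monic
        ((Polynomial.lifts_iff_coeff_lifts _).mpr fun i =>
          ⟨⟨_, hcoeff i⟩, (Polynomial.coeff_map D.val.toRingHom i).symm⟩ :
          p.map D.val.toRingHom ∈ Polynomial.lifts E.val.toRingHom) (hp.map _)
      refine ⟨q, hqm, hρinj ?_⟩
      show ρ.toRingHom _ = ρ _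
      rw [map_zero, Polynomial.hom_eval₂, show ρ.toRingHom.comp (algebraMap E (FractionRing E)) =
        (algebraMap S (FractionRing S)).comp E.val.toRingHom from RingHom.ext hρ,
        ← Polynomial.eval₂_map, hqp, Polynomial.eval₂_map]
      rw [← hy] at hpx
      exact hpx
    obtain ⟨z, hz⟩ := (normMul_bijective (minimalPrimes.finite_of_isNoetherianRing A) hE).2 ⟨y, hyint⟩
    have hkey : ∀ z : normBase A E ⊗[A] E, ∃ t : A' ⊗[A] D,
        StrictCongr A' (ρ (normMul z : FractionRing E)) (Algebra.TensorProduct.map (AlgHom.id A A') D.val t) := by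
      intro z
      induction z using TensorProduct.induction_on with
      | zero =>
        refine ⟨0, fun M hM w hw => ?_⟩
        rw [show w = 0 from Subtype.ext (hw.trans (by simp))]
        exact zero_mem _
      | tmul b e =>
        obtain ⟨z₀, hz₀⟩ := hEr e.2
        obtain ⟨d₀, hd₀⟩ := exists_sub_mem_of_range D Dh z₀
        rw [hz₀] at hd₀
        have hb : ρ (b : FractionRing E) ∈ A' := (hA' _).mpr ((mem_range_normBase hE ρ hρinj _).mpr ⟨b, b.2, rfl⟩)
        refine ⟨⟨_, hb⟩ ⊗ₜ d₀, fun M hM w hw => ?_⟩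
        haveI := hM
        let b' : integralClosure S (FractionRing S) :=
          ⟨ρ (b : FractionRing E), (((hA' _).mp hb).1).tower_top⟩
        rw [show w = b' * algebraMap S _ ((e : S) - (d₀ : S)) from Subtype.ext (hw.trans (by
          rw [coe_normMul, map_mul, hρ, Algebra.TensorProduct.map_tmul,
            Algebra.TensorProduct.productMap_apply_tmul, Subalgebra.coe_mul]
          show _ = ρ (b : FractionRing E) * algebraMap S (FractionRing S) ((e : S) - (d₀ : S))
          rw [map_sub, mul_sub]
          rfl))]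
        exact Ideal.mul_mem_left _ _ (mem_of_residue_eq M hd₀)
      | add z z' h h' =>
        obtain ⟨t, ht⟩ := h
        obtain ⟨t', ht'⟩ := h'
        refine ⟨t + t', fun M hM w hw => ?_⟩
        rw [map_add, Subalgebra.coe_add, map_add, map_add, map_add, add_sub_add_comm] at hw
        have hint : ∀ z, IsIntegral S (ρ (normMul (A := A) (E := E) z : FractionRing E)) := fun z => by
          obtain ⟨q, hq, hqz⟩ := (normMul (A := A) (E := E) z).2
          refine ⟨q.map E.val.toRingHom, hq.map _, ?_⟩
          rw [Polynomial.eval₂_map, ← show ρ.toRingHom.comp (algebraMap E (FractionRing E)) =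
            (algebraMap S (FractionRing S)).comp E.val.toRingHom from RingHom.ext hρ]
          show Polynomial.eval₂ _ (ρ.toRingHom _) q = 0
          rw [← Polynomial.hom_eval₂, hqz, map_zero]
        let w₁ : integralClosure S (FractionRing S) :=
          ⟨_, hint z⟩ - ⟨strictMul A' (Algebra.TensorProduct.map (AlgHom.id A A') D.val t), isIntegral_productMap hA' _⟩
        let w₂ : integralClosure S (FractionRing S) :=
          ⟨_, hint z'⟩ - ⟨strictMul A' (Algebra.TensorProduct.map (AlgHom.id A A') D.val t'), isIntegral_productMap hA' _⟩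
        rw [show w = w₁ + w₂ from Subtype.ext hw]
        exact add_mem (ht M hM w₁ rfl) (ht' M hM w₂ rfl)
    obtain ⟨t, ht⟩ := hkey z
    refine ⟨t, ?_⟩
    rw [AlgHom.comp_apply, Ideal.Quotient.mkₐ_eq_mk, Ideal.Quotient.eq, ← neg_sub]
    refine neg_mem (Submodule.mem_sInf.mpr ?_)
    rintro (N : Ideal D') ⟨-, hN'⟩
    haveI := hN'
    obtain ⟨M, hM, hMN⟩ := hlift N
    rw [← hMN, Ideal.mem_comap]
    refine ht M hM _ ?_
    show ((x - _ : D') : FractionRing S) = _
    rw [Subalgebra.coe_sub, coe_productMap_map D hle ι hι t, hz, hy]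
  · intro t ht
    rw [RingHom.mem_ker, AlgHom.comp_apply, Ideal.Quotient.mkₐ_eq_mk, Ideal.Quotient.eq_zero_iff_mem] at ht
    haveI : IsLocalHom (algebraMap A D) := ⟨fun a ha => by
      have h := ha.map (algebraMap D S)
      rw [← IsScalarTower.algebraMap_apply] at h
      exact IsLocalHom.map_nonunit a h⟩
    refine mem_sup_of_map_mem (S := S) _ t (mem_map_of_forall_maximal hA' hN _
      (toStrictNorm (isIntegral_coe D hD') (Algebra.TensorProduct.productMap (Subalgebra.inclusion hle) ι t))
      (coe_productMap_map D hle ι hι t) fun M hM => ?_)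
    haveI := hM
    exact (sInf_le ⟨bot_le, isMaximal_comap_toStrictNorm D ι hD' hι M⟩ :
      Ideal.jacobson (⊥ : Ideal D') ≤ _) ht
  · exact sup_le_ker D hle ι hι (fun x => ((hD' _).mp x.2).1) (fun x => ((hA' _).mp x.2).1)

end GrothLib.EssEtLoc
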