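import Groth.Agent.Lib.EssEtLoc.Basic
import Groth.Agent.Lib.Hensel.Branches
import Groth.Agent.Lib.Hensel.Local
import Groth.Agent.Lib.Hensel.Reduced
import Mathlib.RingTheory.Ideal.GoingUp

/-!
# Strict henselizations along essentially étale and residually trivial finite maps
-/

universe u

open IsLocalRing TensorProduct

noncomputable section

namespace GrothLib.EssEtLoc

/-- A henselian local ring is a henselization of itself. -/
theorem isHenselization_self (R : Type u) [CommRing R] [HenselianLocalRing R]
    [IsLocalHom (algebraMap R R)] : _root_.Hensel.IsHenselization R R where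
  henselian := inferInstance
  universal T _ _ f _ := ⟨f, RingHom.ext fun _ => rfl, fun g hg => RingHom.ext fun x =>
    RingHom.congr_fun hg x⟩

variable {A E S : Type u} [CommRing A] [IsLocalRing A] [CommRing E] [IsLocalRing E]
  [CommRing S] [IsLocalRing S] [Algebra A S] [IsLocalHom (algebraMap A S)]
  [Algebra A E] [Algebra E S] [IsScalarTower A E S] [IsLocalHom (algebraMap E S)]

/-- A strict henselization is one of every essentially étale local algebra mapping into it. -/
theorem isStrictHenselization_of_essEt [hS : _root_.Hensel.IsStrictHenselization A S]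
    (hE : EGA4loc.IsEssentiallyEtale A E) : _root_.Hensel.IsStrictHenselization E S := by
  haveI := hS.henselian
  haveI := isLocalHom_algebraMap hE
  have hkA := hS.isSepClosure
  letI : Algebra (ResidueField A) (ResidueField E) := inferInstance
  haveI : IsScalarTower (ResidueField A) (ResidueField E) (ResidueField S) :=
    IsScalarTower.of_algebraMap_eq fun x => by
      obtain ⟨a, rfl⟩ := residue_surjective x
      show residue S (algebraMap A S a) = residue S (algebraMap E S (algebraMap A E a))
      rw [← IsScalarTower.algebraMap_apply]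
  refine { henselian := inferInstance, isSepClosure := ?_, universal := ?_ }
  · exact ⟨hkA.sep_closed, Algebra.isSeparable_tower_top_of_isSeparable (ResidueField A) _ _⟩
  intro T _ _ f _ τ hτ
  haveI : IsLocalHom (f.comp (algebraMap A E)) := RingHom.isLocalHom_comp _ _
  have hcomp : τ.comp (ResidueField.map (algebraMap A S)) =
      ResidueField.map (f.comp (algebraMap A E)) := by
    refine RingHom.ext fun x => ?_
    obtain ⟨a, rfl⟩ := residue_surjective x
    have := RingHom.congr_fun hτ (residue E (algebraMap A E a))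
    simp only [RingHom.comp_apply, ResidueField.map_residue] at this ⊢
    rwa [← IsScalarTower.algebraMap_apply] at this
  obtain ⟨g, ⟨hg, hgτ⟩, huniq⟩ := hS.universal T (f.comp (algebraMap A E)) τ hcomp
  letI : Algebra A T := (f.comp (algebraMap A E)).toAlgebra
  haveI : IsLocalHom (algebraMap A T) := ‹IsLocalHom (f.comp (algebraMap A E))›
  let u : E →ₐ[A] T :=
    { toRingHom := g.comp (algebraMap E S)
      commutes' := fun a => by
        show g (algebraMap E S (algebraMap A E a)) = _
        rw [← IsScalarTower.algebraMap_apply]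
        exact RingHom.congr_fun hg a }
  let v : E →ₐ[A] T := { toRingHom := f, commutes' := fun _ => rfl }
  have huv : u = v := algHom_ext_residue hE u v (RingHom.ext fun x => by
    show residue T (g (algebraMap E S x)) = residue T (f x)
    rw [hgτ]
    have := RingHom.congr_fun hτ (residue E x)
    simpa using this)
  refine ⟨g, ⟨congrArg AlgHom.toRingHom huv, hgτ⟩, fun g' ⟨hg', hgτ'⟩ => huniq g' ⟨?_, hgτ'⟩⟩
  rw [IsScalarTower.algebraMap_eq A E S, ← RingHom.comp_assoc, hg']

variable {C D : Type u} [CommRing C] [IsLocalRing C] [CommRing D] [HenselianLocalRing D]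
  [Algebra C D] [Module.Finite C D] [IsLocalHom (algebraMap C D)]
  [Algebra C S] [IsLocalHom (algebraMap C S)]

/-- The base change of a strict henselization along a finite residually trivial map to a henselian
local ring is a strict henselization. -/
theorem isStrictHenselization_tensor [hS : _root_.Hensel.IsStrictHenselization C S]
    (hres : Function.Bijective (ResidueField.map (algebraMap C D))) :
    ∃ (_ : IsLocalRing (D ⊗[C] S)) (_ : IsLocalHom (algebraMap D (D ⊗[C] S))),
      _root_.Hensel.IsStrictHenselization D (D ⊗[C] S) := by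
  haveI := hS.henselian
  let e := RingEquiv.ofBijective _ hres
  let G : D ⊗[C] S →ₐ[C] ResidueField S := Algebra.TensorProduct.lift
    ({ toRingHom := (ResidueField.map (algebraMap C S)).comp (e.symm.toRingHom.comp (residue D))
       commutes' := fun c => by
        show ResidueField.map (algebraMap C S) (e.symm (residue D (algebraMap C D c))) = _
        rw [show residue D (algebraMap C D c) = e (residue C c) from rfl, e.symm_apply_apply]
        rfl } : D →ₐ[C] ResidueField S)
    (IsScalarTower.toAlgHom C S (ResidueField S)) fun _ _ => Commute.all _ _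
  have hG : ∀ d s, G (d ⊗ₜ s) =
      ResidueField.map (algebraMap C S) (e.symm (residue D d)) * residue S s := fun _ _ => rfl
  have hGsurj : Function.Surjective G := fun x => by
    obtain ⟨s, rfl⟩ := residue_surjective x
    exact ⟨1 ⊗ₜ s, by rw [hG, map_one, map_one, map_one, one_mul]⟩
  letI : Algebra S (D ⊗[C] S) := Algebra.TensorProduct.rightAlgebra
  haveI : Module.Finite S (D ⊗[C] S) :=
    Module.Finite.equiv ({ Algebra.TensorProduct.comm C S D with
      commutes' := fun r => by
        show Algebra.TensorProduct.comm C S D (r ⊗ₜ 1) = algebraMap S (D ⊗[C] S) r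
        rfl } : (S ⊗[C] D) ≃ₐ[S] D ⊗[C] S).toLinearEquiv
  haveI : Algebra.IsIntegral S (D ⊗[C] S) := Algebra.IsIntegral.of_finite _ _
  let inS : S →+* D ⊗[C] S := algebraMap S (D ⊗[C] S)
  let J : Ideal (D ⊗[C] S) :=
    (maximalIdeal D).map (algebraMap D (D ⊗[C] S)) ⊔ (maximalIdeal S).map inS
  have hinS : ∀ s, inS s = 1 ⊗ₜ[C] s := fun _ => rfl
  have hinD : ∀ d, algebraMap D (D ⊗[C] S) d = d ⊗ₜ[C] 1 := fun _ => rfl
  have hdec : ∀ z : D ⊗[C] S, ∃ s, z - inS s ∈ J := by
    intro z
    induction z using TensorProduct.induction_on with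
    | zero => exact ⟨0, by simp⟩
    | add x y hx hy =>
      obtain ⟨s, hs⟩ := hx
      obtain ⟨t, ht⟩ := hy
      exact ⟨s + t, by rw [map_add, add_sub_add_comm]; exact add_mem hs ht⟩
    | tmul d s =>
      obtain ⟨c', hc⟩ := hres.2 (residue D d)
      obtain ⟨c, rfl⟩ := residue_surjective c'
      refine ⟨algebraMap C S c * s, Ideal.mem_sup_left ?_⟩
      have hm : d - algebraMap C D c ∈ maximalIdeal D := by
        rw [← residue_eq_zero_iff, map_sub, ← hc, ResidueField.map_residue, sub_self]
      rw [hinS, show d ⊗ₜ[C] s - (1 : D) ⊗ₜ[C] (algebraMap C S c * s) =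
          algebraMap D (D ⊗[C] S) (d - algebraMap C D c) * inS s by
        rw [hinS, hinD, Algebra.TensorProduct.tmul_mul_tmul, mul_one, one_mul, sub_tmul,
          ← Algebra.smul_def, tmul_smul, smul_tmul', Algebra.algebraMap_eq_smul_one]]
      exact Ideal.mul_mem_right _ _ (Ideal.mem_map_of_mem _ hm)
  have hJ0 : J ≤ RingHom.ker G := by
    refine sup_le (Ideal.map_le_iff_le_comap.mpr fun d hd => ?_)
      (Ideal.map_le_iff_le_comap.mpr fun s hs => ?_)
    · show G (d ⊗ₜ 1) = 0
      rw [hG, (residue_eq_zero_iff d).mpr hd, map_zero, map_zero, zero_mul]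
    · show G (1 ⊗ₜ s) = 0
      rw [hG, (residue_eq_zero_iff s).mpr hs, mul_zero]
  have hkerG : RingHom.ker G ≤ J := fun z hz => by
    obtain ⟨s, hs⟩ := hdec z
    have h0 := hJ0 hs
    rw [RingHom.mem_ker, map_sub, RingHom.mem_ker.mp hz, zero_sub, neg_eq_zero, hinS, hG,
      map_one, map_one, map_one, one_mul, residue_eq_zero_iff] at h0
    simpa using add_mem hs (Ideal.mem_sup_right (Ideal.mem_map_of_mem inS h0) : inS s ∈ J)
  haveI : Nontrivial (D ⊗[C] S) := G.toRingHom.domain_nontrivial
  haveI hmax : (RingHom.ker G).IsMaximal := RingHom.ker_isMaximal_of_surjective G hGsurj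
  have hover : ∀ M : Ideal (D ⊗[C] S), M.IsPrime → (maximalIdeal S).map inS ≤ M →
      M = RingHom.ker G := by
    intro M hM hle
    refine (hmax.eq_of_le hM.ne_top (hkerG.trans (sup_le ?_ hle))).symm
    rw [Ideal.map_le_iff_le_comap]
    haveI : (M.comap (algebraMap D (D ⊗[C] S))).IsPrime := hM.comap _
    haveI : Algebra.IsIntegral C D := Algebra.IsIntegral.of_finite C D
    refine ((IsLocalRing.eq_maximalIdeal (Ideal.isMaximal_of_isIntegral_of_isMaximal_comap (R := C)
      (M.comap (algebraMap D (D ⊗[C] S))) ?_))).ge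
    convert maximalIdeal.isMaximal C
    refine ((maximalIdeal.isMaximal C).eq_of_le (Ideal.IsPrime.ne_top inferInstance) ?_).symm
    intro c hc
    have h1 : inS (algebraMap C S c) ∈ M :=
      hle (Ideal.mem_map_of_mem inS (((local_hom_TFAE (algebraMap C S)).out 0 2 rfl rfl).mp ‹_›
        (Ideal.mem_map_of_mem _ hc)))
    show algebraMap D (D ⊗[C] S) (algebraMap C D c) ∈ M
    rwa [hinD, Algebra.algebraMap_eq_smul_one, smul_tmul, ← Algebra.algebraMap_eq_smul_one]
  haveI hlocT : IsLocalRing (D ⊗[C] S) := IsLocalRing.of_unique_max_ideal ⟨RingHom.ker G, hmax,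
    fun M hM => hover M hM.isPrime (by
      rw [Ideal.map_le_iff_le_comap,
        IsLocalRing.eq_maximalIdeal (Ideal.isMaximal_comap_of_isIntegral_of_isMaximal (R := S) M)])⟩
  have hmT : maximalIdeal (D ⊗[C] S) = RingHom.ker G := (IsLocalRing.eq_maximalIdeal hmax).symm
  haveI hlocD : IsLocalHom (algebraMap D (D ⊗[C] S)) :=
    ((local_hom_TFAE _).out 0 2 rfl rfl).mpr (hmT ▸ le_sup_left.trans hJ0)
  haveI hlocS : IsLocalHom inS :=
    ((local_hom_TFAE _).out 0 2 rfl rfl).mpr (hmT ▸ le_sup_right.trans hJ0)
  haveI : HenselianLocalRing (D ⊗[C] S) := by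
    have h1 := GrothLib.Hensel.henselianRing_of_isIntegral (maximalIdeal S) (D ⊗[C] S)
    have h2 : ((maximalIdeal S).map inS).radical = (maximalIdeal (D ⊗[C] S)).radical := by
      rw [Ideal.radical_eq_sInf, (maximalIdeal.isMaximal (D ⊗[C] S)).isPrime.radical]
      refine le_antisymm (sInf_le ⟨hmT ▸ le_sup_right.trans hJ0, inferInstance⟩)
        (le_sInf fun M ⟨hM, hMp⟩ => ?_)
      rw [hover M hMp hM, hmT]
    exact GrothLib.Hensel.henselianLocalRing_of_henselianRing
      ((GrothLib.Hensel.henselianRing_iff_of_radical_eq h2).mp h1)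
  -- residue fields
  let ρ : ResidueField S →+* ResidueField (D ⊗[C] S) := ResidueField.map inS
  have hρ : Function.Bijective ρ := ⟨ρ.injective, fun x => by
    obtain ⟨z, rfl⟩ := residue_surjective x
    obtain ⟨s, hs⟩ := hdec z
    refine ⟨residue S s, ?_⟩
    rw [ResidueField.map_residue]
    exact (Ideal.Quotient.eq.mpr (hmT ▸ hJ0 hs)).symm⟩
  let eS := RingEquiv.ofBijective ρ hρ
  have hCDS : ∀ c, inS (algebraMap C S c) = algebraMap D (D ⊗[C] S) (algebraMap C D c) := fun c => by
    rw [hinD, hinS, Algebra.algebraMap_eq_smul_one, Algebra.algebraMap_eq_smul_one, smul_tmul]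
  have hsq : (algebraMap (ResidueField D) (ResidueField (D ⊗[C] S))).comp e.toRingHom =
      eS.toRingHom.comp (algebraMap (ResidueField C) (ResidueField S)) := RingHom.ext fun x => by
    obtain ⟨c, rfl⟩ := residue_surjective x
    show residue (D ⊗[C] S) (algebraMap D _ (algebraMap C D c)) =
      residue (D ⊗[C] S) (inS (algebraMap C S c))
    rw [hCDS]
  refine ⟨hlocT, hlocD, { henselian := inferInstance, isSepClosure := ?_, universal := ?_ }⟩
  · haveI := hS.isSepClosure.sep_closed
    haveI : Algebra.IsSeparable (ResidueField C) (ResidueField S) := hS.isSepClosure.separable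
    refine ⟨IsSepClosed.of_exists_root _ fun p hp hirr hsep => ?_, Algebra.IsSeparable.of_equiv_equiv e eS hsq⟩
    obtain ⟨x, hx⟩ := IsSepClosed.exists_root (p.map eS.symm.toRingHom)
      (by rw [Polynomial.degree_map]; exact (Polynomial.degree_pos_of_irreducible hirr).ne')
      hsep.map
    refine ⟨eS x, eS.symm.injective ?_⟩
    rw [map_zero, show eS.symm (p.eval (eS x)) = (p.map eS.symm.toRingHom).eval (eS.symm (eS x)) from
      (Polynomial.eval_map_apply (f := eS.symm.toRingHom) (p := p) (eS x)).symm, eS.symm_apply_apply]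
    exact hx
  intro T' _ _ f _ τ hτ
  haveI : IsLocalHom (f.comp (algebraMap C D)) := RingHom.isLocalHom_comp _ _
  let τ' := τ.comp ρ
  have hτ' : τ'.comp (ResidueField.map (algebraMap C S)) =
      ResidueField.map (f.comp (algebraMap C D)) := RingHom.ext fun x => by
    obtain ⟨c, rfl⟩ := residue_surjective x
    have := RingHom.congr_fun hτ (residue D (algebraMap C D c))
    simp only [RingHom.comp_apply, ResidueField.map_residue, τ', ρ] at this ⊢
    rwa [hCDS]
  obtain ⟨g₀, ⟨hg₀, hg₀τ⟩, huniq⟩ := hS.universal T' (f.comp (algebraMap C D)) τ' hτ'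
  letI : Algebra C T' := (f.comp (algebraMap C D)).toAlgebra
  let g : D ⊗[C] S →ₐ[C] T' := Algebra.TensorProduct.lift
    ({ toRingHom := f, commutes' := fun _ => rfl } : D →ₐ[C] T')
    ({ toRingHom := g₀, commutes' := RingHom.congr_fun hg₀ } : S →ₐ[C] T') fun _ _ => Commute.all _ _
  have hg : ∀ d s, g (d ⊗ₜ s) = f d * g₀ s := fun _ _ => rfl
  refine ⟨g.toRingHom, ⟨RingHom.ext fun d => ?_, fun z => ?_⟩, fun g' ⟨hg'f, hg'τ⟩ => ?_⟩
  · show g (d ⊗ₜ 1) = f d
    rw [hg, map_one, mul_one]
  · induction z using TensorProduct.induction_on with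
    | zero => simp
    | add x y hx hy => simp only [map_add, hx, hy]
    | tmul d s =>
      show residue T' (g (d ⊗ₜ s)) = τ (residue _ (d ⊗ₜ s))
      rw [hg, map_mul, hg₀τ, show d ⊗ₜ[C] s = algebraMap D (D ⊗[C] S) d * inS s by
        rw [hinD, hinS, Algebra.TensorProduct.tmul_mul_tmul, mul_one, one_mul], map_mul, map_mul]
      congr 1
      exact (RingHom.congr_fun hτ (residue D d)).symm
  · have h1 : g'.comp inS = g₀ := huniq _ ⟨RingHom.ext fun c => by
      show g' (inS (algebraMap C S c)) = f (algebraMap C D c)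
      rw [hCDS]
      exact RingHom.congr_fun hg'f _, fun s => (hg'τ (inS s)).trans rfl⟩
    refine RingHom.ext fun z => ?_
    induction z using TensorProduct.induction_on with
    | zero => simp
    | add x y hx hy => rw [map_add, map_add, hx, hy]
    | tmul d s =>
      rw [show d ⊗ₜ[C] s = algebraMap D (D ⊗[C] S) d * inS s by
        rw [hinD, hinS, Algebra.TensorProduct.tmul_mul_tmul, mul_one, one_mul], map_mul, map_mul]
      congr 1
      · refine (RingHom.congr_fun hg'f d).trans ?_
        show f d = g (d ⊗ₜ 1)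
        rw [hg, map_one, mul_one]
      · refine (RingHom.congr_fun h1 s).trans ?_
        show g₀ s = g (1 ⊗ₜ s)
        rw [hg, map_one, one_mul]

end GrothLib.EssEtLoc
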