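import Groth.Agent.Lib.EssEtLoc.StrictCriterion
import Groth.Agent.Lib.EssEtLoc.Semilocal
import Groth.Agent.Lib.EssEtLoc.FracApps
import Groth.Agent.Lib.N2.Reduced

/-!
# Normalizations in the fraction ring of a strict henselization
-/

universe u

open IsLocalRing TensorProduct Polynomial

noncomputable section

namespace GrothLib.EssEtLoc

/-- The normalization of a Nagata base inside an essentially étale algebra is finite. -/
theorem finite_normBase {A E : Type u} [CommRing A] [IsLocalRing A] [IsReduced A]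
    [IsNoetherianRing A] [CommRing E] [Algebra A E] (hN : CAlg.IsNagata A)
    (hE : EGA4loc.IsEssentiallyEtale A E) : Module.Finite A (normBase A E) := by
  haveI := essFiniteType hE
  haveI := isReduced_of_isEssentiallyEtale hE
  haveI : IsReduced (FractionRing E) := inferInstanceAs (IsReduced (Localization (nonZeroDivisors E)))
  haveI : Algebra.EssFiniteType E (FractionRing E) :=
    Algebra.EssFiniteType.of_isLocalization _ (nonZeroDivisors E)
  haveI : Algebra.EssFiniteType A (FractionRing E) := Algebra.EssFiniteType.comp A E _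
  haveI := GrothLib.N2.finite_integralClosure_of_essFiniteType hN (FractionRing E)
  haveI : IsNoetherian A (integralClosure A (FractionRing E)) :=
    isNoetherian_of_isNoetherianRing_of_finite _ _
  have h : normBase A E ≤ integralClosure A (FractionRing E) := inf_le_left
  exact Module.Finite.of_injective (Subalgebra.inclusion h).toLinearMap
    (Subalgebra.inclusion_injective h)

variable {A S : Type u} [CommRing A] [IsLocalRing A] [IsReduced A] [IsNoetherianRing A] [CommRing S]
  [IsLocalRing S] [Algebra A S] [IsLocalHom (algebraMap A S)]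
  [hS : _root_.Hensel.IsStrictHenselization A S]

omit [IsNoetherianRing A] [IsLocalRing S] [IsLocalHom (algebraMap A S)] hS in
theorem mem_range_normBase {E : Subalgebra A S}
    (hE : EGA4loc.IsEssentiallyEtale A E) (ρ : FractionRing E →ₐ[A] FractionRing S)
    (hρinj : Function.Injective ρ) (x : FractionRing S) :
    (IsIntegral A x ∧ ∃ a ∈ nonZeroDivisors A, ∃ b : A,
        algebraMap A (FractionRing S) a * x = algebraMap A (FractionRing S) b) ↔
      ∃ y ∈ normBase A E, ρ y = x := by
  constructor
  · rintro ⟨hx, a, ha, b, hab⟩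
    obtain ⟨v, hv⟩ := (isUnit_algebraMap_fractionRing hE ha).exists_right_inv
    have hρy : ρ (algebraMap A (FractionRing E) b * v) = x := by
      have h1 : algebraMap A (FractionRing S) a * ρ v = 1 := by
        rw [← ρ.commutes, ← map_mul, hv, map_one]
      rw [map_mul, ρ.commutes, ← hab, mul_right_comm, h1, one_mul]
    refine ⟨_, mem_normBase_iff.mpr ⟨?_, a, ha, b, by rw [mul_left_comm, hv, mul_one]⟩, hρy⟩
    exact (isIntegral_algHom_iff ρ hρinj).mp (hρy.symm ▸ hx)
  · rintro ⟨y, hy, rfl⟩
    obtain ⟨hi, a, ha, b, hab⟩ := mem_normBase_iff.mp hy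
    exact ⟨hi.map ρ, a, ha, b, by rw [← ρ.commutes, ← map_mul, hab, ρ.commutes]⟩

omit [IsNoetherianRing A] [IsLocalRing S] [IsLocalHom (algebraMap A S)] hS in
theorem mem_range_normSub {E : Subalgebra A S}
    (hE : EGA4loc.IsEssentiallyEtale A E) (ρ : FractionRing E →ₐ[A] FractionRing S)
    (hρ : ∀ e : E, ρ (algebraMap E (FractionRing E) e) = algebraMap S (FractionRing S) (e : S))
    (hρinj : Function.Injective ρ) {D : Subalgebra A S} (hDE : D ≤ E) (x : FractionRing S) :
    (IsIntegral D x ∧ ∃ a ∈ nonZeroDivisors A, ∃ d ∈ D,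
        algebraMap A (FractionRing S) a * x = algebraMap S (FractionRing S) d) ↔
      ∃ y ∈ normSub (D.comap E.val), ρ y = x := by
  let D₀ := D.comap E.val
  let f : D₀ →+* D :=
    { toFun := fun d => ⟨((d : E) : S), d.2⟩
      map_one' := rfl
      map_mul' := fun _ _ => rfl
      map_zero' := rfl
      map_add' := fun _ _ => rfl }
  let g : D →+* D₀ :=
    { toFun := fun d => ⟨⟨d, hDE d.2⟩, d.2⟩
      map_one' := rfl
      map_mul' := fun _ _ => rfl
      map_zero' := rfl
      map_add' := fun _ _ => rfl }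
  have hf : ρ.toRingHom.comp (algebraMap D₀ (FractionRing E)) =
      (algebraMap D (FractionRing S)).comp f := RingHom.ext fun d => hρ (d : E)
  constructor
  · rintro ⟨hx, a, ha, d, hd, had⟩
    obtain ⟨v, hv⟩ := (isUnit_algebraMap_fractionRing hE ha).exists_right_inv
    have hρy : ρ (algebraMap E (FractionRing E) ⟨d, hDE hd⟩ * v) = x := by
      have h1 : algebraMap A (FractionRing S) a * ρ v = 1 := by
        rw [← ρ.commutes, ← map_mul, hv, map_one]
      rw [map_mul, hρ, ← had, mul_right_comm, h1, one_mul]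
    refine ⟨_, ⟨?_, a, ha, ⟨d, hDE hd⟩, hd, by rw [mul_left_comm, hv, mul_one]⟩, hρy⟩
    obtain ⟨p, hp, hpx⟩ := hx
    refine ⟨p.map g, hp.map g, hρinj ?_⟩
    show ρ.toRingHom _ = ρ _
    rw [map_zero, hom_eval₂, eval₂_map, hf, RingHom.comp_assoc,
      show f.comp g = RingHom.id D from RingHom.ext fun _ => rfl, RingHom.comp_id]
    show eval₂ _ (ρ _) p = 0
    rw [hρy]
    exact hpx
  · rintro ⟨y, ⟨⟨p, hp, hpy⟩, a, ha, d, hd, had⟩, rfl⟩
    refine ⟨⟨p.map f, hp.map f, ?_⟩, a, ha, (d : S), hd, ?_⟩
    · rw [eval₂_map, ← hf]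
      show eval₂ _ (ρ.toRingHom y) p = 0
      rw [← hom_eval₂, hpy, map_zero]
    · rw [← ρ.commutes, ← map_mul, had, hρ]

variable (D : Subalgebra A S) [IsLocalRing D] [IsLocalHom (algebraMap D S)]
  {A' D' : Subalgebra A (FractionRing S)} (hle : A' ≤ D') (ι : D →ₐ[A] D')

omit [IsReduced A] [IsNoetherianRing A] hS [IsLocalHom (algebraMap A S)] [IsLocalHom (algebraMap D S)] in
/-- Maximal ideals of an integral extension lie over the maximal ideal. -/
theorem comap_eq_maximalIdeal (hι : ∀ d : D, (ι d : FractionRing S) = algebraMap S (FractionRing S) d)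
    (hint : ∀ x : D', IsIntegral D (x : FractionRing S)) (N : Ideal D') [N.IsMaximal] :
    Ideal.comap ι.toRingHom N = maximalIdeal D := by
  have hc := Ideal.isMaximal_comap_of_isIntegral_of_isMaximal' ι.toRingHom (fun z => by
    obtain ⟨p, hp, hpz⟩ := hint z
    refine ⟨p, hp, Subtype.ext ?_⟩
    have hcomp : D'.val.toRingHom.comp ι.toRingHom = algebraMap D (FractionRing S) :=
      RingHom.ext fun d => hι d
    show D'.val.toRingHom (eval₂ ι.toRingHom z p) = _
    rw [hom_eval₂, hcomp]
    exact hpz) N
  exact IsLocalRing.eq_maximalIdeal hc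

omit [IsReduced A] [IsNoetherianRing A] hS in
/-- The two radicals map into the radical. -/
theorem sup_le_ker (hι : ∀ d : D, (ι d : FractionRing S) = algebraMap S (FractionRing S) d)
    (hint : ∀ x : D', IsIntegral D (x : FractionRing S))
    (hintA : ∀ x : A', IsIntegral A (x : FractionRing S)) :
    (Ideal.jacobson (⊥ : Ideal A')).map
        (Algebra.TensorProduct.includeLeft : A' →ₐ[A] A' ⊗[A] D) ⊔
      (maximalIdeal D).map (Algebra.TensorProduct.includeRight : D →ₐ[A] A' ⊗[A] D) ≤
      RingHom.ker ((Ideal.Quotient.mkₐ A (Ideal.jacobson (⊥ : Ideal D'))).comp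
        (Algebra.TensorProduct.productMap (Subalgebra.inclusion hle) ι)) := by
  refine sup_le (Ideal.map_le_iff_le_comap.mpr fun a ha => ?_)
    (Ideal.map_le_iff_le_comap.mpr fun d hd => ?_)
  · rw [Ideal.mem_comap, RingHom.mem_ker, AlgHom.comp_apply, Ideal.Quotient.mkₐ_eq_mk,
      Ideal.Quotient.eq_zero_iff_mem, Algebra.TensorProduct.includeLeft_apply,
      Algebra.TensorProduct.productMap_apply_tmul, map_one, mul_one]
    refine Submodule.mem_sInf.mpr ?_
    rintro (N : Ideal D') ⟨-, hN⟩
    haveI := hN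
    haveI : (N.comap (Subalgebra.inclusion hle)).IsPrime := hN.isPrime.comap _
    haveI : IsLocalHom (algebraMap A D) := ⟨fun a ha => by
      have h := ha.map (algebraMap D S)
      rw [← IsScalarTower.algebraMap_apply] at h
      exact IsLocalHom.map_nonunit a h⟩
    haveI : Algebra.IsIntegral A A' := ⟨fun x => by
      obtain ⟨p, hp, hpx⟩ := hintA x
      refine ⟨p, hp, Subtype.ext ?_⟩
      show A'.val.toRingHom (eval₂ (algebraMap A A') x p) = _
      rw [hom_eval₂]
      exact hpx⟩
    have hP : (N.comap (Subalgebra.inclusion hle)).IsMaximal := by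
      refine Ideal.isMaximal_of_isIntegral_of_isMaximal_comap (R := A) _ ?_
      convert maximalIdeal.isMaximal A
      ext x
      show Subalgebra.inclusion hle (algebraMap A A' x) ∈ N ↔ _
      rw [AlgHom.commutes, ← ι.commutes]
      show algebraMap A D x ∈ Ideal.comap ι.toRingHom N ↔ _
      rw [comap_eq_maximalIdeal D ι hι hint N]
      exact ⟨fun h hx => h (hx.map _), fun h hx => h (IsLocalHom.map_nonunit x hx)⟩
    exact (sInf_le ⟨bot_le, hP⟩ : Ideal.jacobson (⊥ : Ideal A') ≤ _) ha
  · rw [Ideal.mem_comap, RingHom.mem_ker, AlgHom.comp_apply, Ideal.Quotient.mkₐ_eq_mk,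
      Ideal.Quotient.eq_zero_iff_mem, Algebra.TensorProduct.includeRight_apply,
      Algebra.TensorProduct.productMap_apply_tmul, map_one, one_mul]
    refine Submodule.mem_sInf.mpr ?_
    rintro (N : Ideal D') ⟨-, hN⟩
    haveI := hN
    have h := comap_eq_maximalIdeal D ι hι hint N
    rw [← h] at hd
    exact hd

end GrothLib.EssEtLoc
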